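import Cfsg.Agent.Lib.SLCover.Basic
import Cfsg.Agent.Lib.SLComm.Basic

/-!
# Lifting products from a quotient by an eigenline
-/

set_option autoImplicit false
set_option linter.unusedSectionVars false

namespace CfsgLib.SLCover

open Module CfsgLib.SLComm

universe u

variable {K : Type u} [Field K]
variable {V W : Type u} [AddCommGroup V] [Module K V] [AddCommGroup W] [Module K W]
  [FiniteDimensional K V] [FiniteDimensional K W]

/-- Coordinates with a given first vector. -/
theorem exists_frame {k : ℕ} (hn : finrank K V = k + 1) {v : V} (hv : v ≠ 0) :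
    ∃ f : (K × (Fin k → K)) ≃ₗ[K] V, f (1, 0) = v := by
  have h0 : ((1 : K), (0 : Fin k → K)) ≠ 0 := fun h => one_ne_zero (congrArg Prod.fst h)
  obtain ⟨f, hf⟩ := exists_equiv_family (K := K) (V := K × (Fin k → K)) (W := V)
    (by rw [finrank_prod, finrank_self, finrank_fin_fun, hn, add_comm])
    (a := fun _ : Fin 1 => ((1 : K), (0 : Fin k → K))) (b := fun _ : Fin 1 => v)
    (LinearIndependent.of_subsingleton 0 h0) (LinearIndependent.of_subsingleton 0 hv)
  exact ⟨f, hf 0⟩

/-- The row of a map in a frame. -/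
def frRow (f : (K × W) ≃ₗ[K] V) (U : End K V) : W →ₗ[K] K :=
  LinearMap.fst K K W ∘ₗ (f.symm : V →ₗ[K] K × W) ∘ₗ U ∘ₗ (f : K × W →ₗ[K] V) ∘ₗ LinearMap.inr K K W

/-- The quotient of a map in a frame. -/
def frQuo (f : (K × W) ≃ₗ[K] V) (U : End K V) : End K W :=
  LinearMap.snd K K W ∘ₗ (f.symm : V →ₗ[K] K × W) ∘ₗ U ∘ₗ (f : K × W →ₗ[K] V) ∘ₗ LinearMap.inr K K W

theorem frQuo_apply (f : (K × W) ≃ₗ[K] V) (U : End K V) (w : W) :
    frQuo f U w = (f.symm (U (f (0, w)))).2 := rfl

/-- A map fixing the first line is triangular. -/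
theorem frame_upper (f : (K × W) ≃ₗ[K] V) {U : End K V} {c : K}
    (hU : U (f (1, 0)) = c • f (1, 0)) (p : K × W) :
    U (f p) = f (upper (c • 1) (frRow f U) (frQuo f U) p) := by
  have h1 : p = p.1 • ((1 : K), (0 : W)) + (0, p.2) := by simp
  apply f.symm.injective
  rw [LinearEquiv.symm_apply_apply]
  conv_lhs => rw [h1, map_add, map_smul, map_add, map_smul, hU, map_add, map_smul, map_smul,
    LinearEquiv.symm_apply_apply]
  refine Prod.ext ?_ ?_
  · simp [frRow, mul_comm]
  · simp [frQuo]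

theorem cj_frame (f : (K × W) ≃ₗ[K] V) {U : End K V} {c : K}
    (hU : U (f (1, 0)) = c • f (1, 0)) :
    Cj (upper (c • (1 : End K K)) (frRow f U) (frQuo f U)) U :=
  ⟨f, fun p => (frame_upper f hU p).symm⟩

theorem det_frame (f : (K × W) ≃ₗ[K] V) {U : End K V} {c : K}
    (hU : U (f (1, 0)) = c • f (1, 0)) :
    LinearMap.det U = c * LinearMap.det (frQuo f U) := by
  rw [(cj_frame f hU).det_eq, det_upper, LinearMap.det_smul, map_one, mul_one, finrank_self,
    pow_one]

theorem upper_mul_upper (a b : K) (r s : W →ₗ[K] K) (A B : End K W) :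
    upper (a • (1 : End K K)) r A * upper (b • (1 : End K K)) s B =
      upper ((a * b) • (1 : End K K)) (a • s + r ∘ₗ B) (A * B) :=
  LinearMap.ext fun p => Prod.ext (by simp; ring) (by simp)

theorem prod_common {b : W} {ι : Type*} {lam : ι → K} {X : ι → End K W} :
    ∀ L : List ι, (∀ e ∈ L, X e b = lam e • b) → (L.map X).prod b = (L.map lam).prod • b := by
  intro L
  induction L with
  | nil => intro _; simp
  | cons e L ih =>
    intro h
    rw [List.map_cons, List.prod_cons, List.map_cons, List.prod_cons, Module.End.mul_apply,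
      ih fun e' he' => h e' (List.mem_cons_of_mem _ he'), map_smul, h e (List.mem_cons_self ..),
      smul_smul, mul_comm]

/-- Rows of products of maps above given ones. -/
theorem rows {ι : Type*} {lam : ι → K} {X : ι → End K W} {R : ι → End K (K × W) → Prop} :
    ∀ L : List ι, (∀ e ∈ L, lam e ≠ 0 ∧ ∃ φ : W →ₗ[K] K, ∀ ψ : W →ₗ[K] K,
      R e (upper (lam e • 1) (φ + ψ ∘ₗ (X e - lam e • 1)) (X e))) →
    ∃ a : W →ₗ[K] K, ∀ ρ : W →ₗ[K] K, (∀ b, (∀ e ∈ L, X e b = lam e • b) → ρ b = a b) →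
      ∃ Ys : List (End K (K × W)),
        List.Forall₂ (fun e Y => R e Y ∧ ∃ φ, Y = upper (lam e • 1) φ (X e)) L Ys ∧
        Ys.prod = upper ((L.map lam).prod • 1) ρ (L.map X).prod := by
  intro L
  induction L with
  | nil =>
    intro _
    refine ⟨0, fun ρ hρ => ⟨[], List.Forall₂.nil, ?_⟩⟩
    have h0 : ρ = 0 := LinearMap.ext fun b => hρ b (by simp)
    refine LinearMap.ext fun p => Prod.ext ?_ ?_ <;> simp [h0]
  | cons e L ih =>
    intro hL
    obtain ⟨hlam, φ, hφ⟩ := hL e (List.mem_cons_self ..)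
    obtain ⟨a, ha⟩ := ih fun e' he' => hL e' (List.mem_cons_of_mem _ he')
    set P := (L.map X).prod with hP
    set μ := (L.map lam).prod with hμdef
    have hμ : μ ≠ 0 := List.prod_ne_zero fun h0 => by
      obtain ⟨e', he', h⟩ := List.mem_map.1 h0
      exact (hL e' (List.mem_cons_of_mem _ he')).1 h
    refine ⟨lam e • a + φ ∘ₗ P, fun ρ hρ => ?_⟩
    -- the common eigenvectors of the tail
    let C : Submodule K W :=
      { carrier := {b | ∀ e' ∈ L, X e' b = lam e' • b}
        add_mem' := fun {x y} hx hy e' he' => by rw [map_add, hx e' he', hy e' he', smul_add]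
        zero_mem' := fun e' _ => by simp
        smul_mem' := fun c x hx e' he' => by rw [map_smul, hx e' he', smul_comm] }
    let T : C →ₗ[K] W := (X e - lam e • (1 : End K W)) ∘ₗ C.subtype
    let d : C →ₗ[K] K := μ⁻¹ • ((ρ - (lam e • a + φ ∘ₗ P)) ∘ₗ C.subtype)
    obtain ⟨ψ, hψ⟩ : ∃ ψ : W →ₗ[K] K, ψ ∘ₗ T = d := by
      have : d ∈ LinearMap.range T.dualMap := by
        rw [LinearMap.range_dualMap_eq_dualAnnihilator_ker, Submodule.mem_dualAnnihilator]
        rintro ⟨b, hb⟩ hk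
        have h1 : X e b = lam e • b := by
          have := LinearMap.mem_ker.1 hk
          simpa [T, sub_eq_zero] using this
        have h2 := hρ b (List.forall_mem_cons.2 ⟨h1, hb⟩)
        simp only [d, LinearMap.smul_apply, LinearMap.comp_apply, LinearMap.sub_apply,
          Submodule.subtype_apply, h2, sub_self, smul_zero]
      obtain ⟨ψ, hψ⟩ := this
      exact ⟨ψ, hψ⟩
    set ρ' : W →ₗ[K] K := (lam e)⁻¹ • (ρ - (φ + ψ ∘ₗ (X e - lam e • 1)) ∘ₗ P) with hρ'
    obtain ⟨Ys, hYs, hprod⟩ := ha ρ' fun b hb => by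
      have h1 : P b = μ • b := prod_common L hb
      have h2 := LinearMap.congr_fun hψ ⟨b, hb⟩
      simp only [T, d, LinearMap.comp_apply, LinearMap.smul_apply, LinearMap.sub_apply,
        LinearMap.add_apply, Submodule.subtype_apply, smul_eq_mul, Module.End.one_apply, h1,
        map_smul] at h2
      simp only [hρ', LinearMap.comp_apply, LinearMap.smul_apply, LinearMap.sub_apply,
        LinearMap.add_apply, smul_eq_mul, Module.End.one_apply, h1, map_smul]
      simp only [map_sub, map_smul, smul_eq_mul] at h2 ⊢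
      field_simp at h2 ⊢
      linear_combination -h2
    refine ⟨_ :: Ys, List.Forall₂.cons ⟨hφ ψ, _, rfl⟩ hYs, ?_⟩
    rw [List.prod_cons, hprod, upper_mul_upper, List.map_cons, List.prod_cons, List.map_cons,
      List.prod_cons, hρ', smul_smul, mul_inv_cancel₀ hlam, one_smul, sub_add_cancel]

/-- The maps above a similar quotient, by any determinant. -/
theorem exists_above {r : W →ₗ[K] K} {lam : K} {x' X : End K W} (h : Cj x' X) {d : K}
    (hd : d ≠ 0) : ∃ φ : W →ₗ[K] K, ∀ ψ : W →ₗ[K] K,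
      CjD d (upper (lam • 1) r x') (upper (lam • 1) (φ + ψ ∘ₗ (X - lam • 1)) X) := by
  obtain ⟨Q, hQ⟩ := h
  set q := LinearMap.det (Q : W →ₗ[K] W) with hq
  have hq0 : q ≠ 0 := (LinearEquiv.isUnit_det' Q).ne_zero
  refine ⟨(d / q) • (r ∘ₗ (Q.symm : W →ₗ[K] W)), fun ψ =>
    ⟨upper ((d / q) • 1) (ψ ∘ₗ (Q : W →ₗ[K] W)) (Q : W →ₗ[K] W), ?_,
      LinearMap.ext fun p => Prod.ext ?_ ?_⟩⟩
  · rw [det_upper, LinearMap.det_smul, map_one, mul_one, finrank_self, pow_one,
      div_mul_cancel₀ d hq0]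
  · simp [hQ]
    ring
  · simp [hQ]

/-- Lift a factorisation of the quotient. -/
theorem lift_all {ι : Type*} (lam : ι → K) (X : ι → End K W) (x : ι → End K V)
    (f : (K × W) ≃ₗ[K] V) (L : List ι)
    (hL : ∀ e ∈ L, lam e ≠ 0 ∧
      ∃ (r : W →ₗ[K] K) (x' : End K W), Cj (upper (lam e • 1) r x') (x e) ∧ Cj x' (X e))
    (hcom : ∀ b, b ≠ 0 → ∃ e ∈ L, X e b ≠ lam e • b) (U : End K V)
    (hU : U (f (1, 0)) = (L.map lam).prod • f (1, 0)) (hquo : frQuo f U = (L.map X).prod) :
    ∃ Ys : List (End K V), List.Forall₂ (fun e Y => CjD 1 (x e) Y ∧ ∃ φ : W →ₗ[K] K,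
      ∀ p, Y (f p) = f (upper (lam e • 1) φ (X e) p)) L Ys ∧ Ys.prod = U := by
  obtain ⟨a, ha⟩ := rows (lam := lam) (X := X) (R := fun e Y => CjD 1 (x e) (f.conj Y)) L
    fun e he => by
      obtain ⟨hl, r, x', ⟨g, hg⟩, hX⟩ := hL e he
      obtain ⟨d, hd, hdet⟩ : ∃ d : K, d ≠ 0 ∧ ∀ P : End K (K × W), LinearMap.det P = d →
          LinearMap.det ((f : K × W →ₗ[K] V) ∘ₗ P ∘ₗ (g.symm : V →ₗ[K] K × W)) = 1 := by
        set G : End K V := (f : K × W →ₗ[K] V) ∘ₗ (g.symm : V →ₗ[K] K × W) with hG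
        have hG0 : LinearMap.det G ≠ 0 := (LinearEquiv.isUnit_det' (g.symm.trans f)).ne_zero
        refine ⟨(LinearMap.det G)⁻¹, inv_ne_zero hG0, fun P hP => ?_⟩
        have : (f : K × W →ₗ[K] V) ∘ₗ P ∘ₗ (g.symm : V →ₗ[K] K × W) =
            G * ((g : K × W →ₗ[K] V) ∘ₗ P ∘ₗ (g.symm : V →ₗ[K] K × W)) :=
          LinearMap.ext fun v => by simp [hG]
        rw [this, map_mul, LinearMap.det_conj, hP, mul_inv_cancel₀ hG0]
      obtain ⟨φ, hφ⟩ := exists_above (r := r) (lam := lam e) hX hd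
      refine ⟨hl, φ, fun ψ => ?_⟩
      obtain ⟨P, hP, hPx⟩ := hφ ψ
      refine ⟨_, hdet P hP, LinearMap.ext fun v => ?_⟩
      obtain ⟨p, rfl⟩ := g.surjective v
      have h1 := LinearMap.congr_fun hPx p
      simp only [Module.End.mul_apply] at h1
      simp only [Module.End.mul_apply, LinearMap.comp_apply, LinearEquiv.coe_coe,
        LinearEquiv.conj_apply, ← hg, LinearEquiv.symm_apply_apply, h1]
  obtain ⟨Ys, hYs, hprod⟩ := ha (frRow f U) fun b hb => by
    rcases eq_or_ne b 0 with rfl | h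
    · simp
    · obtain ⟨e, he, hne⟩ := hcom b h
      exact absurd (hb e he) hne
  refine ⟨Ys.map fun Y => f.conj Y, List.forall₂_map_right_iff.2 (hYs.imp ?_), ?_⟩
  · rintro e Y ⟨h, φ, rfl⟩
    exact ⟨h, φ, fun p => by simp [LinearEquiv.conj_apply]⟩
  · have : ∀ l : List (End K (K × W)), (l.map fun Y => f.conj Y).prod = f.conj l.prod :=
      conj_list_prod f
    rw [this, hprod, ← hquo]
    refine (Cj.eq_conj f fun p => ?_).symm
    exact (frame_upper f hU p).symm

/-- Eigenvectors of lifted maps. -/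
theorem lift_eigen {ι : Type*} {lam : ι → K} {X : ι → End K W} {f : (K × W) ≃ₗ[K] V}
    {L : List ι} {Ys : List (End K V)}
    (h : List.Forall₂ (fun e Y => ∃ φ : W →ₗ[K] K,
      ∀ p, Y (f p) = f (upper (lam e • 1) φ (X e) p)) L Ys)
    {w : V} (hw : w ≠ 0) {μs : List K} (hμ : List.Forall₂ (fun Y μ => Y w = μ • w) Ys μs) :
    ((f.symm w).2 = 0 ∧ μs = L.map lam) ∨
      ((f.symm w).2 ≠ 0 ∧
        List.Forall₂ (fun e μ => X e (f.symm w).2 = μ • (f.symm w).2) L μs) := by
  have step : ∀ (e : ι) (Y : End K V) (μ : K),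
      (∃ φ : W →ₗ[K] K, ∀ p, Y (f p) = f (upper (lam e • 1) φ (X e) p)) → Y w = μ • w →
      X e (f.symm w).2 = μ • (f.symm w).2 ∧ ((f.symm w).2 = 0 → μ = lam e) := by
    rintro e Y μ ⟨φ, hφ⟩ hY
    have h1 := hφ (f.symm w)
    rw [LinearEquiv.apply_symm_apply, hY] at h1
    have h2 := congrArg f.symm h1
    rw [map_smul, LinearEquiv.symm_apply_apply] at h2
    refine ⟨(congrArg Prod.snd h2).symm, fun h0 => ?_⟩
    have h3 := congrArg Prod.fst h2
    have h4 : (f.symm w).1 ≠ 0 := fun h5 => hw (by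
      rw [← f.apply_symm_apply w, show f.symm w = 0 from Prod.ext h5 h0, map_zero])
    simp [h0, h4] at h3
    exact h3
  by_cases h0 : (f.symm w).2 = 0
  · refine Or.inl ⟨h0, ?_⟩
    clear hw
    induction h generalizing μs with
    | nil => cases hμ; rfl
    | cons ha _ ih =>
      cases hμ with
      | cons hb hrest => rw [List.map_cons, ← (step _ _ _ ha hb).2 h0, ← ih hrest]
  · refine Or.inr ⟨h0, ?_⟩
    induction h generalizing μs with
    | nil => cases hμ; exact List.Forall₂.nil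
    | cons ha _ ih =>
      cases hμ with
      | cons hb hrest => exact List.Forall₂.cons (step _ _ _ ha hb).1 (ih hrest)

end CfsgLib.SLCover
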