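import Cfsg.Agent.Lib.SLCover.Hess

/-!
# Diagonals with a simple first entry and prescribed weighted product
-/

set_option autoImplicit false
set_option linter.unusedSectionVars false

namespace CfsgLib.SLCover

universe u

theorem tune_three : ∀ k c T : ZMod 3, ∃ w a r : ZMod 3, w ≠ 0 ∧ a ≠ w ∧ r ≠ w ∧
    T - k * (c - w) - 3 * a - 2 * r ≠ w ∧
    c - w - a - r - (T - k * (c - w) - 3 * a - 2 * r) ≠ w := by decide

theorem tune_four : ∀ k c T : ZMod 4, ∃ w a r : ZMod 4, w ≠ 0 ∧ a ≠ w ∧ r ≠ w ∧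
    T - k * (c - w) - 3 * a - 2 * r ≠ w ∧
    c - w - a - r - (T - k * (c - w) - 3 * a - 2 * r) ≠ w := by decide

theorem tune_three' : ∀ c T : ZMod 3, ∃ a r : ZMod 3,
    a ≠ c - a - r - (T - 3 * a - 2 * r) ∧ r ≠ c - a - r - (T - 3 * a - 2 * r) ∧
    T - 3 * a - 2 * r ≠ c - a - r - (T - 3 * a - 2 * r) := by decide

theorem tune_four' : ∀ c T : ZMod 4, ∃ a r : ZMod 4,
    a ≠ c - a - r - (T - 3 * a - 2 * r) ∧ r ≠ c - a - r - (T - 3 * a - 2 * r) ∧
    T - 3 * a - 2 * r ≠ c - a - r - (T - 3 * a - 2 * r) := by decide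

variable {K : Type u} [Field K] [Fintype K]

/-- Lift a solution in the exponents. -/
theorem tune_exp {n : ℕ} [NeZero n] (hn : Fintype.card K - 1 = n) :
    ∃ g : ZMod n → K, (∀ x, g x ≠ 0) ∧ Function.Injective g ∧ (∀ x y, g (x + y) = g x * g y) ∧
      g 0 = 1 ∧ ∀ k : K, k ≠ 0 → ∃ x, g x = k := by
  classical
  have hcard : Nat.card Kˣ = n := by rw [Nat.card_eq_fintype_card, Fintype.card_units, hn]
  subst hcard
  let e := zmodCyclicMulEquiv (G := Kˣ) inferInstance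
  refine ⟨fun x => (e (Multiplicative.ofAdd x) : K), fun x => Units.ne_zero _, ?_, ?_, ?_, ?_⟩
  · intro x y h
    exact Multiplicative.ofAdd.injective (e.injective (Units.ext h))
  · intro x y; simp [ofAdd_add]
  · simp
  · intro k hk
    obtain ⟨x, hx⟩ := e.surjective (Units.mk0 k hk)
    exact ⟨x.toAdd, by simp [hx]⟩

theorem prod_weights (m : ℕ) (a r s : K) (f : Fin m → K) :
    hessT (Fin.cons a (Fin.cons r (Fin.cons s f)) : Fin (m + 3) → K) =
      a ^ (m + 3) * r ^ (m + 2) * s ^ (m + 1) * ∏ l : Fin m, f l ^ (m - l.val) := by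
  rw [hessT_eq, Fin.prod_univ_succ, Fin.prod_univ_succ, Fin.prod_univ_succ]
  simp only [Fin.cons_zero, Fin.cons_succ, Fin.val_succ, Fin.val_zero]
  simp [mul_assoc]

/-- A diagonal for a block of size at least four. -/
theorem tune (hq : 4 ≤ Fintype.card K) {m : ℕ} {c T : K} (hc : c ≠ 0) (hT : T ≠ 0) :
    ∃ (β₁ : K) (β : Fin (m + 3) → K), β₁ ≠ 0 ∧ (∀ l, β l ≠ 0) ∧ (∀ l, β l ≠ β₁) ∧
      β₁ * ∏ l, β l = c ∧ hessT β = T := by
  classical
  by_cases h7 : 7 ≤ Fintype.card K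
  · obtain ⟨w, a, r, s, hw, hw1, ha, hr, hs, haw, hrw, hsw, hprod, hT'⟩ :
        ∃ w a r s : K, w ≠ 0 ∧ w ≠ 1 ∧ a ≠ 0 ∧ r ≠ 0 ∧ s ≠ 0 ∧ a ≠ w ∧ r ≠ w ∧ s ≠ w ∧
          w * a * r * s = c ∧ a ^ (m + 3) * r ^ (m + 2) * s ^ (m + 1) = T := by
      obtain ⟨w₀, hw₀⟩ := exists_scalar_avoid ({0, 1} : Finset K)
        (lt_of_le_of_lt Finset.card_le_two (by omega))
      simp at hw₀
      obtain ⟨a, ha⟩ := exists_scalar_avoid
        (({0, w₀, w₀ * (T / (c / w₀) ^ (m + 1)) / (c / w₀)} : Finset K) ∪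
          (Polynomial.X ^ 2 - Polynomial.C (T / (c / w₀) ^ (m + 1) / w₀) :
            Polynomial K).roots.toFinset) (by
          have h1 := (Polynomial.X ^ 2 - Polynomial.C (T / (c / w₀) ^ (m + 1) / w₀) :
            Polynomial K).card_roots'
          rw [Polynomial.natDegree_X_pow_sub_C] at h1
          have h2 := (Polynomial.X ^ 2 - Polynomial.C (T / (c / w₀) ^ (m + 1) / w₀) :
            Polynomial K).roots.toFinset_card_le
          have h3 : ({0, w₀, w₀ * (T / (c / w₀) ^ (m + 1)) / (c / w₀)} : Finset K).card ≤ 3 :=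
            Finset.card_le_three
          have h4 := Finset.card_union_le ({0, w₀, w₀ * (T / (c / w₀) ^ (m + 1)) / (c / w₀)} : Finset K)
            (Polynomial.X ^ 2 - Polynomial.C (T / (c / w₀) ^ (m + 1) / w₀) :
              Polynomial K).roots.toFinset
          omega)
      obtain ⟨C, hC, hC0⟩ : ∃ C, C = c / w₀ ∧ C ≠ 0 := ⟨_, rfl, div_ne_zero hc hw₀.1⟩
      obtain ⟨S, hS, hS0⟩ : ∃ S, S = T / C ^ (m + 1) ∧ S ≠ 0 :=
        ⟨_, rfl, div_ne_zero hT (pow_ne_zero _ hC0)⟩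
      rw [← hC, ← hS] at ha
      simp only [Finset.mem_union, Finset.mem_insert, Finset.mem_singleton, Multiset.mem_toFinset,
        not_or] at ha
      refine ⟨w₀, a, S / a ^ 2, C * a / S, hw₀.1, hw₀.2, ha.1.1,
        div_ne_zero hS0 (pow_ne_zero _ ha.1.1), div_ne_zero (mul_ne_zero hC0 ha.1.1) hS0, ha.1.2.1,
        fun h => ha.2 ?_, fun h => ha.1.2.2 ?_, ?_, ?_⟩
      · rw [Polynomial.mem_roots (Polynomial.X_pow_sub_C_ne_zero (by norm_num) _)]
        rw [div_eq_iff (pow_ne_zero _ ha.1.1)] at h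
        simp [h, mul_div_cancel_left₀ _ hw₀.1]
      · rw [div_eq_iff hS0] at h
        rw [eq_div_iff hC0, mul_comm a, h]
      · rw [hC]
        have := hw₀.1
        have := ha.1.1
        field_simp
      · have hT2 : T = S * C ^ (m + 1) := by rw [hS, div_mul_cancel₀ _ (pow_ne_zero _ hC0)]
        have := ha.1.1
        rw [hT2, show a ^ (m + 3) * (S / a ^ 2) ^ (m + 2) * (C * a / S) ^ (m + 1) =
          (a * (S / a ^ 2) * (C * a / S)) ^ (m + 1) * (a ^ 2 * (S / a ^ 2)) by ring]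
        field_simp
    refine ⟨w, Fin.cons a (Fin.cons r (Fin.cons s fun _ => 1)), hw,
      Fin.forall_fin_succ.2 ⟨ha, Fin.forall_fin_succ.2 ⟨hr, Fin.forall_fin_succ.2
        ⟨hs, fun l => by simp⟩⟩⟩,
      Fin.forall_fin_succ.2 ⟨haw, Fin.forall_fin_succ.2 ⟨hrw, Fin.forall_fin_succ.2
        ⟨hsw, fun l => by simp [hw1.symm]⟩⟩⟩, ?_, ?_⟩
    · rw [Fin.prod_univ_succ, Fin.prod_univ_succ, Fin.prod_univ_succ, ← hprod]
      simp only [Fin.cons_zero, Fin.cons_succ]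
      simp [mul_assoc]
    · rw [prod_weights, ← hT']
      simp
  -- four or five scalars
  have hq' : Fintype.card K ≤ 5 := by
    by_contra h
    obtain ⟨p, hp⟩ := CharP.exists K
    haveI := hp
    obtain ⟨k, hpp, hk⟩ := FiniteField.card K p
    have h6 : Fintype.card K = 6 := by omega
    rw [hk] at h6
    have hp2 : p ∣ 2 * 3 := by
      rw [show 2 * 3 = 6 from rfl, ← h6]; exact dvd_pow_self p k.pos.ne'
    rcases (Nat.Prime.dvd_mul hpp).1 hp2 with h2 | h3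
    · rw [(Nat.prime_dvd_prime_iff_eq hpp Nat.prime_two).1 h2] at h6
      have h3 : 3 ∣ 2 ^ (k : ℕ) := ⟨2, by omega⟩
      have := (Nat.prime_dvd_prime_iff_eq Nat.prime_three Nat.prime_two).1
        (Nat.prime_three.dvd_of_dvd_pow h3)
      omega
    · rw [(Nat.prime_dvd_prime_iff_eq hpp Nat.prime_three).1 h3] at h6
      have h2 : 2 ∣ 3 ^ (k : ℕ) := ⟨3, by omega⟩
      have := (Nat.prime_dvd_prime_iff_eq Nat.prime_two Nat.prime_three).1
        (Nat.prime_two.dvd_of_dvd_pow h2)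
      omega
  obtain ⟨n, hn, hn34⟩ : ∃ n, Fintype.card K - 1 = n ∧ (n = 3 ∨ n = 4) := ⟨_, rfl, by omega⟩
  haveI : NeZero n := ⟨by omega⟩
  obtain ⟨g, hg0, hgi, hga, hg1, hgs⟩ := tune_exp (K := K) hn
  have hgn : ∀ (k : ℕ) x, g (k * x) = g x ^ k := by
    intro k x
    induction k with
    | zero => simp [hg1]
    | succ k ih => rw [Nat.cast_succ, add_mul, one_mul, hga, ih, pow_succ]
  obtain ⟨c', rfl⟩ := hgs c hc
  obtain ⟨T', rfl⟩ := hgs T hT
  rcases m with _ | m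
  · obtain ⟨a, r, h1, h2, h3⟩ : ∃ a r : ZMod n,
        a ≠ c' - a - r - (T' - 3 * a - 2 * r) ∧ r ≠ c' - a - r - (T' - 3 * a - 2 * r) ∧
        T' - 3 * a - 2 * r ≠ c' - a - r - (T' - 3 * a - 2 * r) := by
      rcases hn34 with rfl | rfl
      · exact tune_three' c' T'
      · exact tune_four' c' T'
    set s := T' - 3 * a - 2 * r with hs
    set w := c' - a - r - s with hw
    refine ⟨g w, ![g a, g r, g s], hg0 w, by simp [Fin.forall_fin_succ, hg0],
      by simp [Fin.forall_fin_succ, hgi.ne h1, hgi.ne h2, hgi.ne h3], ?_, ?_⟩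
    · simp [Fin.prod_univ_three, ← hga]
      congr 1
      rw [hw]; ring
    · rw [hessT_eq]
      simp [Fin.prod_univ_three, ← hgn, ← hga]
      congr 1
      rw [hs]
      push_cast
      ring
  · obtain ⟨w, a, r, h0, h1, h2, h3, h4⟩ : ∃ w a r : ZMod n, w ≠ 0 ∧ a ≠ w ∧ r ≠ w ∧
        T' - ((m : ZMod n) + 1) * (c' - w) - 3 * a - 2 * r ≠ w ∧
        c' - w - a - r - (T' - ((m : ZMod n) + 1) * (c' - w) - 3 * a - 2 * r) ≠ w := by
      rcases hn34 with rfl | rfl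
      · exact tune_three _ c' T'
      · exact tune_four _ c' T'
    set s := T' - ((m : ZMod n) + 1) * (c' - w) - 3 * a - 2 * r with hs
    set p := c' - w - a - r - s with hp
    have hw1 : g w ≠ 1 := hg1 ▸ hgi.ne h0
    refine ⟨g w, Fin.cons (g a) (Fin.cons (g r) (Fin.cons (g s) (Fin.cons (g p) fun _ => 1))),
      hg0 w, Fin.forall_fin_succ.2 ⟨hg0 a, Fin.forall_fin_succ.2 ⟨hg0 r, Fin.forall_fin_succ.2
        ⟨hg0 s, Fin.forall_fin_succ.2 ⟨hg0 p, fun l => by simp⟩⟩⟩⟩,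
      Fin.forall_fin_succ.2 ⟨hgi.ne h1, Fin.forall_fin_succ.2 ⟨hgi.ne h2, Fin.forall_fin_succ.2
        ⟨hgi.ne h3, Fin.forall_fin_succ.2 ⟨hgi.ne h4, fun l => by simpa using hw1.symm⟩⟩⟩⟩, ?_, ?_⟩
    · rw [Fin.prod_univ_succ, Fin.prod_univ_succ, Fin.prod_univ_succ, Fin.prod_univ_succ]
      simp only [Fin.cons_zero, Fin.cons_succ]
      simp [← hga]
      congr 1
      rw [hp]; ring
    · rw [prod_weights, Fin.prod_univ_succ]
      simp [← hgn, ← hga]
      congr 1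
      rw [hp, hs]
      ring

end CfsgLib.SLCover
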