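import Cfsg.Agent.Lib.SLCover.Primary
import Cfsg.Agent.Lib.SLCover.Tune

/-!
# Four conjugates of a map without eigenvectors
-/

set_option autoImplicit false
set_option linter.unusedSectionVars false

namespace CfsgLib.SLCover

open Module Polynomial CfsgLib.SLComm

universe u

variable {K : Type u} [Field K] [Fintype K] [DecidableEq K]
variable {V W : Type u} [AddCommGroup V] [Module K V] [AddCommGroup W] [Module K W]
  [FiniteDimensional K V] [FiniteDimensional K W]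

/-- Decomposition into companion blocks of prime powers. -/
theorem prim_decomp (A : End K V) :
    ∃ (k : ℕ) (m : Fin k → ℕ) (c : ∀ i, Fin (m i + 1) → K),
      Cj A (LinearMap.pi fun i => comp (c i) ∘ₗ LinearMap.proj i) ∧
      ∀ i, ∃ (f : K[X]) (e : ℕ), f.Monic ∧ Irreducible f ∧ e ≠ 0 ∧
        (comp (c i)).charpoly = f ^ e := by
  classical
  obtain ⟨ι, _, p, hp, e, ⟨E⟩⟩ :=
    Module.equiv_directSum_of_isTorsion (R := K[X]) (M := AEval' A) (Module.AEval.isTorsion_of_finiteDimensional ..)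
  let E₁ := E.trans (DirectSum.linearEquivFunOnFintype K[X] ι fun i => K[X] ⧸ (K[X] ∙ p i ^ e i))
  let s : Type u := {i : ι // e i ≠ 0}
  have hsub : ∀ i, e i = 0 → ∀ x : K[X] ⧸ (K[X] ∙ p i ^ e i), x = 0 := fun i hi x => by
    obtain ⟨P, rfl⟩ := Submodule.Quotient.mk_surjective _ x
    rw [Submodule.Quotient.mk_eq_zero, hi, pow_zero]
    exact Submodule.mem_span_singleton.2 ⟨P, by simp⟩
  let E₂ : (∀ i, K[X] ⧸ (K[X] ∙ p i ^ e i)) ≃ₗ[K[X]] ∀ i : s, K[X] ⧸ (K[X] ∙ p i.1 ^ e i.1) :=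
    { toFun := fun f i => f i.1
      map_add' := fun _ _ => rfl
      map_smul' := fun _ _ => rfl
      invFun := fun f i => if h : e i ≠ 0 then f ⟨i, h⟩ else 0
      left_inv := fun f => funext fun i => by
        by_cases h : e i ≠ 0
        · simp only [dif_pos h]
        · simp only [dif_neg h]; exact (hsub i (not_ne_iff.1 h) _).symm
      right_inv := fun f => funext fun i => dif_pos i.2 }
  let σ := (Fintype.equivFin s).symm
  let g : Fin (Fintype.card s) → K[X] := fun j => normalize (p (σ j).1) ^ e (σ j).1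
  have hirr : ∀ j, Irreducible (normalize (p (σ j).1)) := fun j =>
    (normalize_associated _).symm.irreducible (hp _)
  have hfm : ∀ j, (normalize (p (σ j).1)).Monic := fun j => monic_normalize (hp _).ne_zero
  have hg : ∀ j, (g j).Monic := fun j => (hfm j).pow _
  have hdeg : ∀ j, ∃ m, (g j).natDegree = m + 1 := fun j => by
    refine ⟨(g j).natDegree - 1, ?_⟩
    have h1 : (g j).natDegree = e (σ j).1 * (normalize (p (σ j).1)).natDegree := natDegree_pow _ _
    have := Nat.mul_pos (Nat.pos_of_ne_zero (σ j).2) (hirr j).natDegree_pos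
    omega
  choose m hm using hdeg
  choose c hc using fun j => exists_comp_quotient (hg j) (hm j)
  let E₃ : (∀ i : s, K[X] ⧸ (K[X] ∙ p i.1 ^ e i.1)) ≃ₗ[K[X]] ∀ j, AEval' (comp (c j)) :=
    (LinearEquiv.piCongrLeft' K[X] _ σ.symm).trans (LinearEquiv.piCongrRight fun j =>
      (Submodule.quotEquivOfEq _ _ (Submodule.span_singleton_eq_span_singleton.2
        (let ⟨u, h⟩ := (normalize_associated (p (σ j).1)).symm.pow_pow (n := e (σ j).1)
        ⟨u, by rw [Units.smul_def, smul_eq_mul, mul_comm]; exact h⟩))).trans (hc j).some)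
  let T := (E₁.trans E₂).trans E₃
  refine ⟨_, m, c, ⟨(AEval'.of A).trans ((T.restrictScalars K).trans
    (LinearEquiv.piCongrRight fun j => (AEval'.of (comp (c j))).symm)), fun x => funext fun j => ?_⟩,
    fun j => ⟨_, _, hfm j, hirr j, (σ j).2, ?_⟩⟩
  · show (AEval'.of (comp (c j))).symm (T (AEval'.of A (A x)) j) = _
    rw [← AEval'.X_smul_of, map_smul]
    exact AEval.of_symm_X_smul _ _
  · refine (gen_comp (c j)).charpoly_eq (hg j) (by rw [hm j, finrank_fin_fun]) ?_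
    obtain ⟨E'⟩ := hc j
    obtain ⟨y, hy⟩ := E'.surjective (AEval'.of (comp (c j)) (Pi.single 0 1))
    obtain ⟨P, rfl⟩ := Submodule.Quotient.mk_surjective _ y
    have h0 : g j • AEval'.of (comp (c j)) (Pi.single 0 1) = 0 := by
      rw [← hy, ← map_smul, ← Submodule.Quotient.mk_smul,
        (Submodule.Quotient.mk_eq_zero _).2 (Submodule.mem_span_singleton.2
          ⟨P, by simp [mul_comm]⟩), map_zero]
    have h1 : AEval'.of (comp (c j)) (aeval (comp (c j)) (g j) (Pi.single 0 1)) =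
        g j • AEval'.of (comp (c j)) (Pi.single 0 1) := rfl
    exact (AEval'.of (comp (c j))).map_eq_zero_iff.1 (h1.trans h0)

/-- Splitting one coordinate off. -/
def splitAt {k : ℕ} (U : Fin (k + 1) → Type u) [∀ i, AddCommGroup (U i)] [∀ i, Module K (U i)]
    (i : Fin (k + 1)) : (∀ j, U j) ≃ₗ[K] U i × ∀ j, U (i.succAbove j) where
  toFun f := (f i, fun j => f (i.succAbove j))
  map_add' _ _ := rfl
  map_smul' _ _ := rfl
  invFun p := Fin.insertNth i p.1 p.2
  left_inv f := Fin.insertNth_self_removeNth i f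
  right_inv p := Prod.ext (Fin.insertNth_apply_same i p.1 p.2)
    (funext fun j => Fin.insertNth_apply_succAbove i p.1 p.2 j)

/-- The sum of blocks. -/
noncomputable abbrev piEnd {k : ℕ} {m : Fin k → ℕ} (c : ∀ i, Fin (m i + 1) → K) :
    End K (∀ i, Fin (m i + 1) → K) :=
  LinearMap.pi fun i => comp (c i) ∘ₗ LinearMap.proj i

theorem cj_split {k : ℕ} {m : Fin (k + 1) → ℕ} (c : ∀ i, Fin (m i + 1) → K) (i : Fin (k + 1)) :
    Cj (upper (comp (c i)) 0 (piEnd (m := fun j => m (i.succAbove j)) fun j => c (i.succAbove j)))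
      (piEnd c) :=
  Cj.symm ⟨splitAt (fun j => Fin (m j + 1) → K) i,
    fun v => Prod.ext (by simp only [upper_apply, LinearMap.zero_apply, add_zero]; rfl)
      (funext fun j => rfl)⟩

theorem cjD_upper {a : End K V} {b : End K W} {d d' : K} (ha : CjD d a a) (hb : CjD d' b b) :
    CjD (d * d') (upper a 0 b) (upper a 0 b) := by
  obtain ⟨P, hP, hPa⟩ := ha
  obtain ⟨Q, hQ, hQb⟩ := hb
  refine ⟨upper P 0 Q, by rw [det_upper, hP, hQ], LinearMap.ext fun p => Prod.ext ?_ ?_⟩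
  · simpa using LinearMap.congr_fun hPa p.1
  · simpa using LinearMap.congr_fun hQb p.2

theorem CjD.self_congr {x : End K V} {y : End K W} {d : K} (h : CjD d x x) (hc : Cj x y) :
    CjD d y y := by
  obtain ⟨e, he⟩ := hc
  rw [Cj.eq_conj e he]
  exact h.map e

theorem Pr.transport {x : End K V} {y : End K W} {T : K} {h X Y : End K V} (hp : Pr x T h X Y)
    (hc : Cj x y) : ∃ h' X' Y', Pr y T h' X' Y' ∧ Cj h h' := by
  obtain ⟨e, he⟩ := hc
  refine ⟨e.conj h, e.conj X, e.conj Y, ?_, cj_conj e h⟩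
  rw [Cj.eq_conj e he]
  exact hp.map e

/-- The hypotheses on a block. -/
def Blk {m : ℕ} (c : Fin (m + 1) → K) (e : ℕ) : Prop :=
  LinearMap.det (comp c) ≠ 0 ∧ NoEig (comp c) ∧
    ∃ f : K[X], f.Monic ∧ Irreducible f ∧ e ≠ 0 ∧ (comp c).charpoly = f ^ e

theorem Blk.prim (hq : 4 ≤ Fintype.card K) {m : ℕ} {c : Fin (m + 1) → K} {e : ℕ} (h : Blk c e) :
    (∀ z : K, z ≠ 0 → CjD (z ^ e) (comp c) (comp c)) ∧
    ∃ (T : K) (hh X Y : End K (Fin (m + 1) → K)) (ts : List K), T ≠ 0 ∧ Pr (comp c) T hh X Y ∧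
      IsCyc hh ∧ Split hh ts ∧ (∀ t ∈ ts, t ≠ 0) ∧ ∀ t, e ∣ ts.count t := by
  obtain ⟨hd, hno, f, hf, hirr, he, hchar⟩ := h
  exact SLCover.prim hq ⟨_, gen_comp c⟩ hd hno hf hirr he hchar

theorem noEig_pi {k : ℕ} {m : Fin k → ℕ} {c : ∀ i, Fin (m i + 1) → K}
    (h : ∀ i, NoEig (comp (c i))) : NoEig (piEnd c) := fun v hv t ht => by
  obtain ⟨i, hi⟩ := Function.ne_iff.1 hv
  exact h i (v i) hi t (congrFun ht i)

/-- All multiplicities can follow the exponents. -/
theorem blocks (hq : 4 ≤ Fintype.card K) : ∀ (k : ℕ) (m : Fin (k + 1) → ℕ)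
    (c : ∀ i, Fin (m i + 1) → K) (e : Fin (k + 1) → ℕ), (∀ i, Blk (c i) (e i)) →
    (∀ i, ∀ z : K, z ≠ 0 → CjD (z ^ e i) (piEnd c) (piEnd c)) ∧
    ∃ (T : K) (h X Y : End K (∀ i, Fin (m i + 1) → K)) (ts : List K), T ≠ 0 ∧
      Pr (piEnd c) T h X Y ∧ IsCyc h ∧ Split h ts ∧ (∀ t ∈ ts, t ≠ 0) ∧
      ∀ M, (∀ i, M ∣ e i) → ∀ t, M ∣ ts.count t := by
  intro k
  induction k with
  | zero =>
    intro m c e hb
    obtain ⟨hz, T, h, X, Y, ts, hT, hp, hc, hs, hne, hdvd⟩ := (hb 0).prim hq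
    have hcj : Cj (comp (c 0)) (piEnd c) := Cj.symm
      ⟨{ toFun := fun f => f 0, map_add' := fun _ _ => rfl, map_smul' := fun _ _ => rfl,
         invFun := fun v i => Fin.cases v (fun j => j.elim0) i,
         left_inv := fun f => funext fun i => by cases i using Fin.cases with
           | zero => rfl
           | succ j => exact j.elim0
         right_inv := fun v => rfl }, fun v => rfl⟩
    refine ⟨fun i z hz0 => ?_, ?_⟩
    · obtain rfl : i = 0 := Fin.fin_one_eq_zero i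
      exact (hz z hz0).self_congr hcj
    obtain ⟨h', X', Y', hp', hh'⟩ := hp.transport hcj
    exact ⟨T, h', X', Y', ts, hT, hp', hc.congr hh', hs.congr hh', hne,
      fun M hM t => (hM 0).trans (hdvd t)⟩
  | succ k ih =>
    intro m c e hb
    obtain ⟨hz, T₁, h₁, X₁, Y₁, ts₁, hT₁, hp₁, hc₁, hs₁, hne₁, hdvd₁⟩ := (hb 0).prim hq
    obtain ⟨hzr, T₂, h₂, X₂, Y₂, ts₂, hT₂, hp₂, hc₂, hs₂, hne₂, hdvd₂⟩ :=
      ih (fun j => m ((0 : Fin (k + 2)).succAbove j)) (fun j => c ((0 : Fin (k + 2)).succAbove j))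
        (fun j => e ((0 : Fin (k + 2)).succAbove j)) fun j => hb _
    have hne : ∀ t ∈ ts₁ ++ ts₂, t ≠ 0 := fun t ht =>
      (List.mem_append.1 ht).elim (hne₁ t) (hne₂ t)
    haveI : Nontrivial (∀ j : Fin (k + 1), Fin (m ((0 : Fin (k + 2)).succAbove j) + 1) → K) :=
      Pi.nontrivial_at (f := fun j : Fin (k + 1) => Fin (m ((0 : Fin (k + 2)).succAbove j) + 1) → K) 0
    obtain ⟨h, X, Y, hp, hc, hs, -⟩ := glue hp₁ hp₂ hT₁ hT₂ hc₁ hc₂ hs₁ hs₂ hne
      (Or.inl (hb 0).2.1) 0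
    have hcj := cj_split c 0
    refine ⟨fun i z hz0 => ?_, ?_⟩
    · refine CjD.self_congr ?_ hcj
      cases i using Fin.cases with
      | zero =>
        have := cjD_upper (hz z hz0)
          (show CjD (1 : K) (piEnd fun j => c ((0 : Fin (k + 2)).succAbove j)) _ from
            ⟨1, map_one _, (one_mul _).trans (mul_one _).symm⟩)
        rwa [mul_one] at this
      | succ j =>
        have := cjD_upper
          (show CjD (1 : K) (comp (c 0)) (comp (c 0)) from ⟨1, map_one _, (one_mul _).trans (mul_one _).symm⟩) (hzr j z hz0)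
        simpa [Fin.succAbove_zero] using this
    obtain ⟨h', X', Y', hp', hh'⟩ := hp.transport hcj
    refine ⟨T₁ * T₂, h', X', Y', _, mul_ne_zero hT₁ hT₂, hp', hc.congr hh', hs.congr hh', hne,
      fun M hM t => ?_⟩
    rw [List.count_append]
    exact dvd_add ((hM 0).trans (hdvd₁ t)) (hdvd₂ M (fun j => hM _) t)

/-- Block form of a map without eigenvectors. -/
theorem noEig_blocks {x : End K V} (hno : NoEig x) (hxd : LinearMap.det x ≠ 0) [Nontrivial V] :
    ∃ (k : ℕ) (m : Fin (k + 1) → ℕ) (c : ∀ i, Fin (m i + 1) → K) (e : Fin (k + 1) → ℕ),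
      Cj (piEnd c) x ∧ ∀ i, Blk (c i) (e i) := by
  obtain ⟨k, m, c, hcj, hf⟩ := prim_decomp x
  rcases k with _ | k
  · obtain ⟨φ, -⟩ := hcj
    exfalso
    obtain ⟨v, hv⟩ := exists_ne (0 : V)
    exact hv (φ.injective (Subsingleton.elim _ _))
  choose f e hfm hirr he hchar using hf
  refine ⟨k, m, c, e, hcj.symm, fun i => ⟨?_, ?_, f i, hfm i, hirr i, he i, hchar i⟩⟩
  · intro h0
    have h1 := (cj_split c i).det_eq
    rw [det_upper, h0, zero_mul] at h1
    exact hxd (by rw [Cj.det_eq hcj.symm, h1])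
  · intro v hv t hvt
    have hno' : NoEig (piEnd c) := hno.congr hcj
    refine hno' (Pi.single i v) (by simpa using hv) t (funext fun j => ?_)
    rcases eq_or_ne j i with rfl | hj
    · simp [hvt]
    · simp [hj]

/-- A cyclic split product of two conjugates. -/
theorem pair_any (hq : 4 ≤ Fintype.card K) {x : End K V} (hno : NoEig x)
    (hxd : LinearMap.det x ≠ 0) [Nontrivial V] :
    ∃ (T : K) (h X Y : End K V) (ts : List K), T ≠ 0 ∧ Pr x T h X Y ∧ IsCyc h ∧ Split h ts ∧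
      ∀ t ∈ ts, t ≠ 0 := by
  obtain ⟨k, m, c, e, hcj, hb⟩ := noEig_blocks hno hxd
  obtain ⟨-, T, h, X, Y, ts, hT, hp, hc, hs, hne, -⟩ := blocks hq k m c e hb
  obtain ⟨h', X', Y', hp', hh'⟩ := hp.transport hcj
  exact ⟨T, h', X', Y', ts, hT, hp', hc.congr hh', hs.congr hh', hne⟩

theorem Pr.det_eq {x : End K V} {T : K} (hT : T ≠ 0) {h X Y : End K V} (hp : Pr x T h X Y) :
    LinearMap.det h = LinearMap.det x * LinearMap.det x := by
  have h1 := (hp.cj_left).det_eq
  have h2 := (hp.cj_right hT).det_eq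
  obtain ⟨-, -, -, -, rfl⟩ := hp
  rw [map_mul, h1, h2]

/-- Four special linear conjugates of a map without eigenvectors. -/
theorem four_conj (hq : 4 ≤ Fintype.card K) {x : End K V} (hno : NoEig x)
    (hxd : LinearMap.det x ≠ 0) [Nontrivial V] {g : End K V} (hg : NS g)
    (hdet : LinearMap.det g = LinearMap.det x ^ 4) :
    ∃ L : List (End K V), L.length = 4 ∧ (∀ y ∈ L, CjD 1 x y) ∧ L.prod = g := by
  classical
  -- from a pair with trivial ratio, up to shifts
  have build : ∀ (h X Y : End K V) (ts : List K) (p : K), p ≠ 0 → CjD p x X → CjD p x Y →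
      h = Y * X → IsCyc h → Split h ts → (∀ t ∈ ts, t ≠ 0) →
      (∀ u : K, u ≠ 0 → ∃ a b : K, a * b = u ∧ CjD a h h ∧ CjD b x x) →
      ∃ L : List (End K V), L.length = 4 ∧ (∀ y ∈ L, CjD 1 x y) ∧ L.prod = g := by
    intro h X Y ts p hp0 hX hY hh hc hs hne hshift
    have hhd : LinearMap.det h = LinearMap.det x * LinearMap.det x := by
      rw [hh, map_mul, (hX.cj hp0).det_eq, (hY.cj hp0).det_eq]
    obtain ⟨A, B, hA, hB, hgAB⟩ := covering hq hc hs hne hg rfl (by rw [hhd, hdet]; ring)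
    have two : ∀ A : End K V, Cj h A → ∃ Y' X', CjD 1 x Y' ∧ CjD 1 x X' ∧ A = Y' * X' := by
      intro A hA
      obtain ⟨d, hd, hhA⟩ := hA.exists_cjD
      obtain ⟨a, b, hab, hah, hbx⟩ := hshift (d * p)⁻¹ (inv_ne_zero (mul_ne_zero hd hp0))
      obtain ⟨P, hP, hPh⟩ := hhA
      obtain ⟨R, hR, hRh⟩ := hah
      have ha0 : a ≠ 0 := fun h0 => by
        rw [h0, zero_mul] at hab
        exact inv_ne_zero (mul_ne_zero hd hp0) hab.symm
      let φ := LinearMap.equivOfDetNeZero (P * R) (by rw [map_mul, hP, hR]; exact mul_ne_zero hd ha0)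
      have hconj : ∀ Z, CjD p x Z → CjD 1 x (φ.conj Z) := fun Z hZ => by
        have hcj' : CjD (d * a) Z (φ.conj Z) :=
          ⟨P * R, by rw [map_mul, hP, hR], LinearMap.ext fun v => by
            have e1 : ∀ w, (P * R) w = φ w := fun w => rfl
            simp only [Module.End.mul_apply] at e1 ⊢
            rw [e1, e1]
            simp [LinearEquiv.conj_apply]⟩
        have h1 := hbx.trans (hZ.trans hcj')
        have e2 : d * a * p * b = 1 := by
          rw [show d * a * p * b = d * p * (a * b) by ring, hab, mul_inv_cancel₀ (mul_ne_zero hd hp0)]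
        rwa [e2] at h1
      refine ⟨φ.conj Y, φ.conj X, hconj Y hY, hconj X hX, ?_⟩
      rw [← conj_mul, ← hh]
      refine LinearMap.ext fun v => ?_
      obtain ⟨w, rfl⟩ := φ.surjective v
      have e1 : ∀ w, φ w = P (R w) := fun w => rfl
      simp [LinearEquiv.conj_apply]
      rw [e1, e1]
      have h2 : R (h w) = h (R w) := LinearMap.congr_fun hRh w
      rw [h2]
      exact (LinearMap.congr_fun hPh (R w)).symm
    obtain ⟨Y₁, X₁, hY₁, hX₁, rfl⟩ := two A hA
    obtain ⟨Y₂, X₂, hY₂, hX₂, rfl⟩ := two B hB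
    exact ⟨[Y₁, X₁, Y₂, X₂], rfl, by simp [hY₁, hX₁, hY₂, hX₂], by simp [hgAB, mul_assoc]⟩
  obtain ⟨k, m, c, e, hcj, hb⟩ := noEig_blocks hno hxd
  by_cases hfull : Full x
  · obtain ⟨T, h, X, Y, ts, hT, hp, hc, hs, hne⟩ := pair_any hq hno hxd
    obtain ⟨p, hp0, hX, hY, hh⟩ := hp
    have hY' : CjD p x Y := (hfull.strong (hY.cj (mul_ne_zero hT hp0))) p hp0
    exact build h X Y ts p hp0 hX hY' hh hc hs hne fun u hu =>
      ⟨1, u, one_mul u, ⟨1, map_one _, (one_mul _).trans (mul_one _).symm⟩, hfull u hu⟩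
  -- some block has dimension at least four
  obtain ⟨i₀, hi₀⟩ : ∃ i, 3 ≤ m i := by
    by_contra hc
    push Not at hc
    refine hfull (Full.transport ?_ ((cj_split c 0).trans hcj))
    have hfull0 : Full (comp (c 0)) := by
      have h2 := (hb 0).2.1.two_le
      have := hc 0
      exact (hb 0).2.1.full_small ⟨_, gen_comp (c 0)⟩ h2 (by rw [finrank_fin_fun]; omega)
    intro d hd
    have := cjD_upper (hfull0 d hd)
      (show CjD (1 : K) (piEnd fun j => c ((0 : Fin (k + 1)).succAbove j)) _ from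
        ⟨1, map_one _, (one_mul _).trans (mul_one _).symm⟩)
    rwa [mul_one] at this
  -- the exponents whose powers are centraliser determinants
  let E : ℕ → Prop := fun n => 0 < n ∧ ∀ z : K, z ≠ 0 → CjD (z ^ n) x x
  have hE : ∃ n, E n := ⟨Fintype.card K - 1, by omega, fun z hz => by
    rw [FiniteField.pow_card_sub_one_eq_one z hz]
    exact ⟨1, map_one _, (one_mul _).trans (mul_one _).symm⟩⟩
  obtain ⟨hm₀, hM⟩ := Nat.find_spec hE
  set M := Nat.find hE
  have hMe : ∀ i, M ∣ e i := fun i => by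
    refine Nat.dvd_of_mod_eq_zero (by_contra fun hne => ?_)
    refine Nat.find_min hE (Nat.mod_lt _ hm₀) ⟨Nat.pos_of_ne_zero hne, fun z hz => ?_⟩
    obtain ⟨hz', -⟩ := blocks hq k m c e hb
    have h1 := ((hz' i z hz).self_congr hcj).trans
      (hM ((z⁻¹) ^ (e i / M)) (pow_ne_zero _ (inv_ne_zero hz)))
    have e2 : ((z⁻¹) ^ (e i / M)) ^ M * z ^ e i = z ^ (e i % M) := by
      conv_lhs => rw [← pow_mul, inv_pow]; arg 2; rw [← Nat.mod_add_div (e i) M, pow_add]
      rw [mul_comm (e i / M), mul_comm (z ^ (e i % M)), ← mul_assoc,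
        inv_mul_cancel₀ (pow_ne_zero _ hz), one_mul]
    rwa [e2] at h1
  obtain ⟨m', hm'⟩ : ∃ m', m i₀ + 1 = m' + 4 := ⟨m i₀ - 3, by omega⟩
  obtain ⟨κ, hκ, hsingle⟩ := single (m := m' + 2) ⟨_, gen_comp (c i₀)⟩ (hb i₀).1
    (by rw [finrank_fin_fun]; omega)
  -- glue the tuned block with the others
  have main : ∃ (h X Y : End K V) (ts : List K) (t₀ : K) (p : K), p ≠ 0 ∧ CjD p x X ∧
      CjD p x Y ∧ h = Y * X ∧ IsCyc h ∧ Split h ts ∧ (∀ t ∈ ts, t ≠ 0) ∧
      ∃ j, ts.count t₀ = 1 + j * M := by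
    have finish : ∀ {h X Y : End K V} {T : K}, T = 1 → Pr x T h X Y →
        ∃ p, p ≠ 0 ∧ CjD p x X ∧ CjD p x Y ∧ h = Y * X := by
      rintro h X Y T rfl ⟨p, hp0, hX, hY, hh⟩
      exact ⟨p, hp0, hX, by rwa [one_mul] at hY, hh⟩
    have hone : ∀ (β₁ : K) (β : Fin (m' + 3) → K), (∀ l, β l ≠ β₁) →
        (β₁ :: List.ofFn β).count β₁ = 1 := fun β₁ β hne => by
      rw [List.count_cons_self, List.count_eq_zero.2]
      rintro h
      obtain ⟨l, hl⟩ := List.mem_ofFn.1 h
      exact hne l hl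
    have hd0 := mul_ne_zero (hb i₀).1 (hb i₀).1
    rcases k with _ | k
    · obtain rfl : i₀ = 0 := Fin.fin_one_eq_zero i₀
      obtain ⟨β₁, β, hβ₁, hβ, hne, hprod, hT⟩ := tune (m := m') hq hd0 (inv_ne_zero hκ)
      obtain ⟨h₁, X₁, Y₁, hp, hc₁, hs₁⟩ := hsingle β₁ β hβ₁ hβ hne hprod
      have hcj0 : Cj (comp (c 0)) (piEnd c) := by
        refine Cj.trans ⟨(LinearEquiv.prodUnique (R := K)
          (M₂ := ∀ j : Fin 0, Fin (m ((0 : Fin 1).succAbove j) + 1) → K)).symm, fun v => ?_⟩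
          (cj_split c 0)
        exact Prod.ext (by simp only [upper_apply, LinearMap.zero_apply, add_zero]; rfl) (Subsingleton.elim _ _)
      obtain ⟨h', X', Y', hp', hh'⟩ := hp.transport (hcj0.trans hcj)
      obtain ⟨p, hp0, hX, hY, hh⟩ := finish (by rw [hT, mul_inv_cancel₀ hκ]) hp'
      refine ⟨h', X', Y', _, β₁, p, hp0, hX, hY, hh, hc₁.congr hh', hs₁.congr hh', ?_, 0,
        by rw [hone β₁ β hne, zero_mul, add_zero]⟩
      intro t ht
      rcases List.mem_cons.1 ht with rfl | ht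
      · exact hβ₁
      · obtain ⟨l, rfl⟩ := List.mem_ofFn.1 ht
        exact hβ l
    · obtain ⟨-, T₂, h₂, X₂, Y₂, ts₂, hT₂, hp₂, hc₂, hs₂, hne₂, hdvd₂⟩ :=
        blocks hq k (fun j => m (i₀.succAbove j)) (fun j => c (i₀.succAbove j))
          (fun j => e (i₀.succAbove j)) fun j => hb _
      obtain ⟨β₁, β, hβ₁, hβ, hne, hprod, hT⟩ :=
        tune (m := m') hq hd0 (inv_ne_zero (mul_ne_zero hκ hT₂))
      obtain ⟨h₁, X₁, Y₁, hp₁, hc₁, hs₁⟩ := hsingle β₁ β hβ₁ hβ hne hprod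
      have hnz : ∀ t ∈ (β₁ :: List.ofFn β) ++ ts₂, t ≠ 0 := fun t ht => by
        rcases List.mem_append.1 ht with ht | ht
        · rcases List.mem_cons.1 ht with rfl | ht
          · exact hβ₁
          · obtain ⟨l, rfl⟩ := List.mem_ofFn.1 ht
            exact hβ l
        · exact hne₂ t ht
      have hT₁ : κ * hessT β ≠ 0 := by
        rw [hT]; exact mul_ne_zero hκ (inv_ne_zero (mul_ne_zero hκ hT₂))
      haveI : Nontrivial (∀ j : Fin (k + 1), Fin (m (i₀.succAbove j) + 1) → K) :=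
        Pi.nontrivial_at (f := fun j : Fin (k + 1) => Fin (m (i₀.succAbove j) + 1) → K) 0
      obtain ⟨h₃, X₃, Y₃, hp, hc₃, hs₃, -⟩ := glue hp₁ hp₂ hT₁ hT₂ hc₁ hc₂ hs₁ hs₂ hnz
        (Or.inl (hb i₀).2.1) 0
      obtain ⟨h', X', Y', hp', hh'⟩ := hp.transport ((cj_split c i₀).trans hcj)
      obtain ⟨p, hp0, hX, hY, hh⟩ := finish (by rw [hT]; field_simp) hp'
      obtain ⟨j, hj⟩ := hdvd₂ M (fun j => hMe _) β₁
      exact ⟨h', X', Y', _, β₁, p, hp0, hX, hY, hh, hc₃.congr hh', hs₃.congr hh', hnz, j,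
        by rw [List.count_append, hone β₁ β hne, hj, mul_comm M]⟩
  obtain ⟨h, X, Y, ts, t₀, p, hp0, hX, hY, hh, hc, hs, hne, j, hj⟩ := main
  refine build h X Y ts p hp0 hX hY hh hc hs hne fun u hu => ?_
  refine ⟨u ^ ts.count t₀, ((u⁻¹) ^ j) ^ M, ?_, count_shift hc hs hne t₀ hu,
    hM _ (pow_ne_zero _ (inv_ne_zero hu))⟩
  rw [hj, ← pow_mul, inv_pow, pow_add, pow_one, mul_assoc, mul_inv_cancel₀ (pow_ne_zero _ hu),
    mul_one]

end CfsgLib.SLCover
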