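import Cfsg.Agent.Lib.SLCover.Four
import Cfsg.Agent.Lib.SLCover.NoEigen
import Cfsg.Agent.Lib.SLCover.Lift

/-!
# Base cases for products of conjugates
-/

set_option autoImplicit false
set_option linter.unusedSectionVars false

namespace CfsgLib.SLCover

open Module Polynomial CfsgLib.SLComm

universe u

variable {K : Type u} [Field K]
variable {V W : Type u} [AddCommGroup V] [Module K V] [AddCommGroup W] [Module K W]
  [FiniteDimensional K V] [FiniteDimensional K W]

theorem charpoly_two (h : finrank K V = 2) (M : End K V) :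
    M.charpoly = X ^ 2 - C (LinearMap.trace K V M) * X + C (LinearMap.det M) := by
  let b := Module.finBasisOfFinrankEq K V h
  rw [← LinearMap.charpoly_toMatrix M b, Matrix.charpoly_fin_two, LinearMap.det_toMatrix,
    ← LinearMap.trace_eq_matrix_trace]

theorem gen_two (h : finrank K V = 2) {M : End K V} {v : V} (hv : ∀ t : K, M v ≠ t • v) :
    Gen M v := fun S hS hi => by
  have hv0 : v ≠ 0 := by rintro rfl; exact hv 0 (by simp)
  let b := basisOfLinearIndependentOfCardEqFinrank (linIndep_pair hv0 hv) (by simp [h])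
  refine eq_top_iff.2 (b.span_eq.ge.trans (Submodule.span_le.2 ?_))
  rintro _ ⟨i, rfl⟩
  fin_cases i <;> simp [b, hS, hi v hS]

theorem cj_two (h : finrank K V = 2) (hW : finrank K W = 2) {M : End K V} {N : End K W}
    (hM : NS M) (hN : NS N) (ht : LinearMap.trace K V M = LinearMap.trace K W N)
    (hd : LinearMap.det M = LinearMap.det N) : Cj M N := by
  obtain ⟨v, hv⟩ := exists_not_eigen hM
  obtain ⟨w, hw⟩ := exists_not_eigen hN
  exact cj_of_cyc ⟨v, gen_two h hv⟩ ⟨w, gen_two hW hw⟩
    (by rw [charpoly_two h, charpoly_two hW, ht, hd])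

/-- In dimension three a map which is not a scalar plus rank one has a cyclic vector. -/
theorem exists_krylov (h : finrank K V = 3) {g : End K V} (hg : ¬ Pse g) :
    ∃ v, (∀ t : K, g v ≠ t • v) ∧ g (g v) ∉ Submodule.span K ({v, g v} : Set V) := by
  classical
  by_contra hc
  push Not at hc
  obtain ⟨v, hv⟩ := exists_not_eigen (NS.of_not_pse hg)
  have hv0 : v ≠ 0 := by rintro rfl; exact hv 0 (by simp)
  set M := Submodule.span K ({v, g v} : Set V) with hMdef
  have hM2 : finrank K M = 2 := by
    have := finrank_span_eq_card (linIndep_pair hv0 hv)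
    rw [Fintype.card_fin] at this
    rw [hMdef]
    have e : ({v, g v} : Set V) = Set.range ![v, g v] := by
      ext z
      simp [Fin.exists_fin_two, eq_comm]
      tauto
    rw [e]
    exact this
  have hMi : ∀ x ∈ M, g x ∈ M := fun x hx => by
    obtain ⟨a, b, rfl⟩ := Submodule.mem_span_pair.1 hx
    rw [map_add, map_smul, map_smul]
    exact M.add_mem (M.smul_mem _ (Submodule.subset_span (by simp))) (M.smul_mem _ (hc v hv))
  have hMne : M ≠ ⊤ := fun e => by rw [e, finrank_top, h] at hM2; omega
  obtain ⟨w, -, hw⟩ := SetLike.exists_of_lt (lt_top_iff_ne_top.2 hMne)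
  have htop : M ⊔ (K ∙ w) = ⊤ := by
    refine Submodule.eq_top_of_finrank_eq ?_
    have h1 : M < M ⊔ (K ∙ w) := lt_of_le_of_ne le_sup_left fun e =>
      hw (e ▸ Submodule.mem_sup_right (Submodule.mem_span_singleton_self w))
    have h2 := Submodule.finrank_lt_finrank_of_lt h1
    have h3 := Submodule.finrank_le (M ⊔ (K ∙ w))
    omega
  obtain ⟨m₀, hm₀, q, hq, hsum⟩ := Submodule.mem_sup.1 (htop ▸ Submodule.mem_top : g w ∈ M ⊔ (K ∙ w))
  obtain ⟨s, rfl⟩ := Submodule.mem_span_singleton.1 hq
  set N : End K V := g - s • 1 with hN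
  have hNa : ∀ x, g x = N x + s • x := fun x => by simp [hN]
  have hNw : N w ∈ M := by
    have : N w = m₀ := by rw [hN]; simp [← hsum]
    rwa [this]
  have hNM : ∀ x ∈ M, N x ∈ M := fun x hx => by
    simpa [hN] using M.sub_mem (hMi x hx) (M.smul_mem s hx)
  have hrange : LinearMap.range N = M := by
    refine Submodule.eq_of_le_of_finrank_le ?_ (hM2.le.trans (two_le_rank hg s))
    rintro _ ⟨x, rfl⟩
    obtain ⟨a, ha, q, hq, rfl⟩ := Submodule.mem_sup.1 (htop ▸ Submodule.mem_top : x ∈ M ⊔ (K ∙ w))
    obtain ⟨r, rfl⟩ := Submodule.mem_span_singleton.1 hq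
    rw [map_add, map_smul]
    exact M.add_mem (hNM a ha) (M.smul_mem r hNw)
  -- every vector outside the plane has dependent first two images
  have hdep : ∀ x, x ∉ M → N x ≠ 0 → ∃ t : K, N (N x) = t • N x := by
    intro x hx hNx
    have hxe : ∀ t : K, g x ≠ t • x := fun t ht => by
      have h1 : N x = (t - s) • x := by rw [hN]; simp [ht, sub_smul]
      have h2 : N x ∈ M := hrange ▸ LinearMap.mem_range_self N x
      rcases eq_or_ne (t - s) 0 with h0 | h0
      · exact hNx (by rw [h1, h0, zero_smul])
      · exact hx ((Submodule.smul_mem_iff M h0).1 (h1 ▸ h2))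
    obtain ⟨a, b, hab⟩ := Submodule.mem_span_pair.1 (hc x hxe)
    have h1 : N (N x) - (b - 2 * s) • N x = (a + b * s - s * s) • x := by
      have e : N (N x) = g (g x) - (2 * s) • g x + (s * s) • x := by
        simp [hN]
        module
      rw [e, ← hab, hNa x]
      module
    have h2 : N (N x) - (b - 2 * s) • N x ∈ M := hrange ▸ ⟨N x - (b - 2 * s) • x, by simp⟩
    rw [h1] at h2
    rcases eq_or_ne (a + b * s - s * s) 0 with h0 | h0
    · exact ⟨b - 2 * s, by rw [← sub_eq_zero, h1, h0, zero_smul]⟩
    · exact absurd ((Submodule.smul_mem_iff M h0).1 h2) hx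
  -- the images of vectors outside the plane fill it
  have hall : ∀ m ∈ M, ∃ t : K, N m = t • m := by
    intro m hm
    obtain ⟨x, rfl⟩ : ∃ x, N x = m := by rw [← hrange] at hm; exact hm
    by_cases h0 : N x = 0
    · exact ⟨0, by simp [h0]⟩
    by_cases hx : x ∈ M
    · -- move out of the plane along the kernel or along `w`
      by_cases hk : ∃ e, e ∉ M ∧ N e = 0
      · obtain ⟨e, he, he0⟩ := hk
        have h2 := hdep (x + e) (fun hh => he ((Submodule.add_mem_iff_right M hx).1 hh))
          (by rwa [map_add, he0, add_zero])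
        rwa [map_add, he0, add_zero] at h2
      push Not at hk
      obtain ⟨t₁, ht₁⟩ := hdep w hw (hk w hw)
      obtain ⟨t₂, ht₂⟩ := hdep (w + x) (fun hh => hw ((Submodule.add_mem_iff_left M hx).1 hh))
        (hk _ fun hh => hw ((Submodule.add_mem_iff_left M hx).1 hh))
      rw [map_add, map_add, ht₁] at ht₂
      have h3 : N (N x) = (t₂ - t₁) • N w + t₂ • N x := by
        linear_combination (norm := module) ht₂
      rcases eq_or_ne t₂ t₁ with rfl | ht
      · exact ⟨t₂, by rw [h3, sub_self, zero_smul, zero_add]⟩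
      exfalso
      have hle : LinearMap.range N ≤ M.map N := by
        rintro _ ⟨y, rfl⟩
        obtain ⟨a, ha, q, hq, rfl⟩ :=
          Submodule.mem_sup.1 (htop ▸ Submodule.mem_top : y ∈ M ⊔ (K ∙ w))
        obtain ⟨r, rfl⟩ := Submodule.mem_span_singleton.1 hq
        rw [map_add, map_smul]
        refine Submodule.add_mem _ ⟨a, ha, rfl⟩ (Submodule.smul_mem _ r ?_)
        refine ⟨(t₂ - t₁)⁻¹ • (N x - t₂ • x), M.smul_mem _ (M.sub_mem (hNM x hx)
          (M.smul_mem _ hx)), ?_⟩
        rw [map_smul, map_sub, map_smul, h3, add_sub_cancel_right, inv_smul_smul₀ (sub_ne_zero.2 ht)]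
      -- then `N` maps the plane onto itself and a vector outside it is killed
      have hsurj : M.map N = M := le_antisymm
        (Submodule.map_le_iff_le_comap.2 hNM) (hrange.ge.trans hle)
      obtain ⟨a, ha, haw⟩ : N w ∈ M.map N := hsurj.symm ▸ hNw
      exact hw ((Submodule.sub_mem_iff_left M ha).1 (by_contra fun h' =>
        hk (w - a) h' (by rw [map_sub, haw, sub_self])))
    · exact hdep x hx h0
  -- so `N` is a scalar on the plane
  have hs2 : ∃ t : K, ∀ m ∈ M, N m = t • m := by
    by_contra hns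
    push Not at hns
    have : NS (N.restrict hNM) := fun t ht => by
      obtain ⟨m, hm, hne⟩ := hns t
      exact hne (congrArg Subtype.val (LinearMap.congr_fun ht ⟨m, hm⟩))
    obtain ⟨⟨m, hm⟩, hne⟩ := exists_not_eigen this
    obtain ⟨t, ht⟩ := hall m hm
    exact hne t (Subtype.ext ht)
  obtain ⟨t, ht⟩ := hs2
  have hr : LinearMap.range (g - (s + t) • 1) ≤ (K ∙ (N w - t • w)) := by
    rintro _ ⟨x, rfl⟩
    obtain ⟨a, ha, q, hq, rfl⟩ := Submodule.mem_sup.1 (htop ▸ Submodule.mem_top : x ∈ M ⊔ (K ∙ w))
    obtain ⟨r, rfl⟩ := Submodule.mem_span_singleton.1 hq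
    refine Submodule.mem_span_singleton.2 ⟨r, ?_⟩
    have h1 : g a = t • a + s • a := by rw [hNa a, ht a ha]
    have h2 : g w = N w + s • w := hNa w
    simp [h1, h2]
    module
  exact hg (pse_of_rank _ ((Submodule.finrank_mono hr).trans
    ((finrank_span_le_card _).trans (by simp))))

theorem isCyc_three (h : finrank K V = 3) {g : End K V} (hg : ¬ Pse g) : IsCyc g := by
  obtain ⟨v, hv, hvv⟩ := exists_krylov h hg
  have hv0 : v ≠ 0 := by rintro rfl; exact hv 0 (by simp)
  have hli : LinearIndependent K ![v, g v, g (g v)] := by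
    rw [Fintype.linearIndependent_iff]
    intro c hc
    simp [Fin.sum_univ_three] at hc
    have h2 : c 2 = 0 := by
      by_contra h2
      refine hvv (Submodule.mem_span_pair.2 ⟨-(c 2)⁻¹ * c 0, -(c 2)⁻¹ * c 1, ?_⟩)
      rw [mul_smul, mul_smul, ← smul_add, eq_neg_of_add_eq_zero_left hc, smul_neg, neg_smul,
        neg_neg, inv_smul_smul₀ h2]
    rw [h2, zero_smul, add_zero] at hc
    obtain ⟨h0, h1⟩ := LinearIndependent.pair_iff.1 (linIndep_pair hv0 hv) _ _ hc
    intro i
    fin_cases i <;> assumption
  refine ⟨v, fun S hS hi => ?_⟩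
  let b := basisOfLinearIndependentOfCardEqFinrank hli (by simp [h])
  refine eq_top_iff.2 (b.span_eq.ge.trans (Submodule.span_le.2 ?_))
  rintro _ ⟨i, rfl⟩
  fin_cases i <;> simp [b, hS, hi v hS, hi _ (hi v hS)]

/-- `g` is a product of `m` special conjugates of `x` without common eigenvector. -/
def CoverS (x : End K V) (m : ℕ) (g : End K V) : Prop :=
  ∃ L : List (End K V), L.length = m ∧ (∀ y ∈ L, CjD 1 x y) ∧ L.prod = g ∧ NoCommon L

theorem CoverS.cover {x : End K V} {m : ℕ} {g : End K V} (h : CoverS x m g) : Cover x m g := by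
  obtain ⟨L, h1, h2, h3, h4⟩ := h
  exact ⟨L, h1, fun y hy => (h2 y hy).cj one_ne_zero, h3, h4⟩

theorem Cover.special {x : End K V} {m : ℕ} {g : End K V} (hx : Full x) (h : Cover x m g) :
    CoverS x m g := by
  obtain ⟨L, h1, h2, h3, h4⟩ := h
  exact ⟨L, h1, fun y hy => hx.strong (h2 y hy) 1 one_ne_zero, h3, h4⟩

variable [Fintype K]

/-- Dimension two. -/
theorem two_base {x g : End K V} (hn : finrank K V = 2) (hx : NS x) (hg : NS g)
    (hxd : LinearMap.det x ≠ 0) (hdet : LinearMap.det g = LinearMap.det x * LinearMap.det x)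
    (h1 : LinearMap.trace K V g ≠ 2 * LinearMap.det x)
    (h2 : LinearMap.trace K V g ≠ -(2 * LinearMap.det x))
    (h3 : LinearMap.trace K V g ≠ LinearMap.trace K V x ^ 2 - 2 * LinearMap.det x) :
    Cover x 2 g := by
  classical
  obtain ⟨e, he⟩ := exists_not_eigen hg
  have he0 : e ≠ 0 := by rintro rfl; exact he 0 (by simp)
  set T := LinearMap.trace K V g with hT
  set t := LinearMap.trace K V x with ht
  set δ := LinearMap.det x with hδ
  let b := basisOfLinearIndependentOfCardEqFinrank (linIndep_pair he0 he) (by simp [hn])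
  have hb0 : b 0 = e := by simp [b]
  have hb1 : b 1 = g e := by simp [b]
  have hg2 : g (g e) = -(δ * δ) • e + T • g e := by
    have h := LinearMap.congr_fun g.aeval_self_charpoly e
    rw [charpoly_two hn, hdet] at h
    simp [pow_two, Algebra.algebraMap_eq_smul_one] at h
    rw [← hT] at h
    linear_combination (norm := module) h
  have hgM : LinearMap.toMatrix b b g = !![0, -(δ * δ); 1, T] := by
    have e0 : b.repr (g (b 0)) = Finsupp.single 1 1 := by rw [hb0, ← hb1, b.repr_self]
    have e1 : b.repr (g (b 1)) = Finsupp.single 0 (-(δ * δ)) + Finsupp.single 1 T := by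
      have e2 : g (b 0) = b 1 := by rw [hb0, hb1]
      rw [hb1, hg2, map_add, map_smul, map_smul, ← hb0, e2, b.repr_self, b.repr_self]
      simp
    ext i j
    rw [LinearMap.toMatrix_apply]
    fin_cases i <;> fin_cases j <;> simp [e0, e1]
  have hdisc : 4 * (δ * δ) - T ^ 2 ≠ 0 := fun h => by
    rcases mul_eq_zero.1 (show (T - 2 * δ) * (T + 2 * δ) = 0 by linear_combination -h) with h | h
    · exact h1 (sub_eq_zero.1 h)
    · exact h2 (eq_neg_of_add_eq_zero_left h)
  obtain ⟨D, hD⟩ : ∃ D, D = δ * δ := ⟨_, rfl⟩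
  -- a point on the conic
  obtain ⟨p, r, hpr⟩ : ∃ p r : K, p ^ 2 + T * p * r + D * r ^ 2 - t * p - t * δ * r + δ = 0 := by
    rw [← hD] at hdisc
    set r0 := (2 * t * δ - T * t) / (4 * D - T ^ 2) with hr0
    set p0 := (2 * D * t - T * t * δ) / (4 * D - T ^ 2) with hp0
    have e1 : 2 * p0 + T * r0 = t := by
      rw [hp0, hr0, mul_div_assoc', mul_div_assoc', ← add_div, div_eq_iff hdisc]; ring
    have e2 : T * p0 + 2 * D * r0 = t * δ := by
      rw [hp0, hr0, mul_div_assoc', mul_div_assoc', ← add_div, div_eq_iff hdisc]; ring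
    obtain ⟨P, R, hPR⟩ : ∃ P R : K, P ^ 2 + T * P * R + D * R ^ 2 =
        -(p0 ^ 2 + T * p0 * r0 + D * r0 ^ 2 - t * p0 - t * δ * r0 + δ) := by
      generalize -(p0 ^ 2 + T * p0 * r0 + D * r0 ^ 2 - t * p0 - t * δ * r0 + δ) = c
      rcases eq_or_ne (ringChar K) 2 with h | h
      · obtain ⟨P, hP⟩ := FiniteField.isSquare_of_char_two h c
        exact ⟨P, 0, by rw [hP]; ring⟩
      · have h2 : (2 : K) ≠ 0 := Ring.two_ne_zero h
        set E := D - T ^ 2 / 4 with hE
        have hE0 : E ≠ 0 := by
          intro h0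
          refine hdisc ?_
          rw [hE] at h0
          have h4 : (4 : K) ≠ 0 := by
            rw [show (4 : K) = 2 * 2 by norm_num]; exact mul_ne_zero h2 h2
          field_simp at h0
          linear_combination h0
        obtain ⟨a, R, haR⟩ := FiniteField.exists_root_sum_quadratic
          (f := (X ^ 2 : K[X])) (g := C E * X ^ 2 - C c) (degree_X_pow 2)
          (by rw [degree_sub_eq_left_of_degree_lt (by
                rw [degree_C_mul_X_pow 2 hE0]; exact degree_C_le.trans_lt (by norm_num)),
              degree_C_mul_X_pow 2 hE0]; norm_num)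
          (by
            rcases Nat.mod_two_eq_zero_or_one (Fintype.card K) with h' | h'
            · exact absurd (FiniteField.even_card_iff_char_two.2 h') h
            · exact h')
        simp at haR
        refine ⟨a - T / 2 * R, R, ?_⟩
        have h4 : (4 : K) = 2 * 2 := by norm_num
        rw [hE, h4] at haR
        field_simp at haR ⊢
        linear_combination haR
    refine ⟨P + p0, R + r0, ?_⟩
    linear_combination hPR + P * e1 + R * e2
  obtain ⟨q, hq⟩ : ∃ q, q = p * T + D * r - t * δ := ⟨_, rfl⟩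
  let y : End K V := Matrix.toLin b b !![p, q; r, t - p]
  let yi : End K V := Matrix.toLin b b (δ⁻¹ • !![t - p, -q; -r, p])
  have hyd : (!![p, q; r, t - p] : Matrix (Fin 2) (Fin 2) K).det = δ := by
    rw [Matrix.det_fin_two_of, hq]; linear_combination -hpr
  have hyi : y * yi = 1 := by
    apply (LinearMap.toMatrix b b).injective
    simp only [y, yi, Module.End.mul_eq_comp, LinearMap.toMatrix_comp b b b, ← LinearMap.toMatrix_symm,
      LinearEquiv.apply_symm_apply, LinearMap.toMatrix_one]
    rw [Matrix.det_fin_two_of] at hyd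
    have e : (!![p, q; r, t - p] : Matrix (Fin 2) (Fin 2) K) * !![t - p, -q; -r, p] = δ • 1 := by
      ext i j
      fin_cases i <;> fin_cases j <;> simp [Matrix.mul_apply]
      · linear_combination hyd
      · ring
      · ring
      · linear_combination hyd
    rw [Matrix.mul_smul, e, smul_smul, inv_mul_cancel₀ hxd, one_smul]
  set z : End K V := yi * g with hz
  have hyz : y * z = g := by rw [hz, ← mul_assoc, hyi, one_mul]
  have hy_det : LinearMap.det y = δ := by
    rw [← LinearMap.det_toMatrix b, show LinearMap.toMatrix b b y = !![p, q; r, t - p] from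
      LinearMap.toMatrix_toLin b b _, hyd]
  have hy_tr : LinearMap.trace K V y = t := by
    rw [LinearMap.trace_eq_matrix_trace K b, show LinearMap.toMatrix b b y = !![p, q; r, t - p] from
      LinearMap.toMatrix_toLin b b _, Matrix.trace_fin_two_of]
    ring
  have hz_det : LinearMap.det z = δ := by
    have h := congrArg LinearMap.det hyz
    rw [map_mul, hy_det, hdet] at h
    exact mul_left_cancel₀ hxd h
  have hz_tr : LinearMap.trace K V z = t := by
    rw [LinearMap.trace_eq_matrix_trace K b, hz, Module.End.mul_eq_comp,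
      LinearMap.toMatrix_comp b b b, hgM, show LinearMap.toMatrix b b yi = _ from
      LinearMap.toMatrix_toLin b b _]
    simp [Matrix.trace_fin_two, Matrix.mul_apply, hq, hD]
    field_simp
    ring
  have key : ∀ (w : End K V), LinearMap.det w = δ → LinearMap.trace K V w = t →
      ∀ s : K, w = s • 1 → s * s = δ ∧ 2 * s = t := by
    intro w hwd hwt s hs
    rw [hs, LinearMap.det_smul, map_one, mul_one, hn] at hwd
    rw [hs, map_smul, LinearMap.trace_one, hn] at hwt
    exact ⟨by rw [← hwd]; ring, by rw [← hwt]; simp; ring⟩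
  have hyNS : NS y := fun s hs => by
    obtain ⟨e1, e2⟩ := key y hy_det hy_tr s hs
    have : T = s * t := by
      rw [hT, ← hz_tr, ← hyz, hs, smul_mul_assoc, one_mul, map_smul, smul_eq_mul]
    exact h1 (by rw [this, ← e2, ← e1]; ring)
  have hzNS : NS z := fun s hs => by
    obtain ⟨e1, e2⟩ := key z hz_det hz_tr s hs
    have : T = s * t := by
      rw [hT, ← hy_tr, ← hyz, hs, mul_smul_comm, mul_one, map_smul, smul_eq_mul]
    exact h1 (by rw [this, ← e2, ← e1]; ring)
  refine ⟨[y, z], rfl, ?_, by simp [hyz], fun w hw μ => ?_⟩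
  · intro a ha
    simp at ha
    rcases ha with rfl | rfl
    · exact cj_two hn hn hx hyNS hy_tr.symm hy_det.symm
    · exact cj_two hn hn hx hzNS hz_tr.symm hz_det.symm
  · by_contra hcn
    push Not at hcn
    have e1 := hcn y (by simp)
    have e2 := hcn z (by simp)
    have e3 : g w = (μ * μ) • w := by
      rw [← hyz, Module.End.mul_apply, e2, map_smul, e1, smul_smul]
    have c1 := LinearMap.congr_fun y.aeval_self_charpoly w
    rw [charpoly_two hn, hy_det, hy_tr] at c1
    simp [pow_two, Algebra.algebraMap_eq_smul_one, e1, smul_smul, ← sub_smul, ← add_smul, hw] at c1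
    have c2 := LinearMap.congr_fun g.aeval_self_charpoly w
    rw [charpoly_two hn, hdet] at c2
    simp [pow_two, Algebra.algebraMap_eq_smul_one, e3, smul_smul, ← sub_smul, ← add_smul, hw] at c2
    rw [← hT] at c2
    have hμ : μ ≠ 0 := by
      rintro rfl
      simp at c1
      exact hxd c1
    refine h3 (mul_right_cancel₀ (mul_ne_zero hμ hμ) ?_)
    linear_combination -c2 + (μ * μ + δ + t * μ) * c1

end CfsgLib.SLCover
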