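import Cfsg.Agent.Lib.TwoJordan.Avoid

/-!
# Products of conjugates in linear groups: basic notions

`Cj x y`: `x` and `y` are similar.  `CjD d x y`: similar by a map of determinant `d`.
`Strong x y`: similar by maps of every nonzero determinant.
`Cover x m g`: `g` is a product of `m` conjugates of `x` without a common eigenvector.
-/

set_option autoImplicit false
set_option linter.unusedSectionVars false

namespace CfsgLib.SLCover

open Module

universe u

variable {K : Type u} [Field K]
variable {V W Z : Type u} [AddCommGroup V] [Module K V] [AddCommGroup W] [Module K W]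
  [AddCommGroup Z] [Module K Z]

/-- Not a scalar. -/
def NS (x : End K V) : Prop := ∀ s : K, x ≠ s • 1

/-- A scalar plus a map of rank at most one. -/
def Pse (x : End K V) : Prop :=
  ∃ (s : K) (b : V) (β : V →ₗ[K] K), ∀ v, x v = s • v + β v • b

/-- Similarity, possibly between different spaces. -/
def Cj (x : End K V) (y : End K W) : Prop := ∃ e : V ≃ₗ[K] W, ∀ v, e (x v) = y (e v)

/-- Similarity by a map of determinant `d`. -/
def CjD (d : K) (x y : End K V) : Prop := ∃ P : End K V, LinearMap.det P = d ∧ P * x = y * P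

/-- Similarity by maps of all nonzero determinants. -/
def Strong (x y : End K V) : Prop := ∀ d : K, d ≠ 0 → CjD d x y

/-- The centraliser meets every determinant. -/
abbrev Full (x : End K V) : Prop := Strong x x

/-- The family has no common eigenvector. -/
def NoCommon (L : List (End K V)) : Prop := ∀ v : V, v ≠ 0 → ∀ μ : K, ∃ y ∈ L, y v ≠ μ • v

/-- `g` is a product of `m` similar copies of `x` without common eigenvector. -/
def Cover (x : End K V) (m : ℕ) (g : End K V) : Prop :=
  ∃ L : List (End K V), L.length = m ∧ (∀ y ∈ L, Cj x y) ∧ L.prod = g ∧ NoCommon L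

theorem Cj.refl (x : End K V) : Cj x x := ⟨LinearEquiv.refl K V, fun _ => rfl⟩

theorem Cj.symm {x : End K V} {y : End K W} (h : Cj x y) : Cj y x := by
  obtain ⟨e, he⟩ := h
  exact ⟨e.symm, fun w => e.injective (by rw [he, e.apply_symm_apply, e.apply_symm_apply])⟩

theorem Cj.trans {x : End K V} {y : End K W} {z : End K Z} (h : Cj x y) (h' : Cj y z) :
    Cj x z := by
  obtain ⟨e, he⟩ := h
  obtain ⟨f, hf⟩ := h'
  exact ⟨e.trans f, fun v => by simp [he, hf]⟩

theorem cj_conj (e : V ≃ₗ[K] W) (x : End K V) : Cj x (e.conj x) :=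
  ⟨e, fun v => by simp [LinearEquiv.conj_apply]⟩

theorem Cj.eq_conj {x : End K V} {y : End K W} (e : V ≃ₗ[K] W) (he : ∀ v, e (x v) = y (e v)) :
    y = e.conj x := LinearMap.ext fun w => by simp [LinearEquiv.conj_apply, he]

theorem conj_mul (e : V ≃ₗ[K] W) (x y : End K V) : e.conj (x * y) = e.conj x * e.conj y :=
  LinearMap.ext fun w => by simp [LinearEquiv.conj_apply]

theorem conj_one (e : V ≃ₗ[K] W) : e.conj (1 : End K V) = 1 :=
  LinearMap.ext fun w => by simp [LinearEquiv.conj_apply]

theorem conj_list_prod (e : V ≃ₗ[K] W) (L : List (End K V)) :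
    (L.map fun y => e.conj y).prod = e.conj L.prod := by
  induction L with
  | nil => simp [conj_one]
  | cons a L ih => simp [conj_mul, ih]

theorem Cover.congr {x : End K V} {x' : End K W} {m : ℕ} {g : End K V} {g' : End K W}
    (h : Cover x m g) (e : V ≃ₗ[K] W) (hg : ∀ v, e (g v) = g' (e v)) (hx : Cj x x') :
    Cover x' m g' := by
  obtain ⟨L, hlen, hcj, hprod, hE⟩ := h
  refine ⟨L.map fun y => e.conj y, by simpa using hlen, ?_, ?_, ?_⟩
  · intro y hy
    obtain ⟨y₀, hy₀, rfl⟩ := List.mem_map.1 hy
    exact hx.symm.trans ((hcj y₀ hy₀).trans (cj_conj e y₀))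
  · rw [conj_list_prod, hprod, ← Cj.eq_conj e hg]
  · intro w hw μ
    obtain ⟨y, hy, hne⟩ := hE (e.symm w) (by simpa using hw) μ
    refine ⟨e.conj y, List.mem_map.2 ⟨y, hy, rfl⟩, fun h => hne ?_⟩
    have := congrArg e.symm h
    simpa [LinearEquiv.conj_apply] using this

theorem NS.congr {x : End K V} {y : End K W} (h : Cj x y) (hx : NS x) : NS y := by
  obtain ⟨e, he⟩ := h
  intro s hs
  refine hx s (LinearMap.ext fun v => e.injective ?_)
  rw [he, hs]
  simp

theorem Pse.congr {x : End K V} {y : End K W} (h : Cj x y) (hx : Pse x) : Pse y := by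
  obtain ⟨e, he⟩ := h
  obtain ⟨s, b, β, hb⟩ := hx
  refine ⟨s, e b, β ∘ₗ (e.symm : W →ₗ[K] V), fun w => ?_⟩
  conv_lhs => rw [← e.apply_symm_apply w, ← he, hb]
  simp

theorem NS.of_not_pse {x : End K V} (h : ¬ Pse x) : NS x := fun s hs =>
  h ⟨s, 0, 0, fun v => by simp [hs]⟩

theorem exists_not_eigen {x : End K V} (hx : NS x) : ∃ v, ∀ t : K, x v ≠ t • v := by
  by_contra h
  push Not at h
  choose t ht using h
  by_cases hV : ∀ v : V, v = 0
  · exact hx 0 (LinearMap.ext fun v => by simp [hV v])
  push Not at hV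
  obtain ⟨a, ha⟩ := hV
  refine hx (t a) (LinearMap.ext fun v => ?_)
  show x v = t a • v
  by_cases hdep : ∃ r : K, v = r • a
  · obtain ⟨r, rfl⟩ := hdep
    rw [map_smul, ht, smul_comm]
  push Not at hdep
  have h1 : (t (a + v) - t a) • a + (t (a + v) - t v) • v = 0 := by
    have := ht (a + v)
    rw [map_add, ht a, ht v, smul_add] at this
    linear_combination (norm := module) -this
  rcases eq_or_ne (t (a + v) - t v) 0 with h0 | h0
  · rw [h0, zero_smul, add_zero, smul_eq_zero, or_iff_left ha, sub_eq_zero] at h1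
    rw [ht v, ← sub_eq_zero.1 h0, h1]
  · refine absurd ?_ (hdep (-(t (a + v) - t v)⁻¹ * (t (a + v) - t a)))
    rw [neg_mul, neg_smul, mul_smul, eq_neg_of_add_eq_zero_left h1, smul_neg, neg_neg,
      inv_smul_smul₀ h0]

theorem CjD.trans {a b : K} {x y z : End K V} (h : CjD a x y) (h' : CjD b y z) :
    CjD (b * a) x z := by
  obtain ⟨P, hP, h1⟩ := h
  obtain ⟨Q, hQ, h2⟩ := h'
  exact ⟨Q * P, by rw [map_mul, hP, hQ], by rw [mul_assoc, h1, ← mul_assoc, h2, mul_assoc]⟩

theorem CjD.cj [FiniteDimensional K V] {d : K} (hd : d ≠ 0) {x y : End K V} (h : CjD d x y) : Cj x y := by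
  obtain ⟨P, hP, h⟩ := h
  exact ⟨LinearMap.equivOfDetNeZero P (by rw [hP]; exact hd), fun v => LinearMap.congr_fun h v⟩

theorem CjD.symm [FiniteDimensional K V] {d : K} (hd : d ≠ 0) {x y : End K V} (h : CjD d x y) : CjD d⁻¹ y x := by
  obtain ⟨P, hP, h⟩ := h
  let e := LinearMap.equivOfDetNeZero P (by rw [hP]; exact hd)
  have heP : ∀ v, P v = e v := fun v => rfl
  refine ⟨(e.symm : V →ₗ[K] V), ?_, LinearMap.ext fun v => ?_⟩
  · refine eq_inv_of_mul_eq_one_left ?_
    rw [← hP, ← map_mul]
    have h1 : (e.symm : V →ₗ[K] V) * P = 1 := LinearMap.ext fun v => by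
      show e.symm (P v) = v
      rw [heP]; exact e.symm_apply_apply v
    rw [h1, map_one]
  · show e.symm (y v) = x (e.symm v)
    refine e.injective ?_
    rw [e.apply_symm_apply]
    have h2 : P (e.symm v) = v := (heP _).trans (e.apply_symm_apply v)
    have h3 := LinearMap.congr_fun h (e.symm v)
    simp only [Module.End.mul_apply, h2] at h3
    rw [← heP]; exact h3.symm

theorem Cj.exists_cjD [FiniteDimensional K V] {x y : End K V} (h : Cj x y) :
    ∃ d : K, d ≠ 0 ∧ CjD d x y := by
  obtain ⟨e, he⟩ := h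
  exact ⟨_, (LinearEquiv.isUnit_det' e).ne_zero, (e : V →ₗ[K] V), rfl, LinearMap.ext he⟩

theorem Cj.det_eq [FiniteDimensional K V] [FiniteDimensional K W] {x : End K V} {y : End K W}
    (h : Cj x y) : LinearMap.det y = LinearMap.det x := by
  obtain ⟨e, he⟩ := h
  rw [Cj.eq_conj e he, LinearEquiv.conj_apply, LinearMap.comp_assoc, LinearMap.det_conj]

theorem Strong.cjD_trans {d : K} {x y z : End K V} (hd : d ≠ 0) (h : CjD d x y) (h' : Strong y z) :
    Strong x z := fun c hc => by
  have := h.trans (h' (c / d) (div_ne_zero hc hd))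
  rwa [div_mul_cancel₀ c hd] at this

theorem Full.strong [FiniteDimensional K V] {x y : End K V} (hx : Full x) (h : Cj x y) :
    Strong x y := fun c hc => by
  obtain ⟨d, hd, hxy⟩ := h.exists_cjD
  have := (hx (c / d) (div_ne_zero hc hd)).trans hxy
  rwa [mul_div_cancel₀ c hd] at this

theorem Full.congr [FiniteDimensional K V] {x y : End K V} (hx : Full x) (h : Cj x y) : Full y := by
  obtain ⟨d, hd, hxy⟩ := h.exists_cjD
  exact Strong.cjD_trans (inv_ne_zero hd) (hxy.symm hd) (hx.strong h)

/-- Two independent families of the same size are related by an automorphism. -/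
theorem exists_equiv_family [FiniteDimensional K V] [FiniteDimensional K W]
    (hVW : finrank K V = finrank K W) {k : ℕ} {a : Fin k → V} {b : Fin k → W}
    (ha : LinearIndependent K a) (hb : LinearIndependent K b) :
    ∃ e : V ≃ₗ[K] W, ∀ i, e (a i) = b i := by
  classical
  obtain ⟨A', hA'⟩ := Submodule.exists_isCompl (Submodule.span K (Set.range a))
  obtain ⟨B', hB'⟩ := Submodule.exists_isCompl (Submodule.span K (Set.range b))
  have h1 := Submodule.finrank_add_eq_of_isCompl hA'
  have h2 := Submodule.finrank_add_eq_of_isCompl hB'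
  rw [finrank_span_eq_card ha] at h1
  rw [finrank_span_eq_card hb] at h2
  let e₁ := (Basis.span ha).equiv (Basis.span hb) (Equiv.refl _)
  let e₂ : A' ≃ₗ[K] B' := LinearEquiv.ofFinrankEq _ _ (by omega)
  refine ⟨((Submodule.prodEquivOfIsCompl _ _ hA').symm.trans (e₁.prodCongr e₂)).trans
    (Submodule.prodEquivOfIsCompl _ _ hB'), fun i => ?_⟩
  have hai : (Submodule.prodEquivOfIsCompl _ _ hA').symm (a i) = (Basis.span ha i, 0) := by
    rw [LinearEquiv.symm_apply_eq, Submodule.coe_prodEquivOfIsCompl']
    simp [Basis.span_apply]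
  simp only [LinearEquiv.trans_apply, hai, LinearEquiv.prodCongr_apply, map_zero,
    Submodule.coe_prodEquivOfIsCompl']
  have h3 : e₁ (Basis.span ha i) = Basis.span hb i :=
    (Basis.equiv_apply _ i _ _).trans rfl
  rw [h3]; simp [Basis.span_apply]

/-- Similar maps with prescribed images of an independent family, of any determinant if the
family is not a basis. -/
theorem exists_cjD_family [FiniteDimensional K V] {k : ℕ} (hk : k < finrank K V)
    {a b : Fin k → V} (ha : LinearIndependent K a) (hb : LinearIndependent K b) {d : K}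
    (hd : d ≠ 0) : ∃ P : End K V, LinearMap.det P = d ∧ ∀ i, P (a i) = b i := by
  obtain ⟨e, he⟩ := exists_equiv_family rfl ha hb
  have hlt : Submodule.span K (Set.range b) ≠ ⊤ := fun h => by
    have := finrank_span_eq_card hb
    rw [h, finrank_top, Fintype.card_fin] at this
    omega
  obtain ⟨q, -, hq⟩ := SetLike.exists_of_lt (lt_top_iff_ne_top.2 hlt)
  obtain ⟨ψ, hψq, hψ⟩ := CfsgLib.TwoJordan.exists_dual_one hq
  set c := (LinearEquiv.isUnit_det' e).ne_zero
  refine ⟨LinearMap.transvection ((d / LinearMap.det (e : V →ₗ[K] V) - 1) • ψ) q * (e : V →ₗ[K] V),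
    ?_, fun i => ?_⟩
  · rw [map_mul, LinearMap.transvection.det]
    simp only [LinearMap.smul_apply, hψq, smul_eq_mul, mul_one, add_sub_cancel]
    exact div_mul_cancel₀ d c
  · simp [LinearMap.transvection.apply, he, hψ (b i) (Submodule.subset_span ⟨i, rfl⟩)]

theorem linIndep_pair {a b : V} (ha : a ≠ 0) (hb : ∀ t : K, b ≠ t • a) :
    LinearIndependent K ![a, b] :=
  (LinearIndependent.pair_iff' ha).2 fun t h => hb t h.symm

theorem notMem_span_singleton {a b : V} : b ∉ (K ∙ a) ↔ ∀ t : K, b ≠ t • a := by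
  simp [Submodule.mem_span_singleton, eq_comm]

variable [Fintype K]

/-- Fewer conditions `L i x ≠ c i` than field elements are satisfiable together. -/
theorem exists_avoid {ι : Type*} (s : Finset ι) (hs : s.card < Fintype.card K)
    (L : ι → V →ₗ[K] K) (c : ι → K) (hL : ∀ i ∈ s, L i ≠ 0) :
    ∃ x, ∀ i ∈ s, L i x ≠ c i := by
  classical
  induction s using Finset.induction with
  | empty => exact ⟨0, by simp⟩
  | @insert a s ha ih =>
    rw [Finset.card_insert_of_notMem ha] at hs
    obtain ⟨x, hx⟩ := ih (by omega) fun i hi => hL i (Finset.mem_insert_of_mem hi)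
    obtain ⟨y, hy⟩ : ∃ y, L a y ≠ 0 := by
      by_contra h
      push Not at h
      exact hL a (Finset.mem_insert_self a s) (LinearMap.ext h)
    obtain ⟨t, ht⟩ : ∃ t : K, t ∉ (insert a s).image fun i => (c i - L i x) / L i y := by
      by_contra h
      push Not at h
      have h1 : Finset.univ ⊆ (insert a s).image fun i => (c i - L i x) / L i y := fun t _ => h t
      have := (Finset.card_le_card h1).trans Finset.card_image_le
      rw [Finset.card_univ, Finset.card_insert_of_notMem ha] at this
      omega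
    refine ⟨x + t • y, fun i hi he => ?_⟩
    rw [map_add, map_smul, smul_eq_mul] at he
    rcases eq_or_ne (L i y) 0 with h0 | h0
    · rw [h0, mul_zero, add_zero] at he
      rcases Finset.mem_insert.1 hi with rfl | hi'
      · exact hy h0
      · exact hx i hi' he
    · refine ht (Finset.mem_image.2 ⟨i, hi, ?_⟩)
      rw [div_eq_iff h0, ← he]
      ring

/-- Proper subspaces, no more of them than field elements, do not cover the space. -/
theorem exists_avoid_sub [FiniteDimensional K V] {ι : Type*} (s : Finset ι)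
    (hs : s.card < Fintype.card K) (p : ι → Submodule K V) (hp : ∀ i ∈ s, p i ≠ ⊤) :
    ∃ x, ∀ i ∈ s, x ∉ p i := by
  classical
  have h : ∀ i, ∃ f : V →ₗ[K] K, (p i ≠ ⊤ → f ≠ 0) ∧ ∀ y ∈ p i, f y = 0 := fun i => by
    by_cases hi : p i = ⊤
    · exact ⟨0, fun h => absurd hi h, fun _ _ => rfl⟩
    · obtain ⟨x, -, hx⟩ := SetLike.exists_of_lt (lt_top_iff_ne_top.2 hi)
      obtain ⟨f, hf, hf0⟩ := CfsgLib.TwoJordan.exists_dual_one hx
      exact ⟨f, fun _ h => by simp [h] at hf, hf0⟩
  choose f hf hf0 using h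
  obtain ⟨x, hx⟩ := exists_avoid s hs f (fun _ => 0) fun i hi => hf i (hp i hi)
  exact ⟨x, fun i hi hm => hx i hi (hf0 i x hm)⟩

/-- A scalar with fewer excluded values than field elements. -/
theorem exists_scalar_avoid (s : Finset K) (hs : s.card < Fintype.card K) : ∃ t : K, t ∉ s := by
  by_contra h
  push Not at h
  have h1 : (Finset.univ : Finset K) ⊆ s := fun t _ => h t
  have := Finset.card_le_card h1
  rw [Finset.card_univ] at this
  omega

end CfsgLib.SLCover
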