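import Cfsg.Agent.Lib.SLCover.Cyclic

/-!
# Centralisers of irreducible blocks
-/

set_option autoImplicit false
set_option linter.unusedSectionVars false

namespace CfsgLib.SLCover

open Module Polynomial

universe u

variable {K : Type u} [Field K]
variable {V W : Type u} [AddCommGroup V] [Module K V] [AddCommGroup W] [Module K W]
  [FiniteDimensional K V] [FiniteDimensional K W]

/-- No eigenvector over the field. -/
def NoEig (x : End K V) : Prop := ∀ v : V, v ≠ 0 → ∀ t : K, x v ≠ t • v

theorem Full.transport {x : End K V} {y : End K W} (hx : Full x) (h : Cj x y) : Full y := by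
  obtain ⟨e, he⟩ := h
  intro d hd
  obtain ⟨P, hP, hPx⟩ := hx d hd
  refine ⟨e.conj P, ?_, ?_⟩
  · rw [LinearEquiv.conj_apply, LinearMap.comp_assoc, LinearMap.det_conj, hP]
  · rw [Cj.eq_conj e he, ← conj_mul, ← conj_mul, hPx]

theorem NoEig.congr {x : End K V} {y : End K W} (h : Cj x y) (hx : NoEig x) : NoEig y := by
  obtain ⟨e, he⟩ := h.symm
  intro w hw t ht
  refine hx (e w) (by simpa using hw) t ?_
  rw [← he, ht, map_smul]

theorem NoEig.eval_ne {x : End K V} (h : NoEig x) (t : K) : x.charpoly.eval t ≠ 0 := fun h0 => by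
  obtain ⟨v, hv⟩ := ((Module.End.hasEigenvalue_iff_isRoot_charpoly x t).2 h0).exists_hasEigenvector
  exact h v hv.2 t hv.apply_eq_smul

theorem NoEig.irreducible {x : End K V} (h : NoEig x) (h2 : 2 ≤ finrank K V)
    (h3 : finrank K V ≤ 3) : Irreducible x.charpoly := by
  refine (x.charpoly_monic.irreducible_iff_roots_eq_zero_of_degree_le_three
    (by rwa [x.charpoly_natDegree]) (by rwa [x.charpoly_natDegree])).2 ?_
  refine Multiset.eq_zero_iff_forall_notMem.2 fun t ht => ?_
  exact h.eval_ne t (isRoot_of_mem_roots ht)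

theorem NoEig.two_le {x : End K V} (h : NoEig x) [Nontrivial V] : 2 ≤ finrank K V := by
  by_contra hn
  have h1 : finrank K V = 1 := by
    have : 0 < finrank K V := Module.finrank_pos
    omega
  obtain ⟨v, hv⟩ := exists_ne (0 : V)
  obtain ⟨t, ht⟩ := (finrank_eq_one_iff_of_nonzero' v hv).1 h1 (x v)
  exact h v hv t ht.symm

variable [Fintype K]

/-- The field of an irreducible cyclic block. -/
theorem field_model {x : End K V} (hx : IsCyc x) (hirr : Irreducible x.charpoly) :
    ∃ (S : Type u) (_ : Field S) (_ : Algebra K S) (_ : FiniteDimensional K S) (r : S),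
      finrank K S = finrank K V ∧ Cj (Algebra.lmul K S r) x := by
  haveI := Fact.mk hirr
  let S := AdjoinRoot x.charpoly
  let pb := AdjoinRoot.powerBasis (f := x.charpoly) x.charpoly_monic.ne_zero
  haveI : FiniteDimensional K S := pb.finite
  have hfin : finrank K S = finrank K V := by
    rw [pb.finrank, AdjoinRoot.powerBasis_dim, x.charpoly_natDegree]
  refine ⟨S, inferInstance, inferInstance, inferInstance, AdjoinRoot.root x.charpoly, hfin, ?_⟩
  set L := Algebra.lmul K S (AdjoinRoot.root x.charpoly)
  have hpow : ∀ p : K[X], aeval L p (1 : S) = aeval (AdjoinRoot.root x.charpoly) p := fun p => by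
    rw [aeval_algHom_apply]
    simp
    exact (AdjoinRoot.aeval_eq p :)
  have hgen : Gen L (1 : S) := by
    refine gen_of_span (n := pb.dim) ?_
    rw [← pb.basis.span_eq]
    refine congrArg (fun g => Submodule.span K (Set.range g)) (funext fun i => ?_)
    rw [pb.coe_basis]
    simpa [map_pow, pb, AdjoinRoot.powerBasis_gen] using hpow (X ^ i.val)
  have hchar : L.charpoly = x.charpoly := by
    refine hgen.charpoly_eq x.charpoly_monic (by rw [x.charpoly_natDegree, hfin]) ?_
    rw [hpow, AdjoinRoot.aeval_eq, AdjoinRoot.mk_self]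
  exact cj_of_cyc ⟨1, hgen⟩ hx hchar

theorem full_of_irreducible {x : End K V} (hx : IsCyc x) (hirr : Irreducible x.charpoly) :
    Full x := by
  obtain ⟨S, _, _, _, r, -, hcj⟩ := field_model hx hirr
  refine Full.transport ?_ hcj
  intro d _
  have : Finite S := Module.finite_of_finite K
  obtain ⟨s, hs⟩ := FiniteField.norm_surjective K S d
  refine ⟨Algebra.lmul K S s, ?_, ?_⟩
  · rw [← hs, Algebra.norm_apply]
  · rw [← map_mul, ← map_mul, mul_comm]

theorem NoEig.full_small {x : End K V} (h : NoEig x) (hx : IsCyc x) (h2 : 2 ≤ finrank K V)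
    (h3 : finrank K V ≤ 3) : Full x := full_of_irreducible hx (h.irreducible h2 h3)

/-- Three Galois conjugates of an irreducible cubic block multiply to its determinant. -/
theorem galois_three {x : End K V} (hx : IsCyc x) (hirr : Irreducible x.charpoly)
    (h3 : finrank K V = 3) :
    ∃ y z : End K V, Cj x y ∧ Cj x z ∧ x * y * z = LinearMap.det x • 1 := by
  obtain ⟨S, _, _, _, r, hfin, hcj⟩ := field_model hx hirr
  have : Finite S := Module.finite_of_finite K
  let σ := FiniteField.frobeniusAlgEquivOfAlgebraic K S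
  have hL : ∀ τ : S ≃ₐ[K] S, Cj (Algebra.lmul K S r) (Algebra.lmul K S (τ r)) := fun τ =>
    ⟨τ.toLinearEquiv, fun v => by simp⟩
  obtain ⟨e, he⟩ := id hcj
  refine ⟨e.conj (Algebra.lmul K S (σ r)), e.conj (Algebra.lmul K S (σ (σ r))),
    (hcj.symm.trans (hL σ)).trans (cj_conj e _),
    (hcj.symm.trans (hL (σ.trans σ))).trans (cj_conj e _), ?_⟩
  have hσ : ∀ s, σ s = s ^ Nat.card K := fun s => by
    rw [Nat.card_eq_fintype_card]
    exact congrFun (FiniteField.coe_frobeniusAlgEquivOfAlgebraic K S) s
  rw [hcj.det_eq, Cj.eq_conj e he, ← conj_mul, ← conj_mul, ← map_mul, ← map_mul]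
  have hprod : r * σ r * σ (σ r) = algebraMap K S (Algebra.norm K r) := by
    rw [FiniteField.algebraMap_norm_eq_prod_pow, hfin, h3]
    simp [Finset.prod_range_succ, hσ, ← pow_mul, pow_two]
  rw [hprod]
  refine LinearMap.ext fun v => ?_
  simp [LinearEquiv.conj_apply, Algebra.norm_apply, Algebra.algebraMap_eq_smul_one]

/-- Scalars give every determinant when the dimension is prime to `q - 1`. -/
theorem full_of_coprime (x : End K V)
    (h : (Fintype.card K - 1).Coprime (finrank K V)) : Full x := by
  classical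
  intro d hd
  have hc : (Nat.card Kˣ).Coprime (finrank K V) := by
    rwa [Nat.card_eq_fintype_card, Fintype.card_units]
  set u := (powCoprime hc).symm (Units.mk0 d hd) with hu
  have h1 : u ^ finrank K V = Units.mk0 d hd := (powCoprime hc).apply_symm_apply _
  refine ⟨(u : K) • 1, ?_, ?_⟩
  · rw [LinearMap.det_smul, map_one, mul_one, ← Units.val_pow_eq_pow_val, h1, Units.val_mk0]
  · rw [smul_mul_assoc, one_mul, mul_smul_comm, mul_one]

theorem Full.prod_left {x : End K V} (hx : Full x) (y : End K W) :
    Full (x.prodMap y) := by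
  intro d hd
  obtain ⟨P, hP, hPx⟩ := hx d hd
  refine ⟨P.prodMap 1, by rw [LinearMap.det_prodMap, hP, map_one, mul_one], ?_⟩
  exact LinearMap.ext fun p => Prod.ext (LinearMap.congr_fun hPx p.1) rfl

theorem Full.prod_right (x : End K V) {y : End K W} (hy : Full y) :
    Full (x.prodMap y) := by
  intro d hd
  obtain ⟨P, hP, hPy⟩ := hy d hd
  refine ⟨LinearMap.prodMap 1 P, by rw [LinearMap.det_prodMap, hP, map_one, one_mul], ?_⟩
  exact LinearMap.ext fun p => Prod.ext rfl (LinearMap.congr_fun hPy p.2)

end CfsgLib.SLCover
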