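import Cfsg.Agent.Lib.SLCover.Hess

/-!
# Products of a cyclic class and a split cyclic class
-/

set_option autoImplicit false
set_option linter.unusedSectionVars false

namespace CfsgLib.SLCover

open Module Polynomial

universe u

variable {K : Type u} [Field K]
variable {V W : Type u} [AddCommGroup V] [Module K V] [AddCommGroup W] [Module K W]
  [FiniteDimensional K V] [FiniteDimensional K W]

theorem exists_inv {g : End K V} (h : LinearMap.det g ≠ 0) :
    ∃ gi : End K V, gi * g = 1 ∧ g * gi = 1 ∧ LinearMap.det gi = (LinearMap.det g)⁻¹ := by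
  let e := LinearMap.equivOfDetNeZero g h
  have h1 : (e.symm : V →ₗ[K] V) * g = 1 := LinearMap.ext fun v => e.symm_apply_apply v
  refine ⟨(e.symm : V →ₗ[K] V), h1, LinearMap.ext fun v => e.apply_symm_apply v, ?_⟩
  exact eq_inv_of_mul_eq_one_left (by rw [← map_mul, h1, map_one])

theorem Gen.inv {g gi : End K V} {e : V} (hg : Gen g e) (h1 : gi * g = 1) : Gen gi e := by
  intro S he hS
  have hinj : Function.Injective gi := by
    have h2 : g * gi = 1 := mul_eq_one_comm.1 h1
    exact Function.LeftInverse.injective (g := g) fun v => LinearMap.congr_fun h2 v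
  have hmap : S.map gi = S := by
    refine Submodule.eq_of_le_of_finrank_le ?_ ?_
    · rintro _ ⟨x, hx, rfl⟩; exact hS x hx
    · exact (Submodule.equivMapOfInjective gi hinj S).finrank_eq.le
  refine hg S he fun x hx => ?_
  rw [← hmap] at hx
  obtain ⟨y, hy, rfl⟩ := hx
  have : g (gi y) = y := LinearMap.congr_fun (mul_eq_one_comm.1 h1) y
  rwa [this]

theorem IsCyc.inv {g gi : End K V} (hg : IsCyc g) (h1 : gi * g = 1) : IsCyc gi :=
  let ⟨e, he⟩ := hg; ⟨e, he.inv h1⟩

/-- The rank one map is at most one dimensional. -/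
theorem pse_of_rank {g : End K V} (s : K)
    (h : finrank K (LinearMap.range (g - s • 1)) ≤ 1) : Pse g := by
  obtain ⟨b, hb⟩ := (Submodule.finrank_le_one_iff_isPrincipal _).1 h |>.principal
  rcases eq_or_ne b 0 with rfl | hb0
  · refine ⟨s, 0, 0, fun v => ?_⟩
    have := LinearMap.mem_range_self (g - s • 1) v
    rw [hb] at this
    simpa [sub_eq_zero] using this
  obtain ⟨φ, hφ, -⟩ :=
    CfsgLib.TwoJordan.exists_dual_one (p := (⊥ : Submodule K V)) (x := b) (by simpa using hb0)
  refine ⟨s, b, φ ∘ₗ (g - s • 1), fun v => ?_⟩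
  have := LinearMap.mem_range_self (g - s • 1) v
  rw [hb] at this
  obtain ⟨a, ha⟩ := Submodule.mem_span_singleton.1 this
  rw [LinearMap.comp_apply, ← ha, map_smul, hφ, smul_eq_mul, mul_one, ha]
  simp

theorem two_le_rank {g : End K V} (hg : ¬ Pse g) (s : K) :
    2 ≤ finrank K (LinearMap.range (g - s • 1)) := by
  by_contra h
  exact hg (pse_of_rank s (by omega))

theorem det_pse (μ : K) (hμ : μ ≠ 0) (b : V) (β : V →ₗ[K] K) :
    LinearMap.det (μ • (1 : End K V) + β.smulRight b) = μ ^ finrank K V * (1 + β b / μ) := by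
  have h : μ • (1 : End K V) + β.smulRight b = μ • LinearMap.transvection (μ⁻¹ • β) b :=
    LinearMap.ext fun v => by simp [LinearMap.transvection.apply, smul_add, smul_smul, hμ]
  rw [h, LinearMap.det_smul, LinearMap.transvection.det]
  simp [inv_mul_eq_div]

/-- Scalar plus rank one maps with the same scalar and the same `β b` are similar. -/
theorem cj_pse {μ : K} {b b' : V} {β β' : V →ₗ[K] K} (hb : b ≠ 0) (hb' : b' ≠ 0) (hβ : β ≠ 0)
    (hβ' : β' ≠ 0) (h : β b = β' b') :
    Cj (μ • (1 : End K V) + β.smulRight b) (μ • (1 : End K V) + β'.smulRight b') := by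
  obtain ⟨P, hP1, hP2⟩ : ∃ P : V ≃ₗ[K] V, P b = b' ∧ ∀ v, β' (P v) = β v := by
    have hker : ∀ (γ : V →ₗ[K] K), γ ≠ 0 → finrank K (LinearMap.ker γ) + 1 = finrank K V := by
      intro γ hγ
      have h1 := LinearMap.finrank_range_add_finrank_ker γ
      rw [LinearMap.range_eq_top.2 (LinearMap.surjective hγ), finrank_top, finrank_self] at h1
      omega
    have hk : finrank K (LinearMap.ker β) = finrank K (LinearMap.ker β') := by
      have := hker β hβ; have := hker β' hβ'; omega
    obtain ⟨u, u', hu, f, hu', hf⟩ : ∃ (u u' : V) (hu : β u = 1)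
        (f : LinearMap.ker β ≃ₗ[K] LinearMap.ker β'), β' u' = 1 ∧
        (f ⟨b - β b • u, by simp [hu]⟩ : V) = b' - β b • u' := by
      rcases eq_or_ne (β b) 0 with h0 | h0
      · obtain ⟨u, hu⟩ := LinearMap.surjective hβ 1
        obtain ⟨u', hu'⟩ := LinearMap.surjective hβ' 1
        have hi : ∀ (γ : V →ₗ[K] K) (c : LinearMap.ker γ), (c : V) ≠ 0 →
            LinearIndependent K ![c] := fun γ c hc =>
          LinearIndependent.of_subsingleton (0 : Fin 1) (by simpa using hc)
        obtain ⟨f, hf⟩ := exists_equiv_family hk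
          (hi β ⟨b - β b • u, by simp [hu]⟩ (by simpa [h0] using hb))
          (hi β' ⟨b' - β b • u', by simp [hu', h]⟩ (by simpa [h0] using hb'))
        refine ⟨u, u', hu, f, hu', ?_⟩
        have := hf 0
        simp only [Matrix.cons_val_zero] at this
        exact congrArg Subtype.val this
      · have h0' : β' b' ≠ 0 := h ▸ h0
        refine ⟨(β b)⁻¹ • b, (β b)⁻¹ • b', by simp [h0], LinearEquiv.ofFinrankEq _ _ hk,
          by simp [h, h0'], ?_⟩
        simp only [smul_smul, mul_inv_cancel₀ h0, one_smul, sub_self]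
        have e0 : (⟨0, by simp⟩ : LinearMap.ker β) = 0 := rfl
        rw [e0, map_zero]
        rfl
    let F : V →ₗ[K] V := (LinearMap.ker β').subtype ∘ₗ (f : LinearMap.ker β →ₗ[K] LinearMap.ker β') ∘ₗ
      LinearMap.codRestrict (LinearMap.ker β) (LinearMap.id - β.smulRight u) (fun v => by simp [hu]) +
      β.smulRight u'
    have hF : ∀ v, F v = (f ⟨v - β v • u, by simp [hu]⟩ : V) + β v • u' := fun v => rfl
    have hFβ : ∀ v, β' (F v) = β v := fun v => by
      rw [hF, map_add, LinearMap.mem_ker.1 (f _).2, zero_add, map_smul, hu', smul_eq_mul, mul_one]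
    have hFi : Function.Injective F := by
      refine (injective_iff_map_eq_zero F).2 fun v hv => ?_
      have h1 := hFβ v
      rw [hv, map_zero] at h1
      simp only [hF, ← h1, zero_smul, add_zero] at hv
      have h2 : (⟨v - β v • u, by simp [hu]⟩ : LinearMap.ker β) = 0 :=
        f.injective (by rw [map_zero]; exact Subtype.ext (by simpa [← h1] using hv))
      simpa [← h1] using congrArg Subtype.val h2
    refine ⟨LinearEquiv.ofInjectiveEndo F hFi, ?_, hFβ⟩
    show F b = b'
    rw [hF, hf, sub_add_cancel]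
  refine ⟨P, fun v => ?_⟩
  simp [hP1, hP2]

theorem exists_avoid_two (p : Submodule K V) (h : finrank K p + 1 < finrank K V) :
    ∃ u₁ u₂ : V, u₁ ∉ p ∧ u₂ ∉ p ⊔ (K ∙ u₁) := by
  have hp : p ≠ ⊤ := fun e => by rw [e, finrank_top] at h; omega
  obtain ⟨u₁, -, hu₁⟩ := SetLike.exists_of_lt (lt_top_iff_ne_top.2 hp)
  have hq : p ⊔ (K ∙ u₁) ≠ ⊤ := fun e => by
    have h1 := Submodule.finrank_add_le_finrank_add_finrank p (K ∙ u₁)
    have h2 : finrank K (K ∙ u₁) ≤ 1 := (finrank_span_le_card _).trans (by simp)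
    rw [e, finrank_top] at h1
    omega
  obtain ⟨u₂, -, hu₂⟩ := SetLike.exists_of_lt (lt_top_iff_ne_top.2 hq)
  exact ⟨u₁, u₂, hu₁, hu₂⟩

/-- A nonscalar scalar plus rank one map is a product of any two cyclic classes of the right
determinant. -/
theorem pse_mul {g : End K V} (hg : NS g) (hP : Pse g) {x h : End K V}
    (hx : IsCyc x) (hh : IsCyc h) (hxd : LinearMap.det x ≠ 0) (hhd : LinearMap.det h ≠ 0)
    (hdet : LinearMap.det g = LinearMap.det x * LinearMap.det h) (hn : 3 ≤ finrank K V)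
    {t : K} {e₀ : V} (he₀ : e₀ ≠ 0) (het : h e₀ = t • e₀) :
    ∃ y h' : End K V, Cj x y ∧ Cj h h' ∧ g = y * h' := by
  obtain ⟨μ, b, β, hgv⟩ := hP
  have hgeq : g = μ • (1 : End K V) + β.smulRight b := LinearMap.ext fun v => by simp [hgv]
  have hb : b ≠ 0 := fun h0 => hg μ (LinearMap.ext fun v => by simp [hgv, h0])
  have hβ : β ≠ 0 := fun h0 => hg μ (LinearMap.ext fun v => by simp [hgv, h0])
  have hgd : LinearMap.det g ≠ 0 := hdet ▸ mul_ne_zero hxd hhd
  have hμ : μ ≠ 0 := by
    intro h0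
    refine absurd (?_ : LinearMap.range g < ⊤) (not_lt_top_iff.2 (LinearMap.range_eq_top.2
      (LinearMap.equivOfDetNeZero g hgd).surjective))
    refine lt_of_le_of_lt (b := K ∙ b) (fun y hy => ?_) (lt_top_iff_ne_top.2 fun ht => ?_)
    · obtain ⟨v, rfl⟩ := hy
      rw [hgv, h0, zero_smul, zero_add]
      exact Submodule.smul_mem _ _ (Submodule.mem_span_singleton_self b)
    · have := finrank_span_singleton (K := K) hb
      rw [ht, finrank_top] at this
      omega
  obtain ⟨J, hJ1, hJ2, hJd⟩ := exists_inv hhd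
  obtain ⟨e, he⟩ := hh.inv hJ1
  -- `J` is the inverse of `h`; shift it by the scalar
  have hgenJ : Gen (μ • J) e := by
    intro S heS hS
    refine he S heS fun v hv => ?_
    have := hS v hv
    rw [LinearMap.smul_apply] at this
    exact (Submodule.smul_mem_iff S hμ).1 this
  have hJi : Function.Injective h :=
    Function.LeftInverse.injective (g := J) fun v => LinearMap.congr_fun hJ1 v
  have hex : ∃ (Y : End K V) (ρ : V →ₗ[K] K) (a : V), Cj x Y ∧
      h * Y = μ • (1 : End K V) + ρ.smulRight (h a) ∧ ρ ≠ 0 ∧ a ≠ 0 := by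
    obtain ⟨ρ, hgen, hchar⟩ := exists_rho hgenJ x.charpoly_monic x.charpoly_natDegree
    have hcjY : Cj x (μ • J + ρ.smulRight e) := cj_of_cyc hx ⟨e, hgen⟩ hchar.symm
    have hmul : ∀ (a : V) (σ : V →ₗ[K] K),
        h * (μ • J + σ.smulRight a) = μ • (1 : End K V) + σ.smulRight (h a) := fun a σ =>
      LinearMap.ext fun v => by
        have e1 : h (J v) = v := LinearMap.congr_fun hJ2 v
        simp [e1]
    by_cases hρ : ρ = 0
    · -- conjugate `μ • J` by a transvection fixing the eigenvector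
      have hte : t ≠ 0 := by
        rintro rfl
        exact he₀ (hJi (by rw [het, zero_smul, map_zero]))
      have hJe : J e₀ = t⁻¹ • e₀ := by
        have h1 := congrArg J het
        rw [← Module.End.mul_apply, hJ1, Module.End.one_apply, map_smul] at h1
        conv_rhs => rw [h1]
        rw [smul_smul, inv_mul_cancel₀ hte, one_smul]
      obtain ⟨φ, hφe, hφ⟩ : ∃ φ : V →ₗ[K] K, φ e₀ = 0 ∧ φ ∘ₗ J - t⁻¹ • φ ≠ 0 := by
        by_contra hc
        push Not at hc
        have hline := (hh.inv hJ1).leftLine t⁻¹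
        obtain ⟨u₁, u₂, hu₁, hu₂⟩ := exists_avoid_two (K ∙ e₀) (by
          have := finrank_span_singleton (K := K) he₀; omega)
        obtain ⟨φ₁, hφ₁, hφ₁0⟩ := CfsgLib.TwoJordan.exists_dual_one hu₁
        obtain ⟨φ₂, hφ₂, hφ₂0⟩ := CfsgLib.TwoJordan.exists_dual_one hu₂
        obtain ⟨c, hc'⟩ := hline φ₁ φ₂ (fun h0 => by simp [h0] at hφ₁)
          (sub_eq_zero.1 (hc φ₁ (hφ₁0 e₀ (Submodule.mem_span_singleton_self _))))
          (sub_eq_zero.1 (hc φ₂ (hφ₂0 e₀ (Submodule.mem_sup_left
            (Submodule.mem_span_singleton_self _)))))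
        have h1 : φ₂ u₁ = 0 :=
          hφ₂0 _ (Submodule.mem_sup_right (Submodule.mem_span_singleton_self _))
        rw [hc', LinearMap.smul_apply, hφ₁, smul_eq_mul, mul_one] at h1
        rw [hc', h1, zero_smul, LinearMap.zero_apply] at hφ₂
        exact zero_ne_one hφ₂
      refine ⟨μ • J + (μ • (φ ∘ₗ J - t⁻¹ • φ)).smulRight e₀, μ • (φ ∘ₗ J - t⁻¹ • φ), e₀, ?_,
        hmul _ _, smul_ne_zero hμ hφ, he₀⟩
      refine hcjY.trans ⟨LinearEquiv.transvection hφe, fun v => ?_⟩
      rw [LinearEquiv.transvection.apply, LinearEquiv.transvection.apply]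
      simp [hρ, hJe, hφe, smul_smul, sub_smul, smul_sub]
      module
    · refine ⟨_, ρ, e, hcjY, hmul e ρ, hρ, ?_⟩
      rintro rfl
      have htop := he ⊥ (Submodule.zero_mem _) fun v hv => by simp [(Submodule.mem_bot K).1 hv]
      have := finrank_top K V
      rw [← htop, finrank_bot] at this
      omega
  obtain ⟨Y, ρ, a, hcjY, hg', hρ, ha⟩ := hex
  have hha : h a ≠ 0 := fun h0 => ha (hJi (by rw [h0, map_zero]))
  have hρb : β b = ρ (h a) := by
    have h1 : LinearMap.det (h * Y) = LinearMap.det g := by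
      rw [map_mul, hcjY.det_eq, hdet, mul_comm]
    rw [hg', hgeq, det_pse μ hμ, det_pse μ hμ] at h1
    have h2 := mul_left_cancel₀ (pow_ne_zero _ hμ) h1
    field_simp at h2
    linear_combination -h2
  obtain ⟨P, hPg⟩ : Cj (Y * h) g := by
    have h1 : Cj (Y * h) (h * Y) :=
      ⟨LinearEquiv.ofBijective h ⟨hJi, LinearMap.surjective_of_injective hJi⟩, fun v => rfl⟩
    refine h1.trans ?_
    rw [hg', hgeq]
    exact cj_pse hha hb hρ hβ hρb.symm
  refine ⟨P.conj Y, P.conj h, hcjY.trans (cj_conj P Y), cj_conj P h, ?_⟩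
  rw [← conj_mul, ← Cj.eq_conj P hPg]

end CfsgLib.SLCover
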