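import Cfsg.Agent.Lib.SLCover.Hess
import Cfsg.Agent.Lib.SLCover.Field
import Cfsg.Agent.Lib.SLCover.Mul
import Cfsg.Agent.Lib.SLComm.Decomp

/-!
# Cyclic split products of two conjugates
-/

set_option autoImplicit false
set_option linter.unusedSectionVars false

namespace CfsgLib.SLCover

open Module Polynomial CfsgLib.SLComm

universe u

variable {K : Type u} [Field K]
variable {V W : Type u} [AddCommGroup V] [Module K V] [AddCommGroup W] [Module K W]
  [FiniteDimensional K V] [FiniteDimensional K W]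

/-- `h` is a product of two conjugates of `x` with determinant ratio `T`. -/
def Pr (x : End K V) (T : K) (h X Y : End K V) : Prop :=
  ∃ p : K, p ≠ 0 ∧ CjD p x X ∧ CjD (T * p) x Y ∧ h = Y * X

theorem Pr.cj_left {x : End K V} {T : K} {h X Y : End K V} (hp : Pr x T h X Y) : Cj x X := by
  obtain ⟨p, hp0, hX, -, -⟩ := hp
  exact hX.cj hp0

theorem Pr.cj_right {x : End K V} {T : K} (hT : T ≠ 0) {h X Y : End K V} (hp : Pr x T h X Y) :
    Cj x Y := by
  obtain ⟨p, hp0, -, hY, -⟩ := hp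
  exact hY.cj (mul_ne_zero hT hp0)

theorem CjD.map {d : K} {x y : End K V} (h : CjD d x y) (e : V ≃ₗ[K] W) :
    CjD d (e.conj x) (e.conj y) := by
  obtain ⟨P, hP, hPx⟩ := h
  refine ⟨e.conj P, ?_, by rw [← conj_mul, ← conj_mul, hPx]⟩
  rw [LinearEquiv.conj_apply, LinearMap.comp_assoc, LinearMap.det_conj, hP]

theorem Pr.map {x : End K V} {T : K} {h X Y : End K V} (hp : Pr x T h X Y) (e : V ≃ₗ[K] W) :
    Pr (e.conj x) T (e.conj h) (e.conj X) (e.conj Y) := by
  obtain ⟨p, hp0, hX, hY, rfl⟩ := hp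
  exact ⟨p, hp0, hX.map e, hY.map e, conj_mul e Y X⟩

theorem left_eigen_root {M : End K V} {t : K} {l : V →ₗ[K] K} (hl : l ≠ 0)
    (hM : l ∘ₗ M = t • l) : M.charpoly.eval t = 0 := by
  have hp : ∀ p : K[X], l ∘ₗ aeval M p = p.eval t • l := by
    intro p
    induction p using Polynomial.induction_on' with
    | add p q hp hq => rw [map_add, LinearMap.comp_add, hp, hq, eval_add, add_smul]
    | monomial n a =>
      have hn : l ∘ₗ (M ^ n : End K V) = t ^ n • l := by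
        induction n with
        | zero => simp [Module.End.one_eq_id]
        | succ n ih =>
          rw [pow_succ, Module.End.mul_eq_comp, ← LinearMap.comp_assoc, ih, LinearMap.smul_comp, hM,
            smul_smul, pow_succ]
      refine LinearMap.ext fun v => ?_
      have := LinearMap.congr_fun hn v
      simp at this
      simp [aeval_monomial, this, mul_assoc]
  have h1 := hp M.charpoly
  rw [LinearMap.aeval_self_charpoly, LinearMap.comp_zero] at h1
  exact (smul_eq_zero.1 h1.symm).resolve_right hl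

theorem NoEig.no_left {x : End K V} (h : NoEig x) {l : V →ₗ[K] K} (hl : l ≠ 0) (t : K) :
    l ∘ₗ x ≠ t • l := fun he => h.eval_ne t (left_eigen_root hl he)

variable [Fintype K]

/-- A cyclic block. -/
theorem single {x : End K V} (hx : IsCyc x) (hxd : LinearMap.det x ≠ 0) {m : ℕ}
    (hn : finrank K V = m + 2) :
    ∃ κ : K, κ ≠ 0 ∧ ∀ (β₁ : K) (β : Fin (m + 1) → K), β₁ ≠ 0 → (∀ l, β l ≠ 0) →
      (∀ l, β l ≠ β₁) → β₁ * ∏ l, β l = LinearMap.det x * LinearMap.det x →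
      ∃ h X Y : End K V, Pr x (κ * hessT β) h X Y ∧ IsCyc h ∧
        Split h (β₁ :: List.ofFn β) := by
  classical
  obtain ⟨xi, hxi1, hxi2, hxid⟩ := exists_inv hxd
  obtain ⟨e, he⟩ := id hx
  have he' : Gen xi e := he.inv hxi1
  let bx := powBasis he hn
  let bG := powBasis he' hn
  let ψ : V ≃ₗ[K] V := bx.equiv bG (Equiv.refl _)
  have hψ : ∀ i, i < m + 2 → (ψ : V →ₗ[K] V) ((x ^ i) e) = (xi ^ i) e := fun i hi => by
    have h1 : bx ⟨i, hi⟩ = (x ^ i) e := powBasis_apply he hn _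
    rw [← h1, LinearEquiv.coe_coe, Basis.equiv_apply, Equiv.refl_apply]
    exact powBasis_apply he' hn _
  refine ⟨LinearMap.det (ψ : V →ₗ[K] V), (LinearEquiv.isUnit_det' ψ).ne_zero, ?_⟩
  intro β₁ β hβ₁ hβ hne hdet
  obtain ⟨B, θ, hB, hBs, hgen, hchar, hθd, hθ, -⟩ := hess he' hn x hn β₁ β hβ₁ hβ hne
    (by rw [hxid]; exact inv_ne_zero hxd)
    (by rw [hxid, hdet, mul_inv_cancel_right₀ hxd])
  obtain ⟨φ, hφ, hφp⟩ := cj_of_gen he hgen hchar.symm
  have hφeq : (φ : V →ₗ[K] V) = θ * (ψ : V →ₗ[K] V) := bx.ext fun i => by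
    have h1 : bx i = (x ^ i.val) e := powBasis_apply he hn _
    rw [h1, Module.End.mul_apply, hψ i.val i.isLt, hθ i.val i.isLt]
    have := hφp (X ^ i.val)
    simpa using this
  refine ⟨B, x, B * xi, ⟨1, one_ne_zero, ⟨1, by simp, by simp⟩, ⟨(φ : V →ₗ[K] V), ?_, ?_⟩, ?_⟩,
    hB, hBs⟩
  · rw [hφeq, map_mul, hθd, mul_one, mul_comm]
  · exact LinearMap.ext hφ
  · rw [mul_assoc, hxi1, mul_one]

/-- Gluing two pairs. -/
theorem glue {x₁ : End K V} {x₂ : End K W} {T₁ T₂ : K} {h₁ X₁ Y₁ : End K V}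
    {h₂ X₂ Y₂ : End K W} (hp₁ : Pr x₁ T₁ h₁ X₁ Y₁) (hp₂ : Pr x₂ T₂ h₂ X₂ Y₂) (hT₁ : T₁ ≠ 0)
    (hT₂ : T₂ ≠ 0) (hc₁ : IsCyc h₁) (hc₂ : IsCyc h₂) {ts us : List K} (hs₁ : Split h₁ ts)
    (hs₂ : Split h₂ us) (hne : ∀ t ∈ ts ++ us, t ≠ 0) (hno : NoEig x₁ ∨ NoEig x₂)
    (r₀ : W →ₗ[K] V) [Nontrivial V] [Nontrivial W] :
    ∃ h X Y : End K (V × W), Pr (upper x₁ r₀ x₂) (T₁ * T₂) h X Y ∧ IsCyc h ∧
      Split h (ts ++ us) ∧ (NoEig x₁ → finrank K W = 1 → r₀ = 0 → NoCommon [Y, X]) := by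
  classical
  have hX₂c : Cj x₂ X₂ := hp₂.cj_left
  have hX₁c : Cj x₁ X₁ := hp₁.cj_left
  have hY₁c : Cj x₁ Y₁ := hp₁.cj_right hT₁
  obtain ⟨p₁, hp₁0, hX₁, hY₁, hh₁⟩ := hp₁
  obtain ⟨p₂, hp₂0, hX₂, hY₂, hh₂⟩ := hp₂
  -- left eigenvectors of `h₁` and right eigenvectors of `h₂`
  let ok : K → Prop := fun t =>
    (∃ l : V →ₗ[K] K, l ≠ 0 ∧ l ∘ₗ h₁ = t • l) ∧ ∃ r : W, r ≠ 0 ∧ h₂ r = t • r
  let F : K → ((W →ₗ[K] V) →ₗ[K] K) := fun t =>
    if h : ok t then
      (h.1.choose ∘ₗ Y₁) ∘ₗ LinearMap.applyₗ (X₂ h.2.choose) -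
        t • (h.1.choose ∘ₗ LinearMap.applyₗ h.2.choose)
    else 0
  let Tset : Finset K := us.toFinset.filter fun t => ok t
  have hFne : ∀ t ∈ Tset, F t ≠ 0 := by
    intro t ht
    obtain ⟨htu, hok⟩ := Finset.mem_filter.1 ht
    have ht0 : t ≠ 0 := hne t (List.mem_append_right _ (List.mem_toFinset.1 htu))
    simp only [F, dif_pos hok]
    set l := hok.1.choose
    set r := hok.2.choose
    obtain ⟨hl, -⟩ := hok.1.choose_spec
    obtain ⟨hr, hhr⟩ := hok.2.choose_spec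
    intro h0
    have h0' : ∀ N : W →ₗ[K] V, l (Y₁ (N (X₂ r))) = t * l (N r) := fun N => by
      have := LinearMap.congr_fun h0 N
      simp [sub_eq_zero] at this
      simpa [l, r] using this
    by_cases hXr : X₂ r ∈ (K ∙ r)
    · obtain ⟨c, hc⟩ := Submodule.mem_span_singleton.1 hXr
      rcases hno with hno | hno
      · have hnoY : NoEig Y₁ := hno.congr hY₁c
        obtain ⟨f, hf, -⟩ := CfsgLib.TwoJordan.exists_dual_one (p := (⊥ : Submodule K W)) (x := r)
          (by simpa using hr)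
        have key : ∀ v, c * l (Y₁ v) = t * l v := fun v => by
          have := h0' (f.smulRight v)
          simp only [LinearMap.smulRight_apply, ← hc, map_smul, hf, smul_eq_mul, one_smul,
            mul_one] at this
          exact this
        rcases eq_or_ne c 0 with rfl | hc0
        · refine hl (LinearMap.ext fun v => ?_)
          have := key v
          rw [zero_mul] at this
          simpa [ht0] using this.symm
        · refine hnoY.no_left hl (t / c) (LinearMap.ext fun v => ?_)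
          have := key v
          simp
          field_simp
          linear_combination this
      · exact (hno.congr hX₂c) r hr c hc.symm
    · obtain ⟨f, hf, hf0⟩ := CfsgLib.TwoJordan.exists_dual_one hXr
      have key : ∀ v, l (Y₁ v) = 0 := fun v => by
        have := h0' (f.smulRight v)
        simpa [hf, hf0 r (Submodule.mem_span_singleton_self r)] using this
      have hYd : LinearMap.det Y₁ ≠ 0 := by
        intro hd
        have h1 : LinearMap.det h₁ = 0 := by rw [hh₁, map_mul, hd, zero_mul]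
        rw [LinearMap.det_eq_sign_charpoly_coeff, hs₁, coeff_zero_eq_eval_zero, eval_list_prod,
          mul_eq_zero, List.prod_eq_zero_iff, List.map_map] at h1
        rcases h1 with h1 | h1
        · exact pow_ne_zero _ (neg_ne_zero.2 one_ne_zero) h1
        · obtain ⟨a, ha, ha0⟩ := List.mem_map.1 h1
          simp at ha0
          exact hne a (List.mem_append_left _ ha) ha0
      refine hl (LinearMap.ext fun v => ?_)
      obtain ⟨w, rfl⟩ := (LinearMap.equivOfDetNeZero Y₁ hYd).surjective v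
      exact key w
  obtain ⟨P₁, hP₁, hPx₁⟩ := hX₁
  obtain ⟨P₂, hP₂, hPx₂⟩ := hX₂
  obtain ⟨Q₁, hQ₁, hQx₁⟩ := hY₁
  obtain ⟨Q₂, hQ₂, hQx₂⟩ := hY₂
  obtain ⟨P₂i, hP₂i, -, -⟩ := exists_inv (g := P₂) (hP₂ ▸ hp₂0)
  obtain ⟨Q₂i, hQ₂i, -, -⟩ := exists_inv (g := Q₂) (hQ₂ ▸ mul_ne_zero hT₂ hp₂0)
  let rX : W →ₗ[K] V := P₁ ∘ₗ r₀ ∘ₗ P₂i
  let rY : W →ₗ[K] V := Q₁ ∘ₗ r₀ ∘ₗ Q₂i
  -- the part of the link which does not depend on the shear
  let C₀ : K → K := fun t =>
    if h : ok t then h.1.choose (Y₁ (rX h.2.choose) + rY (X₂ h.2.choose)) else 0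
  have hcard : Tset.card < Fintype.card K := by
    refine Finset.card_lt_univ_of_notMem (x := (0 : K)) fun h => ?_
    exact hne 0 (List.mem_append_right _ (List.mem_toFinset.1 (Finset.mem_filter.1 h).1)) rfl
  obtain ⟨N, hN, hN0⟩ : ∃ N : W →ₗ[K] V, (∀ t ∈ Tset, F t N ≠ -C₀ t) ∧
      (r₀ = 0 → N ≠ 0) := by
    obtain ⟨N, hN⟩ := exists_avoid Tset hcard F (fun t => -C₀ t) hFne
    rcases Tset.eq_empty_or_nonempty with h | ⟨t, ht⟩
    · obtain ⟨r, hr⟩ := exists_ne (0 : W)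
      obtain ⟨v, hv⟩ := exists_ne (0 : V)
      obtain ⟨f, hf, -⟩ := CfsgLib.TwoJordan.exists_dual_one (p := (⊥ : Submodule K W)) (x := r)
        (by simpa using hr)
      refine ⟨f.smulRight v, by simp [h], fun _ h0 => hv ?_⟩
      simpa [hf] using LinearMap.congr_fun h0 r
    · refine ⟨N, hN, fun hr0 h0 => hN t ht ?_⟩
      rw [h0, map_zero]
      simp [C₀, rX, rY, hr0]
  -- the conjugated second factor
  let X : End K (V × W) := upper X₁ rX X₂
  let Y : End K (V × W) := upper Y₁ (rY + (Y₁ ∘ₗ N - N ∘ₗ Y₂)) Y₂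
  let R : W →ₗ[K] V := Y₁ ∘ₗ rX + (rY + (Y₁ ∘ₗ N - N ∘ₗ Y₂)) ∘ₗ X₂
  have hH : Y * X = upper h₁ R h₂ := by
    refine LinearMap.ext fun q => Prod.ext ?_ ?_
    · simp [X, Y, R, hh₁]
      abel
    · simp [X, Y, hh₂]
  have hsplit : Split (upper h₁ R h₂) (ts ++ us) := by
    rw [Split, charpoly_upper, hs₁, hs₂, List.map_append, List.prod_append]
  refine ⟨Y * X, X, Y, ⟨p₁ * p₂, mul_ne_zero hp₁0 hp₂0, ?_, ?_, rfl⟩, ?_, hH ▸ hsplit, ?_⟩
  · refine ⟨P₁.prodMap P₂, by rw [LinearMap.det_prodMap, hP₁, hP₂], LinearMap.ext fun q =>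
      Prod.ext ?_ ?_⟩
    · have e1 : P₁ (x₁ q.1) = X₁ (P₁ q.1) := LinearMap.congr_fun hPx₁ q.1
      have e3 : P₂i (P₂ q.2) = q.2 := LinearMap.congr_fun hP₂i q.2
      simp [X, rX, e1, e3]
    · have e2 : P₂ (x₂ q.2) = X₂ (P₂ q.2) := LinearMap.congr_fun hPx₂ q.2
      simp [X, e2]
  · refine ⟨upper 1 (-N) 1 * Q₁.prodMap Q₂, ?_, LinearMap.ext fun q => Prod.ext ?_ ?_⟩
    · rw [map_mul, det_upper, LinearMap.det_prodMap, hQ₁, hQ₂]
      simp
      ring
    · have e1 : Q₁ (x₁ q.1) = Y₁ (Q₁ q.1) := LinearMap.congr_fun hQx₁ q.1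
      have e2 : Q₂ (x₂ q.2) = Y₂ (Q₂ q.2) := LinearMap.congr_fun hQx₂ q.2
      have e3 : Q₂i (Q₂ q.2) = q.2 := LinearMap.congr_fun hQ₂i q.2
      simp [Y, rY, e1, e2, e3]
      abel
    · have e2 : Q₂ (x₂ q.2) = Y₂ (Q₂ q.2) := LinearMap.congr_fun hQx₂ q.2
      simp [Y, e2]
  · rw [hH]
    refine isCyc_of_leftLine hsplit hne fun t _ => leftLine_upper (hc₁.leftLine t) (hc₂.leftLine t) ?_
    intro l hl hlh
    by_cases hr : ∃ r : W, r ≠ 0 ∧ h₂ r = t • r
    · have hok : ok t := ⟨⟨l, hl, hlh⟩, hr⟩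
      have htu : t ∈ us := by
        obtain ⟨r, hr0, hrt⟩ := hr
        have h1 : h₂.charpoly.eval t = 0 :=
          (Module.End.hasEigenvalue_iff_isRoot_charpoly h₂ t).1
            (Module.End.hasEigenvalue_of_hasEigenvector
              ⟨Module.End.mem_eigenspace_iff.2 hrt, hr0⟩)
        rw [hs₂, eval_list_prod, List.prod_eq_zero_iff, List.map_map] at h1
        obtain ⟨a, ha, ha0⟩ := List.mem_map.1 h1
        simp [sub_eq_zero] at ha0
        rwa [ha0]
      refine Or.inr ⟨hok.2.choose, hok.2.choose_spec.2, fun h0 => ?_⟩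
      refine hN t (Finset.mem_filter.2 ⟨List.mem_toFinset.2 htu, hok⟩) ?_
      obtain ⟨c, hc⟩ := hc₁.leftLine t l hok.1.choose hl hlh hok.1.choose_spec.2
      have e1 : Y₂ (X₂ hok.2.choose) = t • hok.2.choose :=
        (LinearMap.congr_fun hh₂ _).symm.trans hok.2.choose_spec.2
      simp only [R, LinearMap.comp_apply, LinearMap.sub_apply, LinearMap.add_apply, map_sub,
        map_add, e1, map_smul, smul_eq_mul] at h0
      simp only [F, C₀, dif_pos hok]
      simp [hc]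
      linear_combination c * h0
    · refine Or.inl fun l₂ hl₂ hlb => hr ?_
      obtain ⟨r, hr'⟩ := ((Module.End.hasEigenvalue_iff_isRoot_charpoly h₂ t).2
        (left_eigen_root hl₂ hlb)).exists_hasEigenvector
      exact ⟨r, hr'.2, hr'.apply_eq_smul⟩
  · intro hno₁ hW hr0 q hq μ
    by_contra hc
    push Not at hc
    have hX : X q = μ • q := hc X (by simp)
    have hY : Y q = μ • q := hc Y (by simp)
    have hq1 : q.1 = 0 := by
      by_contra h
      refine (hno₁.congr hX₁c) q.1 h μ ?_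
      simpa [X, rX, hr0] using congrArg Prod.fst hX
    have hq2 : q.2 ≠ 0 := fun h => hq (Prod.ext hq1 h)
    have h2 : Y₂ q.2 = μ • q.2 := by
      have := congrArg Prod.snd hY
      simpa [Y] using this
    have h3 := congrArg Prod.fst hY
    simp [Y, rY, hr0, hq1, h2] at h3
    have hNq : N q.2 ≠ 0 := fun h0 => hN0 hr0 (LinearMap.ext fun w => by
      obtain ⟨c, rfl⟩ := (finrank_eq_one_iff_of_nonzero' q.2 hq2).1 hW w
      simp [h0])
    exact (hno₁.congr hY₁c) (N q.2) hNq μ (sub_eq_zero.1 h3)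

end CfsgLib.SLCover
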