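import Cfsg.Agent.Lib.SLCover.Base

/-!
# Maps without eigenvectors on a quotient by an eigenline
-/

set_option autoImplicit false
set_option linter.unusedSectionVars false

namespace CfsgLib.SLCover

open Module Polynomial CfsgLib.SLComm

universe u

variable {K : Type u} [Field K]
variable {V W : Type u} [AddCommGroup V] [Module K V] [AddCommGroup W] [Module K W]
  [FiniteDimensional K V] [FiniteDimensional K W]

theorem exists_conj_map {P : End K V} (hP : LinearMap.det P ≠ 0) (x : End K V) :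
    ∃ y, CjD (LinearMap.det P) x y ∧ ∀ v, y (P v) = P (x v) := by
  obtain ⟨Pi, h1, h2, -⟩ := exists_inv hP
  exact ⟨P * x * Pi, ⟨P, rfl, by rw [mul_assoc, h1, mul_one]⟩,
    fun v => by simp [show Pi (P v) = v from LinearMap.congr_fun h1 v]⟩

theorem exists_not_two [Fintype K] (hq : 3 ≤ Fintype.card K) (hn : 2 ≤ finrank K V) (a b : V) :
    ∃ w : V, w ∉ (K ∙ a) ∧ w ∉ (K ∙ b) := by
  classical
  obtain ⟨w, hw⟩ := exists_avoid_sub (Finset.univ : Finset Bool) (by simp; omega)
    (fun i => bif i then (K ∙ a) else (K ∙ b)) (fun i _ e => by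
      have h1 : ∀ c : V, finrank K (K ∙ c) ≤ 1 := fun c =>
        (finrank_span_le_card _).trans (by simp)
      cases i <;> simp at e <;> (have := congrArg (fun S : Submodule K V => finrank K S) e
                                 simp only [finrank_top] at this
                                 first
                                  | (have := h1 a; omega)
                                  | (have := h1 b; omega)))
  exact ⟨w, hw true (Finset.mem_univ _), hw false (Finset.mem_univ _)⟩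

theorem NoEig.of_inv {x xi : End K V} (hx : NoEig x) (h : x * xi = 1) : NoEig xi := by
  intro v hv t ht
  have h1 : v = t • x v := by
    conv_lhs => rw [← show x (xi v) = v from LinearMap.congr_fun h v, ht, map_smul]
  rcases eq_or_ne t 0 with rfl | ht0
  · exact hv (by rw [h1, zero_smul])
  · refine hx v hv t⁻¹ ?_
    conv_rhs => rw [h1]
    rw [smul_smul, inv_mul_cancel₀ ht0, one_smul]

theorem Cj.inv {x : End K V} {y : End K W} (h : Cj x y) {xi : End K V} {yi : End K W}
    (hx : x * xi = 1) (hy : yi * y = 1) : Cj xi yi := by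
  obtain ⟨e, he⟩ := h
  refine ⟨e, fun v => ?_⟩
  have h1 := he (xi v)
  rw [show x (xi v) = v from LinearMap.congr_fun hx v] at h1
  rw [h1]
  exact (LinearMap.congr_fun hy _).symm

theorem NoCommon.map {L : List (End K V)} (h : NoCommon L) (e : V ≃ₗ[K] W) :
    NoCommon (L.map fun y => e.conj y) := by
  intro w hw μ
  obtain ⟨y, hy, hne⟩ := h (e.symm w) (by simpa using hw) μ
  refine ⟨e.conj y, List.mem_map.2 ⟨y, hy, rfl⟩, fun h => hne ?_⟩
  have := congrArg e.symm h
  simpa [LinearEquiv.conj_apply] using this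

/-- An eigenline under a quotient without eigenvectors splits off. -/
theorem cj_line_sum {x' : End K W} (hno : NoEig x') (lam : K) (r : W →ₗ[K] K) :
    Cj (upper x' 0 (lam • (1 : End K K))) (upper (lam • (1 : End K K)) r x') := by
  obtain ⟨Z, hZ⟩ := NoHom.solve (a := lam • (1 : End K K)) (b := x') (fun Z hZ => by
    by_contra h0
    exact hno.no_left h0 lam (hZ.symm.trans (by ext; simp))) r
  refine ⟨(LinearEquiv.prodComm K W K).trans
    { toFun := fun p => (p.1 + Z p.2, p.2)
      map_add' := fun a b => Prod.ext (by simp; abel) (by simp)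
      map_smul' := fun a b => Prod.ext (by simp [mul_add]) (by simp)
      invFun := fun p => (p.1 - Z p.2, p.2)
      left_inv := fun p => by simp
      right_inv := fun p => by simp }, fun p => Prod.ext ?_ ?_⟩
  · have := LinearMap.congr_fun hZ p.1
    simp at this
    simp [mul_add, ← this]
  · simp

theorem cyc_line_sum {x' : End K W} (hno : NoEig x') (hc : IsCyc x') (lam : K) :
    IsCyc (upper x' 0 (lam • (1 : End K K))) := by
  obtain ⟨e, he⟩ := hc
  have hinj : Function.Injective (x' - lam • 1 : End K W) := by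
    refine (injective_iff_map_eq_zero (x' - lam • 1 : End K W)).2 fun v hv => by_contra fun h0 =>
      hno v h0 lam ?_
    simpa [sub_eq_zero] using hv
  let φ := LinearEquiv.ofInjectiveEndo _ hinj
  have hgen : Gen x' (φ e) := he.map φ fun v => by
    show (x' - lam • 1 : End K W) (x' v) = x' ((x' - lam • 1 : End K W) v)
    simp
  refine ⟨(e, 1), fun S hS hi => ?_⟩
  have h1 : ((φ e : W), (0 : K)) ∈ S := by
    have := S.sub_mem (hi _ hS) (S.smul_mem lam hS)
    convert this using 1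
    show ((x' - lam • 1 : End K W) e, (0 : K)) = _
    refine Prod.ext ?_ ?_ <;> simp
  have htop := hgen (S.comap (LinearMap.inl K W K)) h1 fun w hw => by
    have := hi _ (Submodule.mem_comap.1 hw)
    show (x' w, (0 : K)) ∈ S
    simpa using this
  have hw : ∀ w : W, (w, (0 : K)) ∈ S := fun w =>
    (htop ▸ Submodule.mem_top : w ∈ S.comap (LinearMap.inl K W K))
  refine eq_top_iff.2 fun p _ => ?_
  have h2 : ((0 : W), (1 : K)) ∈ S := by simpa using S.sub_mem hS (hw e)
  simpa using S.add_mem (hw p.1) (S.smul_mem p.2 h2)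

theorem isCyc_line (lam : K) : IsCyc (lam • (1 : End K K)) :=
  ⟨1, fun S hS _ => eq_top_iff.2 fun a _ => by simpa using S.smul_mem a hS⟩

theorem split_line (lam : K) : Split (lam • (1 : End K K)) [lam] := by
  have hg : Gen (lam • (1 : End K K)) (1 : K) :=
    fun S hS _ => eq_top_iff.2 fun a _ => by simpa using S.smul_mem a hS
  rw [Split, hg.charpoly_eq (monic_X_sub_C lam) (by rw [natDegree_X_sub_C, finrank_self])
    (by simp [Algebra.algebraMap_eq_smul_one])]
  simp

variable [Fintype K]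

/-- Split off one conjugate so that the rest is not scalar. -/
theorem exists_factor (hq : 4 ≤ Fintype.card K) (hn : 3 ≤ finrank K V) {x g : End K V}
    (hx : NS x) (hxd : LinearMap.det x ≠ 0) (hgd : LinearMap.det g ≠ 0) :
    ∃ y yi, CjD 1 x y ∧ yi * y = 1 ∧ y * yi = 1 ∧ LinearMap.det yi = (LinearMap.det x)⁻¹ ∧
      NS (yi * g) := by
  obtain ⟨xi, hx1, hx2, hxid⟩ := exists_inv hxd
  by_cases h : NS (xi * g)
  · exact ⟨x, xi, ⟨1, map_one _, by simp⟩, hx1, hx2, hxid, h⟩
  simp only [NS, not_forall, not_not] at h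
  obtain ⟨s, hs⟩ := h
  have hg : g = s • x := by
    calc g = x * (xi * g) := by rw [← mul_assoc, hx2, one_mul]
      _ = s • x := by rw [hs, mul_smul_comm, mul_one]
  have hs0 : s ≠ 0 := by
    rintro rfl
    refine hgd ?_
    rw [hg, LinearMap.det_smul, zero_pow (by omega), zero_mul]
  obtain ⟨v, hv⟩ := exists_not_eigen hx
  have hv0 : v ≠ 0 := by rintro rfl; exact hv 0 (by simp)
  obtain ⟨w, hw1, hw2⟩ := exists_not_two (K := K) (by omega) (by omega) v (x v)
  obtain ⟨P, hP, hPab⟩ := exists_cjD_family (K := K) (V := V) (k := 2) (by omega) (linIndep_pair hv0 hv)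
    (linIndep_pair hv0 (notMem_span_singleton.1 hw1)) (one_ne_zero (α := K))
  obtain ⟨y, hy, hyv⟩ := exists_conj_map (P := P) (by rw [hP]; exact one_ne_zero) x
  rw [hP] at hy
  have hyw : y v = w := by
    have h1 : P v = v := hPab 0
    have h2 : P (x v) = w := hPab 1
    have := hyv v
    rwa [h1, h2] at this
  have hyd : LinearMap.det y = LinearMap.det x := (hy.cj one_ne_zero).det_eq
  obtain ⟨yi, hy1, hy2, hyid⟩ := exists_inv (g := y) (hyd ▸ hxd)
  refine ⟨y, yi, hy, hy1, hy2, hyd ▸ hyid, fun t ht => ?_⟩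
  have h1 : g v = t • w := by
    calc g v = y ((yi * g) v) := by
          rw [← Module.End.mul_apply, ← mul_assoc, hy2, one_mul]
      _ = t • w := by rw [ht]; simp [hyw]
  rw [hg, LinearMap.smul_apply] at h1
  refine hw2 (Submodule.mem_span_singleton.2 ⟨t⁻¹ * s, ?_⟩)
  rcases eq_or_ne t 0 with rfl | ht0
  · rw [zero_smul, smul_eq_zero, or_iff_right hs0] at h1
    exact absurd (h1.trans (zero_smul K v).symm) (hv 0)
  · rw [mul_smul, h1, smul_smul, inv_mul_cancel₀ ht0, one_smul]

/-- More factors cover as well. -/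
theorem extend (hq : 4 ≤ Fintype.card K) (hn : 3 ≤ finrank K V) {x : End K V} (hx : NS x)
    (hxd : LinearMap.det x ≠ 0) {m : ℕ}
    (base : ∀ g : End K V, NS g → LinearMap.det g = LinearMap.det x ^ m → CoverS x m g) :
    ∀ k, m ≤ k → ∀ g : End K V, NS g → LinearMap.det g = LinearMap.det x ^ k → CoverS x k g := by
  intro k hk
  induction k, hk using Nat.le_induction with
  | base => exact base
  | succ k _ ih =>
    intro g hg hd
    obtain ⟨y, yi, hy, hy1, hy2, hyid, hns⟩ := exists_factor hq hn hx hxd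
      (g := g) (hd ▸ pow_ne_zero _ hxd)
    obtain ⟨L, hL, hcj, hprod, hE⟩ := ih (yi * g) hns (by
      rw [map_mul, hyid, hd, pow_succ', inv_mul_cancel_left₀ hxd])
    refine ⟨y :: L, by simp [hL], List.forall_mem_cons.2 ⟨hy, hcj⟩, ?_, fun v hv μ => ?_⟩
    · rw [List.prod_cons, hprod, ← mul_assoc, hy2, one_mul]
    · obtain ⟨z, hz, hne⟩ := hE v hv μ
      exact ⟨z, List.mem_cons_of_mem _ hz, hne⟩

variable [DecidableEq K]

/-- At least four conjugates of a map without eigenvectors. -/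
theorem noEig_cover (hq : 4 ≤ Fintype.card K) (hn : 3 ≤ finrank K V) {x : End K V}
    (hno : NoEig x) (hxd : LinearMap.det x ≠ 0) {k : ℕ} (hk : 4 ≤ k) {g : End K V} (hg : NS g)
    (hdet : LinearMap.det g = LinearMap.det x ^ k) : CoverS x k g := by
  haveI : Nontrivial V := Module.nontrivial_of_finrank_pos (R := K) (by omega)
  have hx : NS x := fun s hs => by
    obtain ⟨v, hv⟩ := exists_ne (0 : V)
    exact hno v hv s (by simp [hs])
  refine extend hq hn hx hxd (m := 4) (fun g hg hd => ?_) k hk g hg hdet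
  obtain ⟨L, hL, hcj, hprod⟩ := four_conj hq hno hxd hg hd
  refine ⟨L, hL, hcj, hprod, fun v hv μ => ?_⟩
  obtain ⟨y, hy⟩ := List.exists_mem_of_ne_nil L (fun h => by simp [h] at hL)
  exact ⟨y, hy, (hno.congr ((hcj y hy).cj one_ne_zero)) v hv μ⟩

/-- Dimension three without eigenvectors. -/
theorem three_irred (hq : 4 ≤ Fintype.card K) (hn : finrank K V = 3) {x : End K V}
    (hno : NoEig x) (hxd : LinearMap.det x ≠ 0) {g : End K V} (hg : NS g)
    (hdet : LinearMap.det g = LinearMap.det x ^ 3) : CoverS x 3 g := by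
  haveI : Nontrivial V := Module.nontrivial_of_finrank_pos (R := K) (by omega)
  have hxP : ¬ Pse x := by
    rintro ⟨s, b, β, h⟩
    obtain ⟨v, hv, hv0⟩ := (LinearMap.ker β).exists_mem_ne_zero_of_ne_bot fun h0 => by
      have := LinearMap.finrank_range_add_finrank_ker β
      rw [h0, finrank_bot, hn] at this
      have := Submodule.finrank_le (LinearMap.range β)
      rw [finrank_self] at this
      omega
    exact hno v hv0 s (by rw [h, LinearMap.mem_ker.1 hv, zero_smul, add_zero])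
  have hc : IsCyc x := isCyc_three hn hxP
  refine Cover.special (hno.full_small hc (by omega) (by omega)) ?_
  obtain ⟨κ, hκ, hs⟩ := single hc hxd (m := 1) hn
  set c := LinearMap.det x * LinearMap.det x with hc'
  have hc0 : c ≠ 0 := mul_ne_zero hxd hxd
  obtain ⟨b, hb0, hbc, hb2⟩ := exists_b hq c c
  set β₁ := c / b with hβ₁
  have h1 : β₁ ≠ 0 := div_ne_zero hc0 hb0
  have hβ : ∀ l, (![b, 1] : Fin 2 → K) l ≠ 0 := by simp [Fin.forall_fin_two, hb0]
  have hne : ∀ l, (![b, 1] : Fin 2 → K) l ≠ β₁ := by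
    simp only [Fin.forall_fin_two, Matrix.cons_val_zero, Matrix.cons_val_one, hβ₁]
    constructor
    · intro h; rw [eq_div_iff hb0] at h; exact hb2 (by rw [sq, h])
    · intro h; rw [eq_div_iff hb0, one_mul] at h; exact hbc h
  have hprod : β₁ * ∏ l, (![b, 1] : Fin 2 → K) l = c := by
    simp [Fin.prod_univ_two, hβ₁, hb0]
  obtain ⟨h, X, Y, hp, hhc, hhs⟩ := hs β₁ ![b, 1] h1 hβ hne hprod
  have hT : κ * hessT (![b, 1] : Fin 2 → K) ≠ 0 := mul_ne_zero hκ (by
    rw [hessT_eq]; exact Finset.prod_ne_zero_iff.2 fun l _ => pow_ne_zero _ (hβ l))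
  have hhd := hp.det_eq hT
  have hgd : LinearMap.det g ≠ 0 := hdet ▸ pow_ne_zero _ hxd
  obtain ⟨y, h', hy, hh', hgy⟩ : ∃ y h' : End K V, Cj x y ∧ Cj h h' ∧ g = y * h' := by
    have hd3 : LinearMap.det g = LinearMap.det x * LinearMap.det h := by rw [hdet, hhd]; ring
    by_cases hP : Pse g
    · obtain ⟨e, he⟩ := ((Module.End.hasEigenvalue_iff_isRoot_charpoly h β₁).2 (by
        rw [IsRoot, hhs, List.map_cons, List.prod_cons]; simp)).exists_hasEigenvector
      exact pse_mul hg hP hc hhc hxd (hhd ▸ hc0) hd3 (by omega) he.2 he.apply_eq_smul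
    · exact cyc_mul (m := 1) (isCyc_three hn hP) hn hn hc hgd hhc β₁ _ hhs h1 hβ hne hd3
        (by rw [hhd, hprod])
  obtain ⟨e, he⟩ := hh'
  refine ⟨[y, e.conj Y, e.conj X], rfl, ?_, ?_, fun v hv μ => ⟨y, by simp,
    (hno.congr hy) v hv μ⟩⟩
  · simp only [List.mem_cons, List.not_mem_nil, or_false, forall_eq_or_imp, forall_eq]
    exact ⟨hy, (hp.cj_right hT).trans (cj_conj e Y), hp.cj_left.trans (cj_conj e X)⟩
  · obtain ⟨-, -, -, -, rfl⟩ := hp
    rw [List.prod_cons, List.prod_cons, List.prod_singleton, ← conj_mul, ← Cj.eq_conj e he, hgy]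

/-- Two factors in dimension three. -/
theorem bottom_three {x' : End K W} (hW : finrank K W = 2) (hno : NoEig x')
    (hd : LinearMap.det x' ≠ 0) {lam : K} (hl : lam ≠ 0) {g : End K (W × K)} (hP : ¬ Pse g)
    (hdet : LinearMap.det g = LinearMap.det (upper x' 0 (lam • (1 : End K K))) ^ 2) :
    Cover (upper x' 0 (lam • (1 : End K K))) 2 g := by
  set x₀ := upper x' 0 (lam • (1 : End K K)) with hx₀
  obtain ⟨xi', hx1, hx2, hxid⟩ := exists_inv hd
  set x₀i := upper xi' 0 (lam⁻¹ • (1 : End K K)) with hx₀i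
  have hinv : x₀i * x₀ = 1 := LinearMap.ext fun p => Prod.ext
    (by simpa [hx₀, hx₀i] using LinearMap.congr_fun hx1 p.1) (by simp [hx₀, hx₀i, hl])
  have hx₀d : LinearMap.det x₀ ≠ 0 := by
    rw [hx₀, det_upper, LinearMap.det_smul, map_one, mul_one, finrank_self, pow_one]
    exact mul_ne_zero hd hl
  have hxiN : NoEig xi' := hno.of_inv hx2
  haveI : Nontrivial W := Module.nontrivial_of_finrank_pos (R := K) (by omega)
  obtain ⟨w₁, hw₁⟩ := exists_ne (0 : W)
  have hn : finrank K (W × K) = 3 := by rw [finrank_prod, hW, finrank_self]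
  have hc₀ : IsCyc x₀ := cyc_line_sum hno ⟨w₁, gen_two hW (hno w₁ hw₁)⟩ lam
  obtain ⟨e, hge⟩ := isCyc_three hn hP
  let b := powBasis hge hn
  have hb : ∀ i : Fin 3, b i = (g ^ i.val) e := powBasis_apply hge hn
  have hg0 : g (b 0) = b 1 := by rw [hb, hb]; simp
  have hg1 : g (b 1) = b 2 := by rw [hb, hb]; simp [pow_two]
  obtain ⟨c1, c2, c3, hg2⟩ : ∃ c1 c2 c3 : K, g (b 2) = c1 • b 0 + c2 • b 1 + c3 • b 2 := by
    refine ⟨b.repr (g (b 2)) 0, b.repr (g (b 2)) 1, b.repr (g (b 2)) 2, ?_⟩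
    have := b.sum_repr (g (b 2))
    rw [Fin.sum_univ_three] at this
    exact this.symm
  obtain ⟨p, hp⟩ : ∃ p : K, p + c3 = 1 := ⟨1 - c3, sub_add_cancel 1 c3⟩
  set τ := LinearMap.trace K W xi' with hτ
  set δ := LinearMap.det xi' with hδ
  have hδ0 : δ ≠ 0 := fun h => inv_ne_zero hd (hxid.symm.trans h)
  have hw2 : xi' (xi' w₁) = τ • xi' w₁ - δ • w₁ := by
    have h := LinearMap.congr_fun xi'.aeval_self_charpoly w₁
    rw [charpoly_two hW] at h
    simp [pow_two, Algebra.algebraMap_eq_smul_one, ← hτ, ← hδ] at h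
    linear_combination (norm := module) h
  have hliA : LinearIndependent K ![((w₁, 0) : W × K), (xi' w₁, 0), (0, 1)] := by
    rw [Fintype.linearIndependent_iff]
    intro c hc
    simp [Fin.sum_univ_three] at hc
    obtain ⟨h0, h1⟩ := LinearIndependent.pair_iff.1 (linIndep_pair hw₁ (hxiN w₁ hw₁)) _ _ hc.1
    intro i
    fin_cases i
    · exact h0
    · exact h1
    · exact hc.2
  have hliB : LinearIndependent K ![b 1, p • b 1 + b 2, b 0] := by
    rw [Fintype.linearIndependent_iff]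
    intro c hc
    simp [Fin.sum_univ_three] at hc
    have h := Fintype.linearIndependent_iff.1 b.linearIndependent ![c 2, c 0 + c 1 * p, c 1] (by
      simp [Fin.sum_univ_three]
      linear_combination (norm := module) hc)
    have h0 := h 0
    have h1 := h 1
    have h2 := h 2
    simp at h0 h1 h2
    rw [h2, zero_mul, add_zero] at h1
    intro i
    fin_cases i <;> assumption
  obtain ⟨φ, hφ⟩ := exists_equiv_family (V := W × K) (W := W × K) rfl hliA hliB
  set B₀ := φ.conj x₀i with hB₀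
  have hB0 : B₀ (b 0) = lam⁻¹ • b 0 := by
    have h := hφ 2
    simp at h
    rw [← h, hB₀, LinearEquiv.conj_apply]
    simp [hx₀i, ← map_smul]
  have hB1 : B₀ (b 1) = p • b 1 + b 2 := by
    have h := hφ 0
    have h' := hφ 1
    simp at h h'
    rw [← h', ← h, hB₀, LinearEquiv.conj_apply]
    simp [hx₀i]
  have hBf : B₀ (p • b 1 + b 2) = τ • (p • b 1 + b 2) - δ • b 1 := by
    have h := hφ 0
    have h' := hφ 1
    simp at h h'
    have e : x₀i ((xi' w₁, 0) : W × K) = τ • ((xi' w₁, 0) : W × K) - δ • ((w₁, 0) : W × K) :=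
      Prod.ext (by simp [hx₀i, hw2]) (by simp [hx₀i])
    rw [← h', ← h, hB₀, LinearEquiv.conj_apply, LinearMap.comp_apply, LinearMap.comp_apply,
      LinearEquiv.coe_coe, LinearEquiv.coe_coe, φ.symm_apply_apply, e, map_sub, map_smul, map_smul]
  have hb0e : b 0 = e := by rw [hb]; simp
  have hgen : Gen (B₀ * g) (b 0) := fun S hS hi => by
    have hf : p • b 1 + b 2 ∈ S := by
      have := hi _ hS
      rwa [Module.End.mul_apply, hg0, hB1] at this
    have h1 := hi _ hf
    have hb2 : b 2 = (p • b 1 + b 2) - p • b 1 := by abel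
    rw [Module.End.mul_apply, map_add, map_smul, hg1, hg2, hb2,
      show p • ((p • b 1 + b 2) - p • b 1) + (c1 • b 0 + c2 • b 1 + c3 • ((p • b 1 + b 2) - p • b 1))
        = c1 • b 0 + (c2 - (p + c3) * p) • b 1 + (p + c3) • (p • b 1 + b 2) by module, hp, one_mul,
      one_smul, map_add, map_add, map_smul, map_smul, hB0, hB1, hBf] at h1
    have h2 : δ • b 1 ∈ S := by
      have := S.sub_mem (S.add_mem (S.add_mem (S.smul_mem c1 (S.smul_mem lam⁻¹ hS))
        (S.smul_mem (c2 - p) hf)) (S.smul_mem τ hf)) h1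
      convert this using 1
      abel
    have hb1 : b 1 ∈ S := (Submodule.smul_mem_iff S hδ0).1 h2
    have hb2' : b 2 ∈ S := hb2 ▸ S.sub_mem hf (S.smul_mem p hb1)
    refine eq_top_iff.2 (b.span_eq.ge.trans (Submodule.span_le.2 ?_))
    rintro _ ⟨i, rfl⟩
    fin_cases i <;> assumption
  have hB₀d : LinearMap.det B₀ = LinearMap.det x₀i := (cj_conj φ x₀i).det_eq
  have hx₀id : LinearMap.det x₀i = (LinearMap.det x₀)⁻¹ :=
    eq_inv_of_mul_eq_one_left (by rw [← map_mul, hinv, map_one])
  obtain ⟨B, hBcj, hgenB, hchar, hBe⟩ := perturb (β₁ := lam⁻¹) (inv_ne_zero hl) hB0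
    (fun l hl0 hlB => by
      have h1 : l ∘ₗ (φ : W × K →ₗ[K] W × K) ∘ₗ LinearMap.inl K W K = 0 := by
        by_contra h0
        refine hxiN.no_left h0 lam⁻¹ (LinearMap.ext fun w => ?_)
        have := LinearMap.congr_fun hlB (φ (w, 0))
        simpa [hB₀, LinearEquiv.conj_apply, hx₀i] using this
      have h2 : φ ((0 : W), (1 : K)) = b 0 := by simpa using hφ 2
      refine LinearMap.ext fun v => ?_
      obtain ⟨q, rfl⟩ := φ.surjective v
      have h3 := LinearMap.congr_fun h1 q.1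
      simp at h3
      rw [show q = (q.1, 0) + q.2 • ((0 : W), (1 : K)) by simp, map_add, map_add, map_smul, map_smul,
        h2, hl0, h3]
      simp)
    hgen (by rw [hB₀d, hx₀id]; exact inv_ne_zero hx₀d)
    (by rw [hdet]; exact pow_ne_zero _ hx₀d) x₀ rfl
    (by rw [hB₀d, hx₀id, hdet, pow_two, inv_mul_cancel_left₀ hx₀d]) (b.ne_zero 0)
  have hxB : Cj x₀i B := (cj_conj φ x₀i).trans hBcj
  obtain ⟨Bi, hB1', hB2', -⟩ := exists_inv (g := B) (by
    rw [hxB.det_eq, hx₀id]; exact inv_ne_zero hx₀d)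
  have hgd : LinearMap.det g ≠ 0 := hdet ▸ pow_ne_zero _ hx₀d
  refine ⟨[g * B, Bi], rfl, ?_, by simp [mul_assoc, hB2'], fun w hw μ => ?_⟩
  · intro a ha
    simp at ha
    rcases ha with rfl | rfl
    · refine (cj_of_cyc hc₀ ⟨_, hgenB⟩ hchar.symm).trans
        ⟨LinearMap.equivOfDetNeZero g hgd, fun v => ?_⟩
      rfl
    · exact Cj.inv hxB hinv hB1'
  · by_contra hcn
    push Not at hcn
    have e1 := hcn (g * B) (by simp)
    have e2 := hcn Bi (by simp)
    have e3 : w = μ • B w := by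
      conv_lhs => rw [← show B (Bi w) = w from LinearMap.congr_fun hB2' w, e2, map_smul]
    have hμ : μ ≠ 0 := fun h => hw (by rw [e3, h, zero_smul])
    have e4 : B w = μ⁻¹ • w := by
      conv_rhs => rw [e3]
      rw [smul_smul, inv_mul_cancel₀ hμ, one_smul]
    obtain ⟨ψ, hψ⟩ := hxB
    have key : ∀ (v : W × K) (s : K), B v = s • v → (ψ.symm v).1 = 0 := fun v s hv => by
      by_contra h0
      refine hxiN _ h0 s ?_
      have h := hψ (ψ.symm v)
      rw [ψ.apply_symm_apply, hv] at h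
      have h' := congrArg (fun z => (ψ.symm z).1) h
      simpa [hx₀i] using h'
    have k1 := key w _ e4
    have k2 := key (b 0) _ hBe
    have k3 : (ψ.symm (b 0)).2 ≠ 0 := fun h => b.ne_zero 0
      (ψ.symm.injective ((show ψ.symm (b 0) = 0 from Prod.ext k2 h).trans (map_zero ψ.symm).symm))
    obtain ⟨c, hc⟩ : ∃ c : K, w = c • b 0 :=
      ⟨(ψ.symm w).2 / (ψ.symm (b 0)).2, ψ.symm.injective
        (by rw [map_smul]; exact Prod.ext (by simp [k1, k2]) (by simp [div_mul_cancel₀ _ k3]))⟩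
    have hc0 : c ≠ 0 := fun h => hw (by rw [hc, h, zero_smul])
    rw [hc, Module.End.mul_apply, map_smul, hBe, map_smul, map_smul, hg0, smul_comm μ] at e1
    have e5 := smul_right_injective (W × K) hc0 e1
    have h := Fintype.linearIndependent_iff.1 b.linearIndependent ![-μ, lam⁻¹, 0] (by
      simp [Fin.sum_univ_three]
      rw [e5]; abel) 1
    simp [hl] at h

theorem pair_line {x' : End K W} [Nontrivial W] (hno : NoEig x') {lam : K} (hl : lam ≠ 0)
    {T : K} (hT : T ≠ 0) {h X Y : End K W} (hp : Pr x' T h X Y) (hc : IsCyc h) {ts : List K}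
    (hs : Split h ts) (hts : ∀ t ∈ ts, t ≠ 0) :
    ∃ (T' : K) (h' X' Y' : End K (W × K)), T' ≠ 0 ∧ Pr (upper x' 0 (lam • (1 : End K K))) T' h' X' Y' ∧
      IsCyc h' ∧ Split h' (ts ++ [lam * lam]) ∧ NoCommon [Y', X'] := by
  have hp2 : Pr (lam • (1 : End K K)) 1 ((lam * lam) • 1) (lam • 1) (lam • 1) :=
    ⟨1, one_ne_zero, ⟨1, map_one _, by simp⟩, ⟨1, by simp, by simp⟩, by
      rw [smul_mul_smul_comm, one_mul]⟩
  obtain ⟨h', X', Y', hp', hc', hs', hE⟩ := glue hp hp2 hT one_ne_zero hc (isCyc_line _) hs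
    (split_line _) (fun t ht => by
      rcases List.mem_append.1 ht with h | h
      · exact hts t h
      · rw [List.mem_singleton.1 h]; exact mul_ne_zero hl hl) (Or.inl hno) 0
  exact ⟨_, h', X', Y', mul_ne_zero hT one_ne_zero, hp', hc', hs', hE hno (finrank_self K) rfl⟩

/-- Three factors in dimension four. -/
theorem bottom_four (hq : 4 ≤ Fintype.card K) {x' : End K W} (hW : finrank K W = 3)
    (hno : NoEig x') (hd : LinearMap.det x' ≠ 0) {lam : K} (hl : lam ≠ 0) {g : End K (W × K)}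
    (hP : ¬ Pse g)
    (hdet : LinearMap.det g = LinearMap.det (upper x' 0 (lam • (1 : End K K))) ^ 3) :
    Cover (upper x' 0 (lam • (1 : End K K))) 3 g := by
  haveI : Nontrivial W := Module.nontrivial_of_finrank_pos (R := K) (by omega)
  have hn : finrank K (W × K) = 4 := by rw [finrank_prod, hW, finrank_self]
  have hxP : ¬ Pse x' := by
    rintro ⟨s, b, β, h⟩
    obtain ⟨v, hv, hv0⟩ := (LinearMap.ker β).exists_mem_ne_zero_of_ne_bot fun h0 => by
      have := LinearMap.finrank_range_add_finrank_ker β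
      rw [h0, finrank_bot, hW] at this
      have := Submodule.finrank_le (LinearMap.range β)
      rw [finrank_self] at this
      omega
    exact hno v hv0 s (by rw [h, LinearMap.mem_ker.1 hv, zero_smul, add_zero])
  have hc := isCyc_three hW hxP
  obtain ⟨κ, hκ, hs⟩ := single hc hd (m := 1) hW
  set c := LinearMap.det x' * LinearMap.det x' with hc'
  set u := lam * lam with hu
  have hc0 : c ≠ 0 := mul_ne_zero hd hd
  have hu0 : u ≠ 0 := mul_ne_zero hl hl
  obtain ⟨b, hb0, hbc, hb2⟩ := exists_b hq (c / (u * u)) (c / u)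
  set β₁ := c / (b * u) with hβ₁
  have h1 : β₁ ≠ 0 := div_ne_zero hc0 (mul_ne_zero hb0 hu0)
  have hβ : ∀ l, (![b, u] : Fin 2 → K) l ≠ 0 := by simp [Fin.forall_fin_two, hb0, hu0]
  have hne : ∀ l, (![b, u] : Fin 2 → K) l ≠ β₁ := by
    simp only [Fin.forall_fin_two, Matrix.cons_val_zero, Matrix.cons_val_one, hβ₁]
    constructor <;> intro h <;> rw [eq_div_iff (mul_ne_zero hb0 hu0)] at h
    · refine hb2 ?_
      rw [eq_div_iff hu0]; linear_combination h
    · refine hbc ?_
      rw [eq_div_iff (mul_ne_zero hu0 hu0)]; linear_combination h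
  have hprod : β₁ * ∏ l, (![b, u] : Fin 2 → K) l = c := by
    rw [Fin.prod_univ_two, hβ₁]
    simp
    field_simp
  obtain ⟨h, X, Y, hp, hhc, hhs⟩ := hs β₁ ![b, u] h1 hβ hne hprod
  have hT : κ * hessT (![b, u] : Fin 2 → K) ≠ 0 := mul_ne_zero hκ (by
    rw [hessT_eq]; exact Finset.prod_ne_zero_iff.2 fun l _ => pow_ne_zero _ (hβ l))
  obtain ⟨T, h₃, X₃, Y₃, hT₃, hp₃, hc₃, hs₃, hE⟩ := pair_line hno hl hT hp hhc hhs fun t ht => by
    rcases List.mem_cons.1 ht with rfl | ht
    · exact h1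
    · obtain ⟨l, rfl⟩ := List.mem_ofFn.1 ht
      exact hβ l
  have hd₀ : LinearMap.det (upper x' 0 (lam • (1 : End K K))) = LinearMap.det x' * lam := by
    rw [det_upper, LinearMap.det_smul, map_one, mul_one, finrank_self, pow_one]
  have hh₃ := hp₃.det_eq hT₃
  have hgd : LinearMap.det g ≠ 0 := by
    rw [hdet, hd₀]; exact pow_ne_zero _ (mul_ne_zero hd hl)
  obtain ⟨y, h', hy, hh', hgy⟩ := four_mul hq hn hn (cyc_line_sum hno hc lam) hgd hP hc₃ β₁
    ![b, u, u] (by simpa [hu] using hs₃) h1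
    (by simp [Fin.forall_fin_succ, hb0, hu0])
    (by
      have := hne 0; have := hne 1
      simp [Fin.forall_fin_succ] at *
      tauto)
    (by rw [hdet, hh₃]; ring)
    (by
      rw [hh₃, hd₀, Fin.prod_univ_three, hβ₁]
      simp
      field_simp
      rw [hc', hu]; ring)
  obtain ⟨e, he⟩ := hh'
  refine ⟨[y, e.conj Y₃, e.conj X₃], rfl, ?_, ?_, ?_⟩
  · simp only [List.mem_cons, List.not_mem_nil, or_false, forall_eq_or_imp, forall_eq]
    exact ⟨hy, (hp₃.cj_right hT₃).trans (cj_conj e _), hp₃.cj_left.trans (cj_conj e _)⟩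
  · obtain ⟨-, -, -, -, rfl⟩ := hp₃
    rw [List.prod_cons, List.prod_cons, List.prod_singleton, ← conj_mul, ← Cj.eq_conj e he, hgy]
  · intro v hv μ
    obtain ⟨z, hz, hne'⟩ := hE.map e v hv μ
    exact ⟨z, List.mem_cons_of_mem _ hz, hne'⟩

/-- Four factors. -/
theorem bottom_five (hq : 4 ≤ Fintype.card K) {x' : End K W} [Nontrivial W]
    (hno : NoEig x') (hd : LinearMap.det x' ≠ 0) {lam : K} (hl : lam ≠ 0) {g : End K (W × K)}
    (hg : NS g)
    (hdet : LinearMap.det g = LinearMap.det (upper x' 0 (lam • (1 : End K K))) ^ 4) :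
    Cover (upper x' 0 (lam • (1 : End K K))) 4 g := by
  obtain ⟨T, h, X, Y, ts, hT, hp, hc, hs, hne⟩ := pair_any hq hno hd
  obtain ⟨T₃, h₃, X₃, Y₃, hT₃, hp₃, hc₃, hs₃, hE⟩ := pair_line hno hl hT hp hc hs hne
  obtain ⟨A, B, ⟨ea, hea⟩, ⟨eb, heb⟩, hgAB⟩ := covering hq hc₃ hs₃ (fun t ht => by
      rcases List.mem_append.1 ht with h' | h'
      · exact hne t h'
      · rw [List.mem_singleton.1 h']; exact mul_ne_zero hl hl) hg rfl
    (by rw [hp₃.det_eq hT₃, hdet]; ring)
  refine ⟨[ea.conj Y₃, ea.conj X₃, eb.conj Y₃, eb.conj X₃], rfl, ?_, ?_, ?_⟩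
  · simp only [List.mem_cons, List.not_mem_nil, or_false, forall_eq_or_imp, forall_eq]
    exact ⟨(hp₃.cj_right hT₃).trans (cj_conj ea _), hp₃.cj_left.trans (cj_conj ea _),
      (hp₃.cj_right hT₃).trans (cj_conj eb _), hp₃.cj_left.trans (cj_conj eb _)⟩
  · obtain ⟨-, -, -, -, rfl⟩ := hp₃
    rw [hgAB, Cj.eq_conj ea hea, Cj.eq_conj eb heb, conj_mul, conj_mul]
    simp [mul_assoc]
  · intro v hv μ
    obtain ⟨z, hz, hne'⟩ := hE.map ea v hv μ
    refine ⟨z, ?_, hne'⟩
    simp at hz ⊢
    tauto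

end CfsgLib.SLCover
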