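import Cfsg.Agent.Lib.SLCover.Step

/-!
# Products of as many conjugates as the dimension
-/

set_option autoImplicit false
set_option linter.unusedSectionVars false

namespace CfsgLib.SLCover

open Module Polynomial CfsgLib.SLComm

universe u

variable {K : Type u} [Field K] [Fintype K]
variable {V W : Type u} [AddCommGroup V] [Module K V] [AddCommGroup W] [Module K W]
  [FiniteDimensional K V] [FiniteDimensional K W]

theorem forall2_left {α β : Type*} {R : α → β → Prop} {L : List α} {M : List β}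
    (h : List.Forall₂ R L M) {a : α} (ha : a ∈ L) : ∃ b ∈ M, R a b := by
  induction h with
  | nil => simp at ha
  | cons hab _ ih =>
    rcases List.mem_cons.1 ha with rfl | ha
    · exact ⟨_, List.mem_cons_self .., hab⟩
    · obtain ⟨b, hb, hR⟩ := ih ha
      exact ⟨b, List.mem_cons_of_mem _ hb, hR⟩

theorem forall2_right {α β : Type*} {R : α → β → Prop} {L : List α} {M : List β}
    (h : List.Forall₂ R L M) {b : β} (hb : b ∈ M) : ∃ a ∈ L, R a b := by
  induction h with
  | nil => simp at hb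
  | cons hab _ ih =>
    rcases List.mem_cons.1 hb with rfl | hb
    · exact ⟨_, List.mem_cons_self .., hab⟩
    · obtain ⟨a, ha, hR⟩ := ih hb
      exact ⟨a, List.mem_cons_of_mem _ ha, hR⟩

/-- The first factor and the quotient data for a peeling step. -/
def Peel {k : ℕ} (x g : End K V) (c : K) (f : (K × (Fin k → K)) ≃ₗ[K] V) (y yi : End K V) :
    Prop :=
  CjD 1 x y ∧ yi * y = 1 ∧ y * yi = 1 ∧ (∀ t : K, y (f (1, 0)) ≠ t • f (1, 0)) ∧
    (yi * g) (f (1, 0)) = c • f (1, 0)

theorem finish {k : ℕ} {x g : End K V} (hxd : LinearMap.det x ≠ 0) {lam : K}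
    {f₀ : (K × (Fin k → K)) ≃ₗ[K] V} (hx : x (f₀ (1, 0)) = lam • f₀ (1, 0)) {m : ℕ}
    (hdet : LinearMap.det g = LinearMap.det x ^ (m + 1)) {f : (K × (Fin k → K)) ≃ₗ[K] V}
    {y yi : End K V} (hp : Peel x g (lam ^ m) f y yi)
    (hB : LinearMap.det (frQuo f (yi * g)) = LinearMap.det (frQuo f₀ x) ^ m →
      Cover (frQuo f₀ x) m (frQuo f (yi * g))) :
    CoverS x (m + 1) g := by
  obtain ⟨hy, hyi, hyi', hyv, hU⟩ := hp
  have hf0 : f₀ ((1 : K), (0 : Fin k → K)) ≠ 0 := fun h =>
    one_ne_zero (congrArg Prod.fst (f₀.injective (h.trans (map_zero f₀).symm)))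
  have hl := eig_ne_zero hxd hf0 hx
  have hdx : LinearMap.det x = lam * LinearMap.det (frQuo f₀ x) := det_frame f₀ hx
  obtain ⟨L, hLlen, hLcj, hLprod, hLE⟩ := hB (by
    have h1 := det_frame f hU
    have hyd : LinearMap.det y = LinearMap.det x := (hy.cj one_ne_zero).det_eq
    have hyid : LinearMap.det yi * LinearMap.det x = 1 := by
      rw [← hyd, ← map_mul, hyi, map_one]
    rw [map_mul, hdet, pow_succ', ← mul_assoc, hyid, one_mul, hdx, mul_pow] at h1
    exact (mul_left_cancel₀ (pow_ne_zero _ hl) h1).symm)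
  have hmap : (L.map fun _ => lam).prod = lam ^ m := by
    rw [List.map_const', List.prod_replicate, hLlen]
  obtain ⟨Ys, hYs, hprod⟩ := lift_all (fun _ => lam) (fun X => X) (fun _ => x) f L
    (fun X hX => ⟨hl, frRow f₀ x, frQuo f₀ x, cj_frame f₀ hx, hLcj X hX⟩)
    (fun b hb => hLE b hb lam) (yi * g) (by rw [hmap]; exact hU) (by rw [List.map_id']; exact hLprod.symm)
  refine ⟨y :: Ys, by simp [← hYs.length_eq, hLlen], List.forall_mem_cons.2 ⟨hy, fun z hz => ?_⟩, ?_, ?_⟩
  · obtain ⟨X, -, hX, -⟩ := forall2_right hYs hz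
    exact hX
  · rw [List.prod_cons, hprod, ← mul_assoc, hyi', one_mul]
  · intro w hw μ
    by_contra hcn
    push Not at hcn
    have e1 := hcn y (List.mem_cons_self ..)
    have hb : (f.symm w).2 = 0 := by
      by_contra hb
      obtain ⟨X, hX, hne⟩ := hLE _ hb μ
      obtain ⟨Y, hY, -, φ, hφ⟩ := forall2_left hYs hX
      have e2 := hcn Y (List.mem_cons_of_mem _ hY)
      have h1 := hφ (f.symm w)
      rw [f.apply_symm_apply, e2] at h1
      have h2 := congrArg (fun z => (f.symm z).2) h1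
      simp at h2
      exact hne h2.symm
    obtain ⟨a, rfl⟩ := Submodule.mem_span_singleton.1 ((frame_mem f w).1 hb)
    have ha : a ≠ 0 := fun h => hw (by rw [h, zero_smul])
    refine hyv μ (smul_right_injective V ha ?_)
    rw [map_smul, smul_comm μ] at e1
    exact e1

theorem peel_of {k : ℕ} {x g y yi : End K V} {f : (K × (Fin k → K)) ≃ₗ[K] V} {w : V} {c : K}
    (hy : CjD 1 x y) (hyi : yi * y = 1) (hyi' : y * yi = 1) (hyv : y (f (1, 0)) = w)
    (hw : ∀ t : K, w ≠ t • f (1, 0)) (hgv : g (f (1, 0)) = c • w) : Peel x g c f y yi :=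
  ⟨hy, hyi, hyi', fun t => hyv ▸ hw t, by
    rw [Module.End.mul_apply, hgv, map_smul, ← hyv, ← Module.End.mul_apply, hyi,
      Module.End.one_apply]⟩

/-- A step in dimension at least four. -/
theorem step_four (hq : 4 ≤ Fintype.card K) {k : ℕ} (hn : finrank K V = k + 1) (hk : 3 ≤ k)
    {x g : End K V} (hx : NS x) (hg : NS g) (hxd : LinearMap.det x ≠ 0)
    (hgd : LinearMap.det g ≠ 0) (hP : ¬ Pse x ∨ ¬ Pse g) {c : K} (hc : c ≠ 0) :
    ∃ (f : (K × (Fin k → K)) ≃ₗ[K] V) (y yi : End K V),
      Peel x g c f y yi ∧ ¬ Pse (frQuo f (yi * g)) := by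
  classical
  obtain ⟨a₀, v, ha₀, hv, hgood⟩ : ∃ a₀ v, (∀ t : K, x a₀ ≠ t • a₀) ∧ (∀ t : K, g v ≠ t • v) ∧
      ((¬ Pse x ∧ ∀ s : K, ∃ z, x z - s • z ∉ Submodule.span K ({a₀, x a₀} : Set V)) ∨
       (Pse x ∧ ∀ s : K, ∃ z, g z - s • z ∉ Submodule.span K ({v, g v} : Set V))) := by
    by_cases h : Pse x
    · obtain ⟨v, hv, hgood⟩ := exists_good hq (by omega) (hP.resolve_left (not_not.2 h))
      obtain ⟨a₀, ha₀⟩ := exists_not_eigen hx
      exact ⟨a₀, v, ha₀, hv, Or.inr ⟨h, hgood⟩⟩
    · obtain ⟨a₀, ha₀, hgood⟩ := exists_good hq (by omega) h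
      obtain ⟨v, hv⟩ := exists_not_eigen hg
      exact ⟨a₀, v, ha₀, hv, Or.inl ⟨h, hgood⟩⟩
  have hv0 : v ≠ 0 := by rintro rfl; exact hv 0 (by simp)
  obtain ⟨f, hf⟩ := exists_frame hn hv0
  set w := c⁻¹ • g v with hw
  have hgw : g v = c • w := by rw [hw, smul_smul, mul_inv_cancel₀ hc, one_smul]
  have hwv : ∀ t : K, w ≠ t • v := fun t ht => hv (c * t) (by rw [hgw, ht, smul_smul])
  obtain ⟨P, y, yi, hP1, hPa, hPx, hyP, hy, hyi, hyi', hyv⟩ :=
    pin (by omega) hxd ha₀ hv0 hwv
  obtain ⟨gi, hgi, -, -⟩ := exists_inv hgd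
  by_contra hcn
  push Not at hcn
  have all : ∀ y yi : End K V, CjD 1 x y → yi * y = 1 → y * yi = 1 → y v = w →
      ∃ μ : K, ∀ z, g z - μ • y z ∈ Submodule.span K ({v, g v} : Set V) := by
    intro y yi hy hyi hyi' hyv
    have hyv' : y (f (1, 0)) = w := by rw [hf, hyv]
    have hgv' : g (f (1, 0)) = c • w := by rw [hf, hgw]
    have hw' : ∀ t : K, w ≠ t • f (1, 0) := by rw [hf]; exact hwv
    have h := pse_step hq (by rw [finrank_fin_fun]; exact hk) f hc hgi hyi hyi' hyv' hgv' hw'
      fun q hq' => by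
        obtain ⟨y', yi', hy', h1, h2, hv', hB⟩ := vary f hc hgi hyi hyi' hyv' hgv' q hq'
        rw [← hB]
        refine hcn f y' yi' (peel_of ?_ h1 h2 hv' hw' hgv')
        have := hy.trans hy'
        rwa [one_mul] at this
    rwa [hf] at h
  set M := Submodule.span K ({v, g v} : Set V) with hM
  obtain ⟨μ, hμ⟩ := all y yi hy hyi hyi' hyv
  have hvM : v ∈ M := Submodule.subset_span (by simp)
  have hgvM : g v ∈ M := Submodule.subset_span (by simp)
  have hwM : w ∈ M := M.smul_mem _ hgvM
  rcases hgood with ⟨-, hgood⟩ | ⟨hxP, hgood⟩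
  · have hMP : ∀ z, P z ∈ M → z ∈ Submodule.span K ({a₀, x a₀} : Set V) := fun z hz => by
      obtain ⟨a, b, hab⟩ := Submodule.mem_span_pair.1 hz
      refine Submodule.mem_span_pair.2 ⟨a, b * c, ?_⟩
      refine (LinearMap.equivOfDetNeZero P (by rw [hP1]; exact one_ne_zero)).injective ?_
      show P _ = P z
      rw [map_add, map_smul, map_smul, hPa, hPx, mul_smul, ← hgw, hab]
    have hgood' : ∀ s : K, ∃ z, y z - s • z ∉ M := fun s => by
      obtain ⟨z, hz⟩ := hgood s
      refine ⟨P z, fun h => hz (hMP _ ?_)⟩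
      rwa [map_sub, map_smul, ← hyP]
    obtain ⟨z, hzM, hyz⟩ : ∃ z, z ∉ M ∧ y z ∉ M ⊔ (K ∙ z) := by
      by_contra h
      push Not at h
      have hlt : ∀ z, M ⊔ (K ∙ z) ≠ ⊤ := fun z e => by
        have h1 := Submodule.finrank_add_le_finrank_add_finrank M (K ∙ z)
        have h2 := line_le (K := K) z
        have h3 : finrank K M ≤ 2 := by
          rw [hM, show ({v, g v} : Set V) = (({v, g v} : Finset V) : Set V) by simp]
          exact (finrank_span_finset_le_card _).trans Finset.card_le_two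
        rw [e, finrank_top, hn] at h1
        omega
      have hMi : ∀ m ∈ M, y m ∈ M := by
        intro m hm
        obtain ⟨z₁, -, hz₁⟩ := SetLike.exists_of_lt (lt_top_iff_ne_top.2 (show M ≠ ⊤ from
          fun e => hlt 0 (by rw [e]; simp)))
        obtain ⟨z₂, -, hz₂⟩ := SetLike.exists_of_lt (lt_top_iff_ne_top.2 (hlt z₁))
        have key : ∀ z, z ∉ M → y m ∈ M ⊔ (K ∙ z) := fun z hz => by
          have h1 := h z hz
          have h2 := h (z + m) (fun e => hz ((Submodule.add_mem_iff_left M hm).1 e))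
          have h3 : M ⊔ (K ∙ (z + m)) ≤ M ⊔ (K ∙ z) := sup_le le_sup_left
            ((Submodule.span_singleton_le_iff_mem _ _).2 (Submodule.add_mem _
              (Submodule.mem_sup_right (Submodule.mem_span_singleton_self z))
              (Submodule.mem_sup_left hm)))
          have h4 := h3 h2
          rw [map_add] at h4
          exact (Submodule.add_mem_iff_right _ h1).1 h4
        obtain ⟨m₁, hm₁, q, hq', e1⟩ := Submodule.mem_sup.1 (key z₁ hz₁)
        obtain ⟨a, rfl⟩ := Submodule.mem_span_singleton.1 hq'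
        obtain ⟨m₂, hm₂, q, hq', e2⟩ := Submodule.mem_sup.1
          (key z₂ fun e => hz₂ (Submodule.mem_sup_left e))
        obtain ⟨b, rfl⟩ := Submodule.mem_span_singleton.1 hq'
        rcases eq_or_ne b 0 with rfl | hb
        · rw [zero_smul, add_zero] at e2; rw [← e2]; exact hm₂
        · refine absurd ((Submodule.smul_mem_iff _ hb).1 ?_) hz₂
          have : b • z₂ = (m₁ - m₂) + a • z₁ := by
            linear_combination (norm := module) e2 - e1
          rw [this]
          exact Submodule.add_mem _ (Submodule.mem_sup_left (M.sub_mem hm₁ hm₂))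
            (Submodule.mem_sup_right (Submodule.smul_mem _ a (Submodule.mem_span_singleton_self z₁)))
      have hns : NS (M.mapQ M y hMi) := fun s hs => by
        obtain ⟨z, hz⟩ := hgood' s
        refine hz ((Submodule.Quotient.eq M).1 ?_)
        have := LinearMap.congr_fun hs (Submodule.Quotient.mk z)
        simpa using this
      obtain ⟨zb, hzb⟩ := exists_not_eigen hns
      obtain ⟨z, rfl⟩ := Submodule.Quotient.mk_surjective _ zb
      have hzM : z ∉ M := fun e => hzb 0 (by
        rw [zero_smul, (Submodule.Quotient.mk_eq_zero M).2 e, map_zero])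
      obtain ⟨m, hm, q, hq', e⟩ := Submodule.mem_sup.1 (h z hzM)
      obtain ⟨a, rfl⟩ := Submodule.mem_span_singleton.1 hq'
      refine hzb a ?_
      rw [Submodule.mapQ_apply, ← Submodule.Quotient.mk_smul, Submodule.Quotient.eq, ← e,
        add_sub_cancel_right]
      exact hm
    obtain ⟨ψ, hψy, hψ⟩ := CfsgLib.TwoJordan.exists_dual_one hyz
    have hψM : ∀ m ∈ M, ψ m = 0 := fun m hm => hψ m (Submodule.mem_sup_left hm)
    have hψz : ψ z = 0 := hψ z (Submodule.mem_sup_right (Submodule.mem_span_singleton_self z))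
    let P₂ : End K V := LinearMap.transvection ψ z
    have hP₂ : ∀ u, P₂ u = u + ψ u • z := fun u => LinearMap.transvection.apply ψ z u
    have hP₂d : LinearMap.det P₂ = 1 := by simp [P₂, LinearMap.transvection.det, hψz]
    obtain ⟨y₂, hy₂, hy₂P⟩ := exists_conj_map (P := P₂) (by rw [hP₂d]; exact one_ne_zero) y
    rw [hP₂d] at hy₂
    have hxy₂ : CjD 1 x y₂ := by
      have := hy.trans hy₂
      rwa [one_mul] at this
    have hy₂v : y₂ v = w := by
      have := hy₂P v
      rwa [hP₂ v, hψM v hvM, zero_smul, add_zero, hyv, hP₂ w, hψM w hwM, zero_smul,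
        add_zero] at this
    have hy₂z : y₂ z = y z + z := by
      have := hy₂P z
      rwa [hP₂ z, hψz, zero_smul, add_zero, hP₂ (y z), hψy, one_smul] at this
    obtain ⟨y₂i, h1, h2, -⟩ := exists_inv (g := y₂) (by
      rw [(hxy₂.cj one_ne_zero).det_eq]; exact hxd)
    obtain ⟨μ', hμ'⟩ := all y₂ y₂i hxy₂ h1 h2 hy₂v
    have hd : (μ - μ') • y z - μ' • z ∈ M := by
      have := M.sub_mem (hμ' z) (hμ z)
      rw [hy₂z] at this
      convert this using 1
      module
    rcases eq_or_ne μ μ' with rfl | hne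
    · rw [sub_self, zero_smul, zero_sub, neg_mem_iff] at hd
      rcases eq_or_ne μ 0 with hμ0 | hμ0
      · have : (⊤ : Submodule K V) ≤ M := fun u _ => by
          obtain ⟨u', rfl⟩ := (LinearMap.equivOfDetNeZero g hgd).surjective u
          have := hμ u'
          rw [hμ0, zero_smul, sub_zero] at this
          exact this
        exact hzM (this trivial)
      · exact hzM ((Submodule.smul_mem_iff M hμ0).1 hd)
    · refine hyz ((Submodule.smul_mem_iff _ (sub_ne_zero.2 hne)).1 ?_)
      have h3 := Submodule.add_mem (M ⊔ (K ∙ z)) (Submodule.mem_sup_left hd)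
        (Submodule.mem_sup_right (Submodule.smul_mem (K ∙ z) μ' (Submodule.mem_span_singleton_self z)))
      rwa [sub_add_cancel] at h3
  · obtain ⟨s, b, β, hyb⟩ := hxP.congr (hy.cj one_ne_zero)
    have hβv : β v ≠ 0 := fun h => by
      have := hyb v
      rw [h, zero_smul, add_zero, hyv] at this
      exact hwv s this
    have hbM : b ∈ M := by
      have h1 := hyb v
      rw [hyv] at h1
      refine (Submodule.smul_mem_iff M hβv).1 ?_
      rw [show β v • b = w - s • v by rw [h1]; abel]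
      exact M.sub_mem hwM (M.smul_mem s hvM)
    obtain ⟨z, hz⟩ := hgood (μ * s)
    refine hz ?_
    have := M.add_mem (hμ z) (M.smul_mem (μ * β z) hbM)
    rw [hyb z] at this
    convert this using 1
    module

/-- A step in dimension three. -/
theorem step_three (hn : finrank K V = 3) {x g : End K V} (hx : NS x) (hg : NS g)
    (hxd : LinearMap.det x ≠ 0) (hgd : LinearMap.det g ≠ 0) (hP : ¬ Pse x ∨ ¬ Pse g) {c : K}
    (hc : c ≠ 0) (S : Finset K) (hS : S.card < Fintype.card K) :
    ∃ (f : (K × (Fin 2 → K)) ≃ₗ[K] V) (y yi : End K V), Peel x g c f y yi ∧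
      LinearMap.trace K (Fin 2 → K) (frQuo f (yi * g)) ∉ S := by
  classical
  obtain ⟨a₀, v, ha₀, hv, hgood⟩ : ∃ a₀ v, (∀ t : K, x a₀ ≠ t • a₀) ∧ (∀ t : K, g v ≠ t • v) ∧
      (x (x a₀) ∉ Submodule.span K ({a₀, x a₀} : Set V) ∨
        g (g v) ∉ Submodule.span K ({v, g v} : Set V)) := by
    by_cases h : Pse x
    · obtain ⟨v, hv, hgood⟩ := exists_krylov hn (hP.resolve_left (not_not.2 h))
      obtain ⟨a₀, ha₀⟩ := exists_not_eigen hx
      exact ⟨a₀, v, ha₀, hv, Or.inr hgood⟩
    · obtain ⟨a₀, ha₀, hgood⟩ := exists_krylov hn h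
      obtain ⟨v, hv⟩ := exists_not_eigen hg
      exact ⟨a₀, v, ha₀, hv, Or.inl hgood⟩
  have hv0 : v ≠ 0 := by rintro rfl; exact hv 0 (by simp)
  obtain ⟨f, hf⟩ := exists_frame (k := 2) hn hv0
  obtain ⟨w, hw⟩ : ∃ w, w = c⁻¹ • g v := ⟨_, rfl⟩
  have hgw : g v = c • w := by rw [hw, smul_smul, mul_inv_cancel₀ hc, one_smul]
  have hwv : ∀ t : K, w ≠ t • v := fun t ht => hv (c * t) (by rw [hgw, ht, smul_smul])
  obtain ⟨P, y, yi, hP1, hPa, hPx, hyP, hy, hyi, hyi', hyv⟩ :=
    pin (by omega) hxd ha₀ hv0 hwv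
  obtain ⟨gi, hgi, hgi', -⟩ := exists_inv hgd
  set M := Submodule.span K ({v, g v} : Set V) with hM
  have hvM : v ∈ M := Submodule.subset_span (by simp)
  have hgvM : g v ∈ M := Submodule.subset_span (by simp)
  have hwM : w ∈ M := hw ▸ M.smul_mem _ hgvM
  obtain ⟨y', yi', hy', h1, h2, hy'v, ha'⟩ : ∃ y' yi', CjD 1 x y' ∧ yi' * y' = 1 ∧ y' * yi' = 1 ∧
      y' v = w ∧ g (yi' v) ∉ M := by
    set a := yi v with ha
    have hya : y a = v := LinearMap.congr_fun hyi' v
    by_cases hga : g a ∈ M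
    swap
    · exact ⟨y, yi, hy, hyi, hyi', hyv, hga⟩
    have haM : a ∉ M := by
      intro haM
      obtain ⟨α, β, hab⟩ := Submodule.mem_span_pair.1 haM
      have hβ : β ≠ 0 := by
        intro h
        rw [h, zero_smul, add_zero] at hab
        rw [← hab, map_smul, hyv] at hya
        rcases eq_or_ne α 0 with hα | hα
        · exact hv0 (by rw [← hya, hα, zero_smul])
        · exact hwv α⁻¹ (by rw [← hya, smul_smul, inv_mul_cancel₀ hα, one_smul])
      rcases hgood with hgood | hgood
      · refine hgood ?_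
        rw [← hab, map_add, map_smul, map_smul, hyv, hgw, map_smul, smul_smul] at hya
        have hyw : y w = P (x (x a₀)) := by rw [← hPx, hyP]
        rw [hyw, ← hPa, ← hPx, ← map_smul P, ← map_smul P, ← map_add P] at hya
        have h3 := (LinearMap.equivOfDetNeZero P (by rw [hP1]; exact one_ne_zero)).injective hya
        refine Submodule.mem_span_pair.2 ⟨(β * c)⁻¹, -((β * c)⁻¹ * α), ?_⟩
        rw [← inv_smul_smul₀ (mul_ne_zero hβ hc) (x (x a₀)), neg_smul, mul_smul, ← sub_eq_add_neg,
          ← smul_sub]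
        congr 1
        exact sub_eq_of_eq_add (by rw [add_comm]; exact h3.symm)
      · refine hgood ((Submodule.smul_mem_iff M hβ).1 ?_)
        rw [← hab, map_add, map_smul, map_smul] at hga
        exact (Submodule.add_mem_iff_right M (M.smul_mem α hgvM)).1 hga
    have hggv : g (g v) ∉ M := by
      intro hmem
      have hlt : M < M ⊔ (K ∙ a) := lt_of_le_of_ne le_sup_left fun e =>
        haM (e ▸ Submodule.mem_sup_right (Submodule.mem_span_singleton_self a))
      have h2 : finrank K M = 2 := by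
        have := finrank_span_eq_card (linIndep_pair hv0 hv)
        rw [Fintype.card_fin] at this
        have e : ({v, g v} : Set V) = Set.range ![v, g v] := by
          ext z
          simp [eq_comm]
          tauto
        rw [hM, e]
        exact this
      have htop : M ⊔ (K ∙ a) = ⊤ := Submodule.eq_top_of_finrank_eq (by
        have := Submodule.finrank_lt_finrank_of_lt hlt
        have := Submodule.finrank_le (M ⊔ (K ∙ a))
        omega)
      have : (⊤ : Submodule K V) ≤ M := fun u _ => by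
        obtain ⟨u', rfl⟩ := (LinearMap.equivOfDetNeZero g hgd).surjective u
        show g u' ∈ M
        obtain ⟨m, hm, q, hq', rfl⟩ :=
          Submodule.mem_sup.1 (htop ▸ Submodule.mem_top : u' ∈ M ⊔ (K ∙ a))
        obtain ⟨r, rfl⟩ := Submodule.mem_span_singleton.1 hq'
        obtain ⟨α, β, rfl⟩ := Submodule.mem_span_pair.1 hm
        rw [map_add, map_add, map_smul, map_smul, map_smul]
        exact M.add_mem (M.add_mem (M.smul_mem _ hgvM) (M.smul_mem _ hmem)) (M.smul_mem _ hga)
      exact haM (this trivial)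
    obtain ⟨ψ, hψa, hψ⟩ := CfsgLib.TwoJordan.exists_dual_one haM
    let P₂ : End K V := LinearMap.transvection ψ (g v)
    have hP₂ : ∀ u, P₂ u = u + ψ u • g v := fun u => LinearMap.transvection.apply ψ _ u
    have hP₂d : LinearMap.det P₂ = 1 := by
      simp [P₂, LinearMap.transvection.det, hψ _ hgvM]
    obtain ⟨y₂, hy₂, hy₂P⟩ := exists_conj_map (P := P₂) (by rw [hP₂d]; exact one_ne_zero) y
    rw [hP₂d] at hy₂
    have hxy₂ : CjD 1 x y₂ := by
      have := hy.trans hy₂
      rwa [one_mul] at this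
    obtain ⟨y₂i, h1, h2, -⟩ := exists_inv (g := y₂) (by
      rw [(hxy₂.cj one_ne_zero).det_eq]; exact hxd)
    refine ⟨y₂, y₂i, hxy₂, h1, h2, ?_, ?_⟩
    · have := hy₂P v
      rwa [hP₂ v, hψ v hvM, zero_smul, add_zero, hyv, hP₂ w, hψ w hwM, zero_smul, add_zero] at this
    · have h3 : y₂ (a + g v) = v := by
        have := hy₂P a
        rwa [hP₂ a, hψa, one_smul, hya, hP₂ v, hψ v hvM, zero_smul, add_zero] at this
      have h4 : y₂i v = a + g v := by
        calc y₂i v = y₂i (y₂ (a + g v)) := by rw [h3]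
          _ = a + g v := LinearMap.congr_fun h1 _
      rw [h4, map_add]
      exact fun h => hggv ((Submodule.add_mem_iff_right M hga).1 h)
  have hyv' : y' (f (1, 0)) = w := by rw [hf, hy'v]
  have hgv' : g (f (1, 0)) = c • w := by rw [hf, hgw]
  have hw' : ∀ t : K, w ≠ t • f (1, 0) := by rw [hf]; exact hwv
  have hπ : (f.symm (yi' v)).2 ∉ (K ∙ (f.symm (gi v)).2) := by
    intro h
    obtain ⟨r, hr⟩ := Submodule.mem_span_singleton.1 h
    have : (f.symm (yi' v - r • gi v)).2 = 0 := by simp [hr]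
    obtain ⟨s, hs⟩ := Submodule.mem_span_singleton.1 ((frame_mem f _).1 this)
    rw [hf] at hs
    refine ha' (Submodule.mem_span_pair.2 ⟨r, s, ?_⟩)
    have h3 := congrArg g hs
    rw [map_smul, map_sub, map_smul, show g (gi v) = v from LinearMap.congr_fun hgi' v] at h3
    rw [h3]; abel
  obtain ⟨q, hqa, hq0⟩ := CfsgLib.TwoJordan.exists_dual_one hπ
  set t₀ := LinearMap.trace K (Fin 2 → K) (frQuo f (yi' * g))
  obtain ⟨τ, hτ⟩ := exists_scalar_avoid (S.image fun s => t₀ - s) (Finset.card_image_le.trans_lt hS)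
  obtain ⟨y'', yi'', hy'', k1, k2, k3, k4⟩ := vary f hc hgi h1 h2 hyv' hgv' (τ • q) (by
    rw [hf, LinearMap.smul_apply, hq0 _ (Submodule.mem_span_singleton_self _), smul_zero])
  refine ⟨f, y'', yi'', peel_of ?_ k1 k2 k3 hw' hgv', fun hmem => hτ ?_⟩
  · have := hy'.trans hy''
    rwa [one_mul] at this
  · refine Finset.mem_image.2 ⟨_, hmem, ?_⟩
    rw [k4, map_sub, LinearMap.trace_smulRight, hf, LinearMap.smul_apply, hqa, smul_eq_mul, mul_one,
      sub_sub_cancel]

variable [DecidableEq K]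

/-- As many conjugates as the dimension. -/
theorem main (hq : 4 ≤ Fintype.card K) : ∀ k, 2 ≤ k → ∀ (V : Type u) [AddCommGroup V] [Module K V]
    [FiniteDimensional K V], finrank K V = k + 1 → ∀ x g : End K V, NS x → LinearMap.det x ≠ 0 →
    NS g → LinearMap.det g = LinearMap.det x ^ (k + 1) → (¬ Pse x ∨ ¬ Pse g) →
    CoverS x (k + 1) g := by
  intro k hk
  induction k, hk using Nat.le_induction with
  | base =>
    intro V _ _ _ hn x g hx hxd hg hdet hP
    by_cases hno : NoEig x
    · exact three_irred hq hn hno hxd hg hdet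
    obtain ⟨lam, f₀, hlam, hns⟩ := exists_line hn le_rfl hx hno
    have hf0 : f₀ ((1 : K), (0 : Fin 2 → K)) ≠ 0 := fun h =>
      one_ne_zero (congrArg Prod.fst (f₀.injective (h.trans (map_zero f₀).symm)))
    have hl := eig_ne_zero hxd hf0 hlam
    set δ := LinearMap.det (frQuo f₀ x) with hδ
    set t := LinearMap.trace K (Fin 2 → K) (frQuo f₀ x)
    have hδ0 : δ ≠ 0 := fun h => hxd (by rw [det_frame f₀ hlam, ← hδ, h, mul_zero])
    obtain ⟨f, y, yi, hp, hT⟩ := step_three hn hx hg hxd (hdet ▸ pow_ne_zero _ hxd) hP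
      (pow_ne_zero 2 hl) {2 * δ, -(2 * δ), t ^ 2 - 2 * δ}
      (lt_of_le_of_lt Finset.card_le_three (by omega))
    simp only [Finset.mem_insert, Finset.mem_singleton, not_or] at hT
    refine finish hxd hlam hdet hp fun hB => two_base (by rw [finrank_fin_fun]) hns (fun s hs => ?_)
      hδ0 (by rw [hB, pow_two]) hT.1 hT.2.1 hT.2.2
    rw [hs, map_smul, LinearMap.trace_one, finrank_fin_fun] at hT
    rw [hs, LinearMap.det_smul, map_one, mul_one, finrank_fin_fun, ← hδ] at hB
    have h1 : (s - δ) * (s + δ) = 0 := by linear_combination hB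
    rcases mul_eq_zero.1 h1 with h | h
    · exact hT.1 (by rw [sub_eq_zero.1 h]; simp; ring)
    · exact hT.2.1 (by rw [eq_neg_of_add_eq_zero_left h]; simp; ring)
  | succ k hk ih =>
    intro V _ _ _ hn x g hx hxd hg hdet hP
    by_cases hno : NoEig x
    · exact noEig_cover hq (by omega) hno hxd (by omega) hg hdet
    obtain ⟨lam, f₀, hlam, hns⟩ := exists_line hn (by omega) hx hno
    have hf0 : f₀ ((1 : K), (0 : Fin (k + 1) → K)) ≠ 0 := fun h =>
      one_ne_zero (congrArg Prod.fst (f₀.injective (h.trans (map_zero f₀).symm)))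
    have hl := eig_ne_zero hxd hf0 hlam
    obtain ⟨f, y, yi, hp, hB'⟩ := step_four hq hn (by omega) hx hg hxd
      (hdet ▸ pow_ne_zero _ hxd) hP (pow_ne_zero (k + 1) hl)
    refine finish hxd hlam hdet hp fun hB => (ih (Fin (k + 1) → K) (by rw [finrank_fin_fun]) _ _ hns
      (fun h => hxd (by rw [det_frame f₀ hlam, h, mul_zero])) (NS.of_not_pse hB') hB
      (Or.inr hB')).cover

theorem full_line_sum {x' : End K W} (lam : K) : Full (upper x' 0 (lam • (1 : End K K))) := by
  have h : upper x' 0 (lam • (1 : End K K)) = x'.prodMap (lam • (1 : End K K)) :=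
    LinearMap.ext fun p => Prod.ext (by simp) (by simp)
  rw [h]
  refine Full.prod_right x' fun d _ => ⟨d • 1, ?_, ?_⟩
  · rw [LinearMap.det_smul, map_one, mul_one, finrank_self, pow_one]
  · rw [smul_mul_smul_comm, smul_mul_smul_comm, mul_comm]

theorem split_scalar (s : K) : ∃ ts, Split (s • (1 : End K V)) ts := by
  refine ⟨List.replicate (finrank K V) s, ?_⟩
  have h1 : ((0 : End K V)).charpoly = X ^ finrank K V :=
    IsNilpotent.charpoly_eq_X_pow_finrank ⟨1, by simp⟩
  have h2 := LinearMap.charpoly_sub_smul (0 : End K V) (-s)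
  simp only [neg_smul, sub_neg_eq_add, zero_add, h1, pow_comp, X_comp] at h2
  rw [Split, List.map_replicate, List.prod_replicate, h2, map_neg, sub_eq_add_neg]

/-- One conjugate fewer, for a map with an eigenvector which does not split. -/
theorem minus (hq : 4 ≤ Fintype.card K) : ∀ k, 2 ≤ k → ∀ (V : Type u) [AddCommGroup V] [Module K V]
    [FiniteDimensional K V], finrank K V = k + 1 → ∀ x g : End K V, ¬ NoEig x →
    (∀ ts, ¬ Split x ts) → LinearMap.det x ≠ 0 → ¬ Pse g →
    LinearMap.det g = LinearMap.det x ^ k → CoverS x k g := by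
  intro k hk
  induction k using Nat.strong_induction_on with
  | _ k ih =>
  intro V _ _ _ hn x g he hns hxd hP hdet
  obtain ⟨e, he0, lam, hlam⟩ := hasEig_iff.1 he
  obtain ⟨f₀, hf₀⟩ := exists_frame hn he0
  have hlam' : x (f₀ (1, 0)) = lam • f₀ (1, 0) := by rw [hf₀, hlam]
  have hl := eig_ne_zero hxd he0 hlam
  set x' := frQuo f₀ x with hx'
  have hxd' : LinearMap.det x' ≠ 0 := fun h => hxd (by rw [det_frame f₀ hlam', ← hx', h, mul_zero])
  have hns' : ∀ ts, ¬ Split x' ts := fun ts h => hns (lam :: ts) (by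
    rw [Split, (cj_frame f₀ hlam').charpoly_eq, charpoly_upper, split_line lam, h]
    simp)
  have hxNS : NS x := fun s hs => by
    obtain ⟨ts, hts⟩ := split_scalar (V := V) s
    exact hns ts (hs ▸ hts)
  by_cases hno : NoEig x'
  · haveI : Nontrivial (Fin k → K) :=
      Module.nontrivial_of_finrank_pos (R := K) (by rw [finrank_fin_fun]; omega)
    have hcj : Cj (upper x' 0 (lam • (1 : End K K))) x :=
      (cj_line_sum hno lam (frRow f₀ x)).trans (cj_frame f₀ hlam')
    set x₀ := upper x' 0 (lam • (1 : End K K))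
    have hxF : Full x := (full_line_sum lam).transport hcj
    have base : ∀ (m : ℕ) (g : End K V), LinearMap.det g = LinearMap.det x ^ m →
        (∀ g' : End K ((Fin k → K) × K), LinearMap.det g' = LinearMap.det x₀ ^ m → Cj g g' →
          Cover x₀ m g') → CoverS x m g := by
      intro m g hd h
      obtain ⟨e', he'⟩ := id hcj
      have hc : Cj g (e'.symm.conj g) := cj_conj e'.symm g
      refine Cover.special hxF ((h _ ?_ hc).congr e' (fun v => ?_) hcj)
      · rw [hc.det_eq, hd, hcj.det_eq]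
      · simp [LinearEquiv.conj_apply]
    rcases (show k = 2 ∨ k = 3 ∨ 4 ≤ k by omega) with rfl | rfl | hk4
    · exact base 2 g hdet fun g' hd hc => bottom_three (by rw [finrank_fin_fun]) hno hxd' hl
        (fun h => hP (h.congr hc.symm)) hd
    · exact base 3 g hdet fun g' hd hc => bottom_four hq (by rw [finrank_fin_fun]) hno hxd' hl
        (fun h => hP (h.congr hc.symm)) hd
    · exact extend hq (by omega) hxNS hxd (m := 4) (fun g hg hd => base 4 g hd fun g' hd' hc =>
        bottom_five hq hno hxd' hl (hg.congr hc) hd') k hk4 g (NS.of_not_pse hP) hdet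
  · have hk3 : 3 ≤ k := by
      by_contra h
      obtain rfl : k = 2 := by omega
      obtain ⟨e', he'0, μ, hμ⟩ := hasEig_iff.1 hno
      obtain ⟨f', hf'⟩ := exists_frame (k := 1) (V := Fin 2 → K) (by rw [finrank_fin_fun]) he'0
      have hμ' : x' (f' (1, 0)) = μ • f' (1, 0) := by rw [hf', hμ]
      have hq1 : (frQuo f' x').charpoly.natDegree = 1 := by
        rw [LinearMap.charpoly_natDegree, finrank_fin_fun]
      refine hns' [μ, -(frQuo f' x').charpoly.coeff 0] ?_
      rw [Split, (cj_frame f' hμ').charpoly_eq, charpoly_upper, split_line μ,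
        (frQuo f' x').charpoly_monic.eq_X_add_C hq1]
      simp
    obtain ⟨f, y, yi, hp, hB'⟩ := step_four hq hn hk3 hxNS (NS.of_not_pse hP) hxd
      (hdet ▸ pow_ne_zero _ hxd) (Or.inr hP) (pow_ne_zero (k - 1) hl)
    have hk1 : k = k - 1 + 1 := by omega
    rw [hk1]
    refine finish hxd hlam' (by rw [← hk1]; exact hdet) hp fun hB =>
      (ih (k - 1) (by omega) (by omega) (Fin k → K) (by rw [finrank_fin_fun]; omega) _ _ hno hns'
        hxd' hB' hB).cover

end CfsgLib.SLCover
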