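import Cfsg.Agent.Lib.SLCover.Pseudo
import Cfsg.Agent.Lib.SLCover.Peel

/-!
# Products of conjugates of a map with a single eigenvalue
-/

set_option autoImplicit false
set_option linter.unusedSectionVars false

namespace CfsgLib.SLCover

open Module Polynomial CfsgLib.SLComm

universe u

variable {K : Type u} [Field K] [Fintype K] [DecidableEq K]
variable {V W : Type u} [AddCommGroup V] [Module K V] [AddCommGroup W] [Module K W]
  [FiniteDimensional K V] [FiniteDimensional K W]

/-- Similar, and by a special map for square parameters. -/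
def SqCj (B : End K V) (a : K) (Y : End K V) : Prop :=
  Cj B Y ∧ (IsSquare a → CjD 1 B Y)

theorem aeval_one_add (N : End K V) (p : K[X]) :
    aeval N (1 + X * p) = 1 + aeval N (X * p) := by rw [map_add, map_one]

/-- A Jordan block against a polynomial in it. -/
theorem block_poly {m : ℕ} (hn : finrank K V = m + 1) {N : End K V} {e : V} (he : Gen N e)
    (hN : N ^ (m + 1) = 0) (p : K[X]) (hp : p.eval 0 ≠ 0) (l : K) :
    SqCj (l • (1 + N)) (p.eval 0) (l • (1 + aeval N (X * p))) := by
  classical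
  let u := powBasis he hn
  have hu : ∀ i, u i = (N ^ i.val) e := powBasis_apply he hn
  set M := aeval N (X * p) with hM
  let θ : End K V := u.constr K fun i => (M ^ i.val) e
  have hθ : ∀ i : Fin (m + 1), θ (u i) = (M ^ i.val) e := fun i => Basis.constr_basis ..
  have hNpow : ∀ i, m + 1 ≤ i → N ^ i = 0 := fun i hi => pow_eq_zero_of_le hi hN
  have hMpow : ∀ i, M ^ i = N ^ i * aeval N (p ^ i) := fun i => by
    rw [hM, ← map_pow, mul_pow, map_mul, map_pow, aeval_X]
  -- lower triangular in the basis of powers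
  have low : ∀ (j : ℕ) (z : V) (i : Fin (m + 1)), i.val < j → u.repr ((N ^ j) z) i = 0 := by
    intro j z i hij
    conv_lhs => rw [← u.sum_repr z, map_sum, map_sum, Finsupp.coe_finsetSum, Finset.sum_apply]
    refine Finset.sum_eq_zero fun k _ => ?_
    rw [map_smul, map_smul, Finsupp.smul_apply, hu, ← Module.End.mul_apply, ← pow_add]
    rcases Nat.lt_or_ge (j + k.val) (m + 1) with h | h
    · rw [show (N ^ (j + k.val)) e = u ⟨j + k.val, h⟩ from (hu ⟨_, h⟩).symm, u.repr_self,
        Finsupp.single_eq_of_ne (fun h' => by have := congrArg Fin.val h'; simp at this; omega), smul_zero]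
    · rw [hNpow _ h]; simp
  have diag : ∀ i : Fin (m + 1), u.repr ((M ^ i.val) e) i = p.eval 0 ^ i.val := fun i => by
    obtain ⟨q, hq⟩ : ∃ q, p ^ i.val = X * q + C (p.eval 0 ^ i.val) :=
      ⟨(p ^ i.val).divX, by
        conv_lhs => rw [← X_mul_divX_add (p ^ i.val)]
        rw [coeff_zero_eq_eval_zero, eval_pow]⟩
    rw [hMpow, hq, map_add, map_mul, aeval_X, aeval_C, mul_add, LinearMap.add_apply, ← mul_assoc,
      ← pow_succ, Module.End.mul_apply, map_add, Finsupp.add_apply,
      low (i.val + 1) _ i (Nat.lt_succ_self _), zero_add]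
    simp [← hu, Algebra.algebraMap_eq_smul_one]
  have hθd : LinearMap.det θ = ∏ i : Fin (m + 1), p.eval 0 ^ i.val := by
    have htri : (LinearMap.toMatrix u u θ).BlockTriangular OrderDual.toDual := by
      intro i j hij
      have hij : i < j := hij
      rw [LinearMap.toMatrix_apply, hθ, hMpow, Module.End.mul_apply]
      exact low j.val _ i hij
    rw [← LinearMap.det_toMatrix u, Matrix.det_of_lowerTriangular _ htri]
    refine Finset.prod_congr rfl fun i _ => ?_
    rw [LinearMap.toMatrix_apply, hθ, diag]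
  have hcomm : θ * N = M * θ := u.ext fun i => by
    show θ (N (u i)) = M (θ (u i))
    rw [hθ, hu, ← Module.End.mul_apply N, ← pow_succ', ← Module.End.mul_apply M, ← pow_succ']
    rcases Nat.lt_or_ge (i.val + 1) (m + 1) with h | h
    · rw [show (N ^ (i.val + 1)) e = u ⟨i.val + 1, h⟩ from (hu ⟨_, h⟩).symm, hθ]
    · rw [hNpow _ h, hMpow, hNpow _ h, zero_mul, LinearMap.zero_apply, map_zero]
  have hθY : θ * (l • (1 + N)) = (l • (1 + M)) * θ := by
    rw [mul_smul_comm, mul_add, mul_one, hcomm, smul_mul_assoc, add_mul, one_mul]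
  have hθ0 : LinearMap.det θ ≠ 0 := by
    rw [hθd]; exact Finset.prod_ne_zero_iff.2 fun i _ => pow_ne_zero _ hp
  refine ⟨⟨LinearMap.equivOfDetNeZero θ hθ0, fun v => LinearMap.congr_fun hθY v⟩, ?_⟩
  rintro ⟨b, hb⟩
  have hb0 : b ≠ 0 := fun h => hp (by rw [hb, h, mul_zero])
  refine ⟨(b ^ m)⁻¹ • θ, ?_, by rw [smul_mul_assoc, hθY, mul_smul_comm]⟩
  have hsum : (∑ i : Fin (m + 1), (i : ℕ)) * 2 = (m + 1) * m := by
    rw [Fin.sum_univ_eq_sum_range (fun i => i) (m + 1), Finset.sum_range_id_mul_two, Nat.add_sub_cancel]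
  rw [LinearMap.det_smul, hn, hθd, Finset.prod_pow_eq_pow_sum, hb, ← sq, ← pow_mul, mul_comm 2, hsum,
    inv_pow, ← pow_mul, mul_comm m, inv_mul_cancel₀ (pow_ne_zero _ hb0)]

/-- A block: parameters with sum zero give a scalar product. -/
theorem block_list {m : ℕ} (hn : finrank K V = m + 1) {B : End K V} {e : V} (he : Gen B e) {l : K}
    (hl : l ≠ 0) (hB : B.charpoly = (X - C l) ^ (m + 1)) (a₀ : K) (as : List K)
    (ha : ∀ a ∈ a₀ :: as, a ≠ 0) (hsum : (a₀ :: as).sum = 0) :
    ∃ Ys : List (End K V), List.Forall₂ (SqCj B) (a₀ :: as) Ys ∧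
      Ys.prod = l ^ (as.length + 1) • 1 := by
  obtain ⟨N, hN⟩ : ∃ N, N = l⁻¹ • B - 1 := ⟨_, rfl⟩
  have hBN : B = l • (1 + N) := by
    rw [hN, add_sub_cancel, smul_smul, mul_inv_cancel₀ hl, one_smul]
  have hNn : N ^ (m + 1) = 0 := by
    have h := LinearMap.aeval_self_charpoly B
    rw [hB, map_pow, map_sub, aeval_X, aeval_C, Algebra.algebraMap_eq_smul_one] at h
    have h2 : N = l⁻¹ • (B - l • 1) := by
      rw [hN, smul_sub, smul_smul, inv_mul_cancel₀ hl, one_smul]
    rw [h2, _root_.smul_pow, h, smul_zero]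
  have heN : Gen N e := fun S hS hi => he S hS fun v hv => by
    rw [hBN]
    simpa using S.smul_mem l (S.add_mem hv (hi v hv))
  have key : ∀ as : List K, ∃ P : K[X], P.eval 0 = as.sum ∧
      (as.map fun a => l • (1 + aeval N (X * C a)) : List (End K V)).prod =
        l ^ as.length • (1 + aeval N (X * P)) := by
    intro as
    induction as with
    | nil => exact ⟨0, by simp, by simp⟩
    | cons a as ih =>
      obtain ⟨P, hP, hprod⟩ := ih
      refine ⟨C a + P + X * C a * P, by simp [hP], ?_⟩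
      rw [List.map_cons, List.prod_cons, hprod, List.length_cons, smul_mul_smul_comm, ← pow_succ',
        ← aeval_one_add, ← aeval_one_add, ← aeval_one_add, ← map_mul]
      congr 2
      ring
  obtain ⟨P, hP, hprod⟩ := key as
  obtain ⟨q, hq⟩ : ∃ q : K[X], q = -P * ∑ i ∈ Finset.range (m + 1), (-(X * P)) ^ i := ⟨_, rfl⟩
  have hq0 : q.eval 0 = a₀ := by
    rw [hq, eval_mul, eval_neg, hP, eval_finsetSum, Finset.sum_range_succ']
    simp
    rw [List.sum_cons] at hsum
    linear_combination -hsum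
  have hinv : aeval N (1 + X * q) * aeval N (1 + X * P) = 1 := by
    rw [← map_mul]
    have e1 : (1 + X * q) * (1 + X * P) = 1 - (-(X * P)) ^ (m + 2) := by
      have h := mul_geom_sum (-(X * P)) (m + 2)
      have h2 : ∑ i ∈ Finset.range (m + 2), (-(X * P)) ^ i = 1 + X * q := by
        rw [Finset.sum_range_succ', hq, pow_zero, add_comm]
        congr 1
        rw [← mul_assoc, Finset.mul_sum]
        exact Finset.sum_congr rfl fun i _ => by rw [pow_succ']; ring
      rw [h2] at h
      linear_combination -h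
    rw [e1, map_sub, map_one, map_pow, map_neg, map_mul, aeval_X, neg_pow,
      Commute.mul_pow (by
        show N * aeval N P = aeval N P * N
        have : aeval N (X * P) = aeval N (P * X) := by rw [mul_comm]
        simpa using this),
      pow_succ N, hNn]
    simp
  refine ⟨l • (1 + aeval N (X * q)) :: as.map fun a => l • (1 + aeval N (X * C a)),
    List.Forall₂.cons ?_ (List.forall₂_map_right_iff.2 (List.forall₂_same.2 fun a ha' => ?_)), ?_⟩
  · rw [hBN, ← hq0]
    exact block_poly hn heN hNn q (by rw [hq0]; exact ha a₀ (List.mem_cons_self ..)) l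
  · have := block_poly hn heN hNn (C a) (by rw [eval_C]; exact ha a (List.mem_cons_of_mem _ ha')) l
    rw [eval_C, ← hBN] at this
    exact this
  · rw [List.prod_cons, hprod, smul_mul_smul_comm, ← pow_succ', ← aeval_one_add, ← aeval_one_add, hinv]

theorem sqCj_upper {A : End K V} {B : End K W} {a : K} {Y : End K V} {Z : End K W}
    (hA : SqCj A a Y) (hB : SqCj B a Z) : SqCj (upper A 0 B) a (upper Y 0 Z) := by
  refine ⟨?_, fun h => ?_⟩
  · obtain ⟨e, he⟩ := hA.1
    obtain ⟨f, hf⟩ := hB.1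
    exact ⟨e.prodCongr f, fun p => Prod.ext (by simp [he]) (by simp [hf])⟩
  · obtain ⟨P, hP, hPA⟩ := hA.2 h
    obtain ⟨Q, hQ, hQB⟩ := hB.2 h
    refine ⟨upper P 0 Q, by rw [det_upper, hP, hQ, mul_one], LinearMap.ext fun p => Prod.ext ?_ ?_⟩
    · simpa using LinearMap.congr_fun hPA p.1
    · simpa using LinearMap.congr_fun hQB p.2

theorem sqCj_list {A : End K V} {B : End K W} : ∀ {as : List K} {Ys : List (End K V)}
    {Zs : List (End K W)}, List.Forall₂ (SqCj A) as Ys → List.Forall₂ (SqCj B) as Zs →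
    ∃ Us, List.Forall₂ (SqCj (upper A 0 B)) as Us ∧ Us.prod = upper Ys.prod 0 Zs.prod := by
  intro as
  induction as with
  | nil =>
    intro Ys Zs hY hZ
    cases hY
    cases hZ
    exact ⟨[], List.Forall₂.nil, LinearMap.ext fun p => by simp⟩
  | cons a as ih =>
    intro Ys Zs hY hZ
    cases hY with
    | cons h1 hY =>
      cases hZ with
      | cons h2 hZ =>
        obtain ⟨Us, hU, hprod⟩ := ih hY hZ
        refine ⟨_ :: Us, List.Forall₂.cons (sqCj_upper h1 h2) hU, ?_⟩
        rw [List.prod_cons, hprod, List.prod_cons, List.prod_cons]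
        exact LinearMap.ext fun p => by simp

theorem sqCj_transport {A : End K V} {B : End K W} (h : Cj A B) {as : List K} {Ys : List (End K V)}
    (hY : List.Forall₂ (SqCj A) as Ys) {z : K} (hprod : Ys.prod = z • 1) :
    ∃ Zs, List.Forall₂ (SqCj B) as Zs ∧ Zs.prod = z • 1 := by
  obtain ⟨e, he⟩ := h
  refine ⟨Ys.map fun y => e.conj y, List.forall₂_map_right_iff.2 (hY.imp fun a Y hY => ?_), ?_⟩
  · refine ⟨(Cj.symm ⟨e, he⟩).trans (hY.1.trans (cj_conj e Y)), fun ha => ?_⟩
    rw [Cj.eq_conj e he]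
    exact (hY.2 ha).map e
  · rw [conj_list_prod, hprod, map_smul, conj_one]

/-- Companion blocks with one eigenvalue. -/
theorem blocks_unip {l : K} (hl : l ≠ 0) (a₀ : K) (as : List K) (ha : ∀ a ∈ a₀ :: as, a ≠ 0)
    (hsum : (a₀ :: as).sum = 0) : ∀ (k : ℕ) (m : Fin k → ℕ) (c : ∀ i, Fin (m i + 1) → K),
    (∀ i, (comp (c i)).charpoly = (X - C l) ^ (m i + 1)) →
    ∃ Ys, List.Forall₂ (SqCj (piEnd c)) (a₀ :: as) Ys ∧ Ys.prod = l ^ (as.length + 1) • 1 := by
  intro k
  induction k with
  | zero =>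
    intro m c _
    refine ⟨(a₀ :: as).map fun _ => piEnd c, List.forall₂_map_right_iff.2 (List.forall₂_same.2
      fun a _ => ⟨Cj.refl _, fun _ => ⟨1, map_one _, (one_mul _).trans (mul_one _).symm⟩⟩),
      LinearMap.ext fun v => Subsingleton.elim _ _⟩
  | succ k ih =>
    intro m c hc
    obtain ⟨Ys, hY, hYp⟩ := block_list (V := Fin (m 0 + 1) → K) (by rw [finrank_fin_fun])
      (gen_comp (c 0)) hl (hc 0) a₀ as ha hsum
    obtain ⟨Zs, hZ, hZp⟩ := ih (fun j => m ((0 : Fin (k + 1)).succAbove j))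
      (fun j => c ((0 : Fin (k + 1)).succAbove j)) fun j => hc _
    obtain ⟨Us, hU, hUp⟩ := sqCj_list hY hZ
    refine sqCj_transport (cj_split c 0) hU (z := l ^ (as.length + 1)) ?_
    rw [hUp, hYp, hZp]
    exact LinearMap.ext fun p => Prod.ext (by simp only [upper_apply, LinearMap.zero_apply, add_zero]; rfl) rfl

theorem two_squares (hq : 7 ≤ Fintype.card K) (h2 : ringChar K ≠ 2) {c : K} (hc : c ≠ 0) :
    ∃ x y : K, x ≠ 0 ∧ y ≠ 0 ∧ x * x + y * y = c := by
  classical
  have h20 : (2 : K) ≠ 0 := Ring.two_ne_zero h2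
  by_cases hsq : IsSquare c
  · obtain ⟨s, rfl⟩ := hsq
    obtain ⟨t, ht⟩ := exists_scalar_avoid (({0, 1, -1} : Finset K) ∪
      (X ^ 2 - C (-1 : K)).roots.toFinset) (by
        have h1 := (X ^ 2 - C (-1 : K)).card_roots'
        rw [natDegree_X_pow_sub_C] at h1
        have h3 := (X ^ 2 - C (-1 : K)).roots.toFinset_card_le
        have h4 : ({0, 1, -1} : Finset K).card ≤ 3 := Finset.card_le_three
        have h5 := Finset.card_union_le ({0, 1, -1} : Finset K) (X ^ 2 - C (-1 : K)).roots.toFinset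
        omega)
    simp only [Finset.mem_union, Finset.mem_insert, Finset.mem_singleton, Multiset.mem_toFinset,
      not_or] at ht
    have hd : 1 + t ^ 2 ≠ 0 := fun h => ht.2 ((Polynomial.mem_roots (X_pow_sub_C_ne_zero (by norm_num) _)).2 (by
      simp; linear_combination h))
    have hs : s ≠ 0 := fun h => hc (by rw [h, mul_zero])
    refine ⟨s * (1 - t ^ 2) / (1 + t ^ 2), 2 * t * s / (1 + t ^ 2), div_ne_zero (mul_ne_zero hs ?_) hd,
      div_ne_zero (mul_ne_zero (mul_ne_zero h20 ht.1.1) hs) hd, ?_⟩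
    · intro h
      rcases mul_eq_zero.1 (show (1 - t) * (1 + t) = 0 by linear_combination h) with h | h
      · exact ht.1.2.1 (sub_eq_zero.1 h).symm
      · exact ht.1.2.2 (eq_neg_of_add_eq_zero_right h)
    · field_simp
      ring
  · obtain ⟨a, b, hab⟩ := FiniteField.exists_root_sum_quadratic
      (f := (X ^ 2 : K[X])) (g := X ^ 2 - C c) (degree_X_pow 2)
      (degree_X_pow_sub_C (by norm_num) c) (by
        rcases Nat.mod_two_eq_zero_or_one (Fintype.card K) with h' | h'
        · exact absurd (FiniteField.even_card_iff_char_two.2 h') h2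
        · exact h')
    simp at hab
    refine ⟨a, b, fun h => hsq ⟨b, ?_⟩, fun h => hsq ⟨a, ?_⟩, by linear_combination hab⟩
    · rw [h] at hab; linear_combination -hab
    · rw [h] at hab; linear_combination -hab

/-- Nonzero squares with sum zero, unless five scalars and odd length. -/
theorem zero_sum_squares (hq : 4 ≤ Fintype.card K) {n : ℕ} (hn : 3 ≤ n) :
    (∃ l : List K, l.length = n ∧ (∀ a ∈ l, a ≠ 0 ∧ IsSquare a) ∧ l.sum = 0) ∨
      (Fintype.card K = 5 ∧ Odd n) := by
  classical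
  by_cases h2 : ringChar K = 2
  · obtain ⟨l, h1, h3, h4⟩ := exists_sum (K := K) hq n (by omega) 0
    exact Or.inl ⟨l, h1, fun a ha => ⟨h3 a ha, FiniteField.isSquare_of_char_two h2 a⟩, h4⟩
  have hodd : Fintype.card K % 2 = 1 := by
    rcases Nat.mod_two_eq_zero_or_one (Fintype.card K) with h | h
    · exact absurd (FiniteField.even_card_iff_char_two.2 h) h2
    · exact h
  rcases eq_or_ne (Fintype.card K) 5 with h5 | h5
  · rcases Nat.even_or_odd n with ⟨t, rfl⟩ | ho
    · refine Or.inl ⟨List.replicate t 1 ++ List.replicate t (-1), by simp, fun a ha => ?_, by simp⟩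
      rcases List.mem_append.1 ha with h | h <;> obtain ⟨-, rfl⟩ := List.mem_replicate.1 h
      · exact ⟨one_ne_zero, ⟨1, by simp⟩⟩
      · refine ⟨neg_ne_zero.2 one_ne_zero, ⟨2, ?_⟩⟩
        have h0 : ((5 : ℕ) : K) = 0 := by rw [← h5]; exact FiniteField.cast_card_eq_zero K
        push_cast at h0
        linear_combination -h0
    · exact Or.inr ⟨h5, ho⟩
  refine Or.inl ?_
  have h7 : 7 ≤ Fintype.card K := by omega
  obtain ⟨m, rfl⟩ : ∃ m, n = m + 3 := ⟨n - 3, by omega⟩
  by_cases hs : ((m : K) + 1) = 0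
  · obtain ⟨t, ht⟩ := exists_scalar_avoid ({0, 1, -1} : Finset K)
      (lt_of_le_of_lt Finset.card_le_three (by omega))
    simp at ht
    obtain ⟨x, y, hx, hy, hxy⟩ := two_squares h7 h2 (c := 1 - t * t) (fun h => by
      rcases mul_self_eq_one_iff.1 (sub_eq_zero.1 h).symm with h' | h'
      · exact ht.2.1 h'
      · exact ht.2.2 h')
    refine ⟨List.replicate m 1 ++ [t * t, x * x, y * y], by simp, fun a ha => ?_, ?_⟩
    · rcases List.mem_append.1 ha with h | h
      · obtain ⟨-, rfl⟩ := List.mem_replicate.1 h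
        exact ⟨one_ne_zero, ⟨1, by simp⟩⟩
      · simp at h
        rcases h with rfl | rfl | rfl
        · exact ⟨mul_ne_zero ht.1 ht.1, t, rfl⟩
        · exact ⟨mul_ne_zero hx hx, x, rfl⟩
        · exact ⟨mul_ne_zero hy hy, y, rfl⟩
    · simp
      linear_combination hs + hxy
  · obtain ⟨x, y, hx, hy, hxy⟩ := two_squares h7 h2 (c := -((m : K) + 1)) (neg_ne_zero.2 hs)
    refine ⟨List.replicate (m + 1) 1 ++ [x * x, y * y], by simp, fun a ha => ?_, ?_⟩
    · rcases List.mem_append.1 ha with h | h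
      · obtain ⟨-, rfl⟩ := List.mem_replicate.1 h
        exact ⟨one_ne_zero, ⟨1, by simp⟩⟩
      · simp at h
        rcases h with rfl | rfl
        · exact ⟨mul_ne_zero hx hx, x, rfl⟩
        · exact ⟨mul_ne_zero hy hy, y, rfl⟩
    · simp
      linear_combination hxy

/-- A map with a single eigenvalue. -/
theorem split_one (hq : 4 ≤ Fintype.card K) {n : ℕ} (hn : finrank K V = n) (h3 : 3 ≤ n)
    {x : End K V} {l : K} (hl : l ≠ 0) (hx : x.charpoly = (X - C l) ^ n) :
    ∃ z : K, Prodn x n (z • (1 : End K V)) := by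
  classical
  obtain ⟨k, m, c, hcj, hf⟩ := prim_decomp x
  have hc : ∀ i, (comp (c i)).charpoly = (X - C l) ^ (m i + 1) := fun i => by
    obtain ⟨f, e, hfm, hfi, he, hfc⟩ := hf i
    have hdvd : f ∣ (X - C l) ^ n := by
      rcases k with _ | k
      · exact i.elim0
      have h1 := (cj_split c i).charpoly_eq
      rw [charpoly_upper, hcj.charpoly_eq, hx, hfc] at h1
      rw [h1]
      exact dvd_mul_of_dvd_left (dvd_pow_self f he) _
    have hfX : f = X - C l := eq_of_monic_of_associated hfm (monic_X_sub_C l)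
      (hfi.associated_of_dvd (irreducible_X_sub_C l) (hfi.prime.dvd_of_dvd_pow hdvd))
    have hd := congrArg natDegree hfc
    rw [LinearMap.charpoly_natDegree, finrank_fin_fun, natDegree_pow, hfX, natDegree_X_sub_C,
      mul_one] at hd
    rw [hfc, hfX, ← hd]
  have key : ∀ as : List K, as.length = n → (∀ a ∈ as, a ≠ 0) → as.sum = 0 →
      ∃ L, List.Forall₂ (SqCj x) as L ∧ L.prod = l ^ n • 1 := by
    intro as hlen ha hsum
    rcases as with _ | ⟨a₀, as⟩
    · simp at hlen; omega
    obtain ⟨Ys, hY, hYp⟩ := blocks_unip hl a₀ as ha hsum k m c hc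
    rw [show as.length + 1 = n by simpa using hlen] at hYp
    exact sqCj_transport hcj.symm hY hYp
  refine ⟨l ^ n, ?_⟩
  rcases zero_sum_squares (K := K) hq h3 with ⟨as, h1, h2, h4⟩ | ⟨h5, ho⟩
  · obtain ⟨L, hL, hp⟩ := key as h1 (fun a ha => (h2 a ha).1) h4
    refine ⟨L, hL.length_eq.symm.trans h1, fun y hy => ?_, hp⟩
    obtain ⟨a, ha, hab⟩ := forall2_right hL hy
    exact hab.2 (h2 a ha).2
  · obtain ⟨as, h1, h2, h4⟩ := exists_sum (K := K) hq n (by omega) 0
    obtain ⟨L, hL, hp⟩ := key as h1 h2 h4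
    refine ProdC.special (full_of_coprime x ?_) ⟨L, hL.length_eq.symm.trans h1, fun y hy => ?_, hp⟩
    · rw [h5, hn]
      obtain ⟨t, rfl⟩ := ho
      show Nat.Coprime 4 (2 * t + 1)
      exact (Nat.coprime_two_left.2 ⟨t, rfl⟩).pow_left 2
    · obtain ⟨a, ha, hab⟩ := forall2_right hL hy
      exact hab.1

end CfsgLib.SLCover
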