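import Cfsg.Agent.Lib.SLCover.Triangular
import Cfsg.Agent.Lib.SLCover.Unipotent

/-!
# Central products and the covering of the special linear group
-/

set_option autoImplicit false
set_option linter.unusedSectionVars false

namespace CfsgLib.SLCover

open Module Polynomial CfsgLib.SLComm

universe u

variable {K : Type u} [Field K] [Fintype K] [DecidableEq K]
variable {V W : Type u} [AddCommGroup V] [Module K V] [AddCommGroup W] [Module K W]
  [FiniteDimensional K V] [FiniteDimensional K W]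

theorem adj_two (hW : finrank K W = 2) {A : End K W} (hA : NoEig A) (hd : LinearMap.det A ≠ 0) :
    ∃ A' : End K W, Cj A A' ∧ A * A' = LinearMap.det A • 1 := by
  haveI : Nontrivial W := Module.nontrivial_of_finrank_pos (R := K) (by omega)
  obtain ⟨v, hv⟩ := exists_ne (0 : W)
  set t := LinearMap.trace K W A with ht
  set δ := LinearMap.det A with hδ
  set A' : End K W := t • 1 - A with hA'
  have hCH : A * A' = δ • 1 := by
    have h := A.aeval_self_charpoly
    rw [charpoly_two hW, ← ht, ← hδ] at h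
    simp [pow_two, Algebra.algebraMap_eq_smul_one] at h
    rw [hA', mul_sub, mul_smul_comm, mul_one]
    linear_combination (norm := module) -h
  refine ⟨A', cj_two hW hW (fun s hs => hA v hv s (by simp [hs]))
    (fun s hs => hA v hv (t - s) ?_) ?_ ?_, hCH⟩
  · have := LinearMap.congr_fun hs v
    simp [hA'] at this
    rw [sub_smul, ← this]; abel
  · rw [hA', map_sub, map_smul, LinearMap.trace_one, hW, ← ht]
    simp; ring
  · have h := congrArg LinearMap.det hCH
    rw [map_mul, LinearMap.det_smul, map_one, mul_one, hW, ← hδ, pow_two] at h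
    exact (mul_left_cancel₀ hd h).symm

/-- Two quadratic blocks. -/
theorem quad_pair (hW : finrank K W = 2) {A B : End K W} (hA : NoEig A) (hB : NoEig B)
    (hdet : LinearMap.det A * LinearMap.det B = 1) : Prodn (upper A 0 B) 4 1 := by
  haveI : Nontrivial W := Module.nontrivial_of_finrank_pos (R := K) (by omega)
  obtain ⟨v, hv⟩ := exists_ne (0 : W)
  obtain ⟨A', hA', hAA⟩ := adj_two hW hA (left_ne_zero_of_mul (hdet ▸ one_ne_zero))
  obtain ⟨B', hB', hBB⟩ := adj_two hW hB (right_ne_zero_of_mul (hdet ▸ one_ne_zero))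
  have hfull : Full (upper A 0 B) := by
    have h : upper A 0 B = A.prodMap B := LinearMap.ext fun p => Prod.ext (by simp) (by simp)
    rw [h]
    exact (hA.full_small ⟨v, gen_two hW (hA v hv)⟩ (by omega) (by omega)).prod_left B
  have hcj : ∀ {A₁ B₁ : End K W}, Cj A A₁ → Cj B B₁ → Cj (upper A 0 B) (upper A₁ 0 B₁) := by
    rintro A₁ B₁ ⟨e, he⟩ ⟨f, hf⟩
    exact ⟨e.prodCongr f, fun p => Prod.ext (by simp [he]) (by simp [hf])⟩
  have hswap : ∀ (A₁ B₁ : End K W), Cj (upper A₁ 0 B₁) (upper B₁ 0 A₁) := fun A₁ B₁ =>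
    ⟨LinearEquiv.prodComm K W W, fun p => Prod.ext (by simp) (by simp)⟩
  refine ProdC.special hfull ⟨[upper A 0 B, upper A' 0 B', upper B 0 A, upper B' 0 A'], rfl, ?_, ?_⟩
  · simp only [List.mem_cons, List.not_mem_nil, or_false, forall_eq_or_imp, forall_eq]
    exact ⟨Cj.refl _, hcj hA' hB', hswap A B, (hcj hA' hB').trans (hswap A' B')⟩
  · have e : ∀ (A₁ B₁ A₂ B₂ : End K W), upper A₁ 0 B₁ * upper A₂ 0 B₂ = upper (A₁ * A₂) 0 (B₁ * B₂) :=
      fun A₁ B₁ A₂ B₂ => LinearMap.ext fun p => Prod.ext (by simp) (by simp)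
    rw [List.prod_cons, List.prod_cons, List.prod_cons, List.prod_singleton, ← mul_assoc, e, e, e,
      hAA, hBB, smul_mul_smul_comm, smul_mul_smul_comm, mul_comm (LinearMap.det B), hdet, one_smul,
      one_mul]
    exact LinearMap.ext fun p => Prod.ext (by simp) (by simp)

theorem exists_det (hn : 0 < finrank K V) {d : K} (hd : d ≠ 0) :
    ∃ P : End K V, LinearMap.det P = d := by
  obtain ⟨P, hP, -⟩ := exists_cjD_family (V := V) (k := 0) hn (a := Fin.elim0) (b := Fin.elim0)
    linearIndependent_empty_type linearIndependent_empty_type hd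
  exact ⟨P, hP⟩

/-- A cyclic map in dimension four whose centraliser has all squares as determinants. -/
theorem cyc_four (hq : 4 ≤ Fintype.card K) (hn : finrank K V = 4) {x : End K V} (hx : IsCyc x)
    (hxd : LinearMap.det x = 1) (hsq : ∀ z : K, z ≠ 0 → CjD (z ^ 2) x x) : Prodn x 4 1 := by
  classical
  obtain ⟨κ, hκ, hs⟩ := single hx (by rw [hxd]; exact one_ne_zero) (m := 2) hn
  -- choose the parameter
  obtain ⟨a, ha0, ha1, β, hβ, hperm, hT⟩ : ∃ a : K, a ≠ 0 ∧ a * a ≠ 1 ∧ ∃ β : Fin 3 → K,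
      (∀ l, β l ≠ 0) ∧ (a :: List.ofFn β).Perm [a, a⁻¹, 1, 1] ∧ IsSquare (κ * hessT β) := by
    have hw : ∀ a : K, (hessT (![1, a⁻¹, 1] : Fin 3 → K) = a⁻¹ ^ 2) ∧
        hessT (![1, 1, a⁻¹] : Fin 3 → K) = a⁻¹ := fun a => by
      simp [hessT_eq, Fin.prod_univ_three]
    have p1 : ∀ a : K, (a :: List.ofFn ![1, a⁻¹, 1]).Perm [a, a⁻¹, 1, 1] := fun a => by
      simp [List.ofFn_succ]
      exact List.Perm.swap _ _ _
    have p2 : ∀ a : K, (a :: List.ofFn ![1, 1, a⁻¹]).Perm [a, a⁻¹, 1, 1] := fun a => by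
      simp [List.ofFn_succ]
      exact (List.perm_append_comm (l₁ := [1, 1]) (l₂ := [a⁻¹]))
    have nz1 : ∀ a : K, a ≠ 0 → ∀ l, (![1, a⁻¹, 1] : Fin 3 → K) l ≠ 0 := fun a ha => by
      simp [Fin.forall_fin_succ, ha]
    have nz2 : ∀ a : K, a ≠ 0 → ∀ l, (![1, 1, a⁻¹] : Fin 3 → K) l ≠ 0 := fun a ha => by
      simp [Fin.forall_fin_succ, ha]
    by_cases hκs : IsSquare κ
    · obtain ⟨a, ha⟩ := exists_scalar_avoid ({0, 1, -1} : Finset K)
        (lt_of_le_of_lt Finset.card_le_three (by omega))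
      simp at ha
      refine ⟨a, ha.1, fun h => ?_, _, nz1 a ha.1, p1 a, ?_⟩
      · rcases mul_self_eq_one_iff.1 h with h | h
        · exact ha.2.1 h
        · exact ha.2.2 h
      · rw [(hw a).1]; exact hκs.mul ⟨a⁻¹, sq a⁻¹⟩
    · have h2 : ringChar K ≠ 2 := fun h => hκs (FiniteField.isSquare_of_char_two h κ)
      obtain ⟨t, ht⟩ := exists_scalar_avoid ({0, 1, -1} : Finset K)
        (lt_of_le_of_lt Finset.card_le_three (by omega))
      simp at ht
      have hχ : ∀ a : K, a ≠ 0 → ¬ IsSquare a → IsSquare (κ * a⁻¹) := fun a ha hns => by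
        have e1 := quadraticChar_neg_one_iff_not_isSquare.2 hκs
        have e2 := quadraticChar_neg_one_iff_not_isSquare.2 hns
        refine (quadraticChar_one_iff_isSquare (mul_ne_zero hκ (inv_ne_zero ha))).1 ?_
        have e3 : quadraticChar K a⁻¹ = -1 := quadraticChar_neg_one_iff_not_isSquare.2 fun h =>
          hns (by simpa using h.inv)
        rw [map_mul, e1, e3]; norm_num
      obtain ⟨a, ha, hns, hne⟩ : ∃ a : K, a ≠ 0 ∧ ¬ IsSquare a ∧ a ≠ -1 := by
        rcases eq_or_ne κ (-1) with rfl | h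
        · refine ⟨-(t * t), neg_ne_zero.2 (mul_ne_zero ht.1 ht.1), fun ⟨r, hr⟩ => hκs ⟨r / t, ?_⟩, ?_⟩
          · rw [div_mul_div_comm, ← hr, eq_div_iff (mul_ne_zero ht.1 ht.1)]; ring
          · intro h
            rcases mul_self_eq_one_iff.1 (neg_inj.1 h) with h | h
            · exact ht.2.1 h
            · exact ht.2.2 h
        · exact ⟨κ, hκ, hκs, h⟩
      refine ⟨a, ha, fun h => ?_, _, nz2 a ha, p2 a, ?_⟩
      · rcases mul_self_eq_one_iff.1 h with h | h
        · exact hns (h ▸ ⟨1, by simp⟩)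
        · exact hne h
      · rw [(hw a).2]; exact hχ a ha hns
  have hmem : ∀ l, β l = a⁻¹ ∨ β l = 1 := fun l => by
    have h1 : β l ∈ a :: List.ofFn β := List.mem_cons_of_mem _ (List.mem_ofFn.2 ⟨l, rfl⟩)
    have hcnt : (a :: List.ofFn β).count a = 1 := by
      rw [hperm.count_eq]
      simp [List.count_cons, show a⁻¹ ≠ a from fun h => ha1 (by nth_rewrite 1 [← h]; exact inv_mul_cancel₀ ha0),
        show (1 : K) ≠ a from fun h => ha1 (by rw [← h, one_mul])]
    have h2 : β l ≠ a := fun h => by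
      have : 2 ≤ (a :: List.ofFn β).count a := by
        rw [List.count_cons_self]
        have : 0 < (List.ofFn β).count a := List.count_pos_iff.2 (h ▸ List.mem_ofFn.2 ⟨l, rfl⟩)
        omega
      omega
    have h3 := hperm.subset h1
    simp [h2] at h3
    exact h3
  have hne : ∀ l, β l ≠ a := fun l h => by
    rcases hmem l with h' | h' <;> rw [h'] at h
    · exact ha1 (by nth_rewrite 1 [← h]; exact inv_mul_cancel₀ ha0)
    · exact ha1 (by rw [← h, one_mul])
  have hprod : a * ∏ l, β l = 1 := by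
    have h := hperm.prod_eq
    simp [List.prod_ofFn, ha0] at h
    simpa [Fin.prod_univ_three, mul_assoc] using h
  obtain ⟨h, X, Y, hp, hc, hs'⟩ := hs a β ha0 hβ hne (by rw [hprod, hxd, one_mul])
  obtain ⟨z, hz⟩ := hT
  have hT0 : κ * hessT β ≠ 0 := mul_ne_zero hκ (by
    rw [hessT_eq]; exact Finset.prod_ne_zero_iff.2 fun l _ => pow_ne_zero _ (hβ l))
  have hz0 : z ≠ 0 := fun h0 => hT0 (by rw [hz, h0, mul_zero])
  have hhd : LinearMap.det h ≠ 0 := by rw [hp.det_eq hT0, hxd]; simp
  obtain ⟨hi, hh1, hh2, -⟩ := exists_inv hhd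
  -- the inverse is similar
  have hts : ∀ t ∈ a :: List.ofFn β, t ≠ 0 := fun t ht => by
    rcases List.mem_cons.1 ht with rfl | ht
    · exact ha0
    · obtain ⟨l, rfl⟩ := List.mem_ofFn.1 ht
      exact hβ l
  have hchar : h.charpoly = Polynomial.X ^ 4 - C (2 + a + a⁻¹) * Polynomial.X ^ 3 + C (2 * (1 + a + a⁻¹)) * Polynomial.X ^ 2 -
      C (2 + a + a⁻¹) * Polynomial.X + 1 := by
    rw [hs', (hperm.map _).prod_eq]
    have e : C a * C a⁻¹ = 1 := by rw [← C_mul, mul_inv_cancel₀ ha0, C_1]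
    simp only [List.map_cons, List.map_nil, List.prod_cons, List.prod_nil, mul_one, C_1, map_add,
      map_mul, map_ofNat]
    linear_combination (Polynomial.X - 1) ^ 2 * e
  obtain ⟨e, he⟩ := id hc
  have hhi : Cj h hi := by
    refine cj_of_cyc hc ⟨e, he.inv hh1⟩ ((he.inv hh1).charpoly_eq h.charpoly_monic
      (LinearMap.charpoly_natDegree h) ?_).symm
    have h0 := LinearMap.congr_fun h.aeval_self_charpoly (hi (hi (hi (hi e))))
    rw [hchar] at h0 ⊢
    have c1 : ∀ v, h (hi v) = v := fun v => LinearMap.congr_fun hh2 v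
    simp [pow_succ, Module.End.mul_apply, Algebra.algebraMap_eq_smul_one, c1] at h0 ⊢
    linear_combination (norm := module) h0
  obtain ⟨d, hd, hhhi⟩ := hhi.exists_cjD
  have hshift := count_shift hc hs' hts a (inv_ne_zero hd)
  rw [List.count_cons_self, List.count_eq_zero.2 (fun h => by
    obtain ⟨l, hl⟩ := List.mem_ofFn.1 h; exact hne l hl), zero_add, pow_one] at hshift
  have hone : CjD 1 h hi := by
    have := hshift.trans hhhi
    rwa [mul_inv_cancel₀ hd] at this
  obtain ⟨p, hp0, hX, hY, hh⟩ := hp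
  have hY' : CjD p x Y := by
    have := (hsq z⁻¹ (inv_ne_zero hz0)).trans hY
    rwa [show κ * hessT β * p * z⁻¹ ^ 2 = p by rw [hz]; field_simp] at this
  obtain ⟨φ, hφ, hφh⟩ := hone
  obtain ⟨X₂, hX₂, hX₂φ⟩ := exists_conj_map (P := φ) (by rw [hφ]; exact one_ne_zero) X
  obtain ⟨Y₂, hY₂, hY₂φ⟩ := exists_conj_map (P := φ) (by rw [hφ]; exact one_ne_zero) Y
  have hprodφ : Y₂ * X₂ = hi := LinearMap.ext fun v => by
    obtain ⟨w, rfl⟩ := (LinearMap.equivOfDetNeZero φ (by rw [hφ]; exact one_ne_zero)).surjective v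
    show Y₂ (X₂ (φ w)) = hi (φ w)
    rw [hX₂φ, hY₂φ]
    exact (congrArg φ (LinearMap.congr_fun hh w).symm).trans (LinearMap.congr_fun hφh w)
  obtain ⟨P, hP⟩ := exists_det (K := K) (V := V) (by omega) (inv_ne_zero hp0)
  let eP := LinearMap.equivOfDetNeZero P (by rw [hP]; exact inv_ne_zero hp0)
  have mv : ∀ Z, CjD p x Z → CjD 1 x (eP.conj Z) := fun Z hZ => by
    have h1 : CjD p⁻¹ Z (eP.conj Z) := ⟨P, hP, LinearMap.ext fun v => by
      show eP (Z v) = eP.conj Z (eP v)
      simp [LinearEquiv.conj_apply]⟩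
    have := hZ.trans h1
    rwa [inv_mul_cancel₀ hp0] at this
  rw [hφ] at hX₂ hY₂
  refine ⟨[Y, X, Y₂, X₂].map fun Z => eP.conj Z, rfl, ?_, ?_⟩
  · simp only [List.map_cons, List.map_nil, List.mem_cons, List.not_mem_nil, or_false, forall_eq_or_imp,
      forall_eq]
    exact ⟨mv Y hY', mv X hX, mv Y₂ (by simpa using hY'.trans hY₂),
      mv X₂ (by simpa using hX.trans hX₂)⟩
  · rw [conj_list_prod]
    simp [← mul_assoc, ← hh, mul_assoc h, hprodφ, hh2, conj_one]

/-- Four conjugates of a map without eigenvectors can be central. -/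
theorem noEig_four (hq : 4 ≤ Fintype.card K) (hn : finrank K V = 4) {x : End K V}
    (hno : NoEig x) (hxd : LinearMap.det x = 1) : Prodn x 4 1 := by
  haveI : Nontrivial V := Module.nontrivial_of_finrank_pos (R := K) (by omega)
  obtain ⟨k, m, c, e, hcj, hb⟩ := noEig_blocks hno (by rw [hxd]; exact one_ne_zero)
  have hdim : ∑ i, (m i + 1) = 4 := by
    obtain ⟨f, -⟩ := id hcj
    have h := f.finrank_eq
    simpa [Module.finrank_pi_fintype, hn] using h
  have hm : ∀ i, 1 ≤ m i := fun i => by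
    have := (hb i).2.1.two_le
    rw [finrank_fin_fun] at this
    omega
  rcases k with _ | _ | k
  · have hm0 : m 0 = 3 := by simpa using hdim
    have hcj0 : Cj (comp (c 0)) (piEnd c) := Cj.symm
      ⟨{ toFun := fun f => f 0, map_add' := fun _ _ => rfl, map_smul' := fun _ _ => rfl,
         invFun := fun v i => Fin.cases v (fun j => j.elim0) i,
         left_inv := fun f => funext fun i => by cases i using Fin.cases with
           | zero => rfl
           | succ j => exact j.elim0
         right_inv := fun v => rfl }, fun v => rfl⟩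
    obtain ⟨-, hnoc, f, hfm, hfi, he, hfc⟩ := hb 0
    have hd := congrArg natDegree hfc
    rw [LinearMap.charpoly_natDegree, finrank_fin_fun, hm0, natDegree_pow] at hd
    have h2 : 2 ≤ f.natDegree := by
      by_contra h
      have hf1 : f.natDegree = 1 := by have := hfi.natDegree_pos; omega
      refine hnoc.eval_ne (-f.coeff 0) ?_
      rw [hfc, eval_pow, hfm.eq_X_add_C hf1]
      simp [zero_pow he]
    have he2 : e 0 ∣ 2 := by
      have h3 : e 0 ≤ 2 := by nlinarith
      interval_cases h : e 0 <;> simp_all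
    refine cyc_four hq hn (IsCyc.congr (hcj0.trans hcj) ⟨_, gen_comp (c 0)⟩) hxd fun z hz => ?_
    obtain ⟨q, hq2⟩ := he2
    have := ((blocks hq 0 m c e hb).1 0 (z ^ q) (pow_ne_zero _ hz)).self_congr hcj
    rwa [← pow_mul, mul_comm, ← hq2] at this
  · have h01 : m 0 = 1 ∧ m 1 = 1 := by
      simp [Fin.sum_univ_two] at hdim
      have := hm 0; have := hm 1
      omega
    set R := piEnd (fun j : Fin 1 => c ((0 : Fin 2).succAbove j))
    have hW : finrank K (Fin (m 0 + 1) → K) = 2 := by rw [finrank_fin_fun, h01.1]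
    have hR : finrank K (∀ j : Fin 1, Fin (m ((0 : Fin 2).succAbove j) + 1) → K) = 2 := by
      rw [Module.finrank_pi_fintype K, Fin.sum_univ_one, finrank_fin_fun]
      show m 1 + 1 = 2
      rw [h01.2]
    let σ := LinearEquiv.ofFinrankEq (R := K) _ (Fin (m 0 + 1) → K) (hR.trans hW.symm)
    have hRno : NoEig R := noEig_pi fun j => (hb _).2.1
    have hc2 : Cj (upper (comp (c 0)) 0 (σ.conj R)) x := by
      refine (Cj.trans (Cj.symm ⟨(LinearEquiv.refl K _).prodCongr σ, fun p => ?_⟩) (cj_split c 0)).trans hcj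
      refine Prod.ext (by simp only [upper_apply, LinearMap.zero_apply, add_zero]; rfl) ?_
      show σ (R p.2) = σ.conj R (σ p.2)
      simp only [LinearEquiv.conj_apply, LinearMap.comp_apply, LinearEquiv.coe_coe,
        σ.symm_apply_apply]
    obtain ⟨L, h1, h2, h3⟩ := quad_pair hW (hb 0).2.1 (hRno.congr (cj_conj σ R)) (by
      rw [← det_upper _ 0, ← hc2.det_eq, hxd])
    obtain ⟨φ, hφ⟩ := id hc2
    refine ⟨L.map fun y => φ.conj y, by simpa using h1, fun y hy => ?_, by
      rw [conj_list_prod, h3, conj_one]⟩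
    obtain ⟨y₀, hy₀, rfl⟩ := List.mem_map.1 hy
    rw [Cj.eq_conj φ hφ]
    exact (h2 y₀ hy₀).map φ
  · exfalso
    rw [Fin.sum_univ_succ, Fin.sum_univ_succ, Fin.sum_univ_succ] at hdim
    have := hm 0; have := hm (Fin.succ 0); have := hm (Fin.succ (Fin.succ 0))
    omega

/-- Some central element is a product of as many conjugates as the dimension. -/
theorem central_cover (hq : 4 ≤ Fintype.card K) {n : ℕ} (hn : finrank K V = n) (h3 : 3 ≤ n)
    {x : End K V} (hx : NS x) (hxd : LinearMap.det x = 1) :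
    ∃ z : K, Prodn x n (z • (1 : End K V)) := by
  have hxd0 : LinearMap.det x ≠ 0 := by rw [hxd]; exact one_ne_zero
  by_cases hP : Pse x
  · exact (pse_prod hq hn h3 hx hP hxd0).2
  obtain ⟨xi, hxi1, hxi2, hxid⟩ := exists_inv hxd0
  have hxiP : ¬ Pse xi := by
    rintro ⟨s, b, β, h⟩
    have hxv : ∀ v, v = s • x v + β (x v) • b := fun v => by
      conv_lhs => rw [← show xi (x v) = v from LinearMap.congr_fun hxi1 v]
      rw [h]
    rcases eq_or_ne s 0 with rfl | hs0
    · have : (⊤ : Submodule K V) ≤ K ∙ b := fun v _ =>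
        Submodule.mem_span_singleton.2 ⟨β (x v), by simpa using (hxv v).symm⟩
      have h1 := (Submodule.finrank_mono this).trans (line_le b)
      rw [finrank_top] at h1
      omega
    · refine hP ⟨s⁻¹, b, -(s⁻¹ • (β ∘ₗ x)), fun v => ?_⟩
      have h1 := hxv v
      simp only [LinearMap.neg_apply, LinearMap.smul_apply, LinearMap.comp_apply, smul_eq_mul,
        neg_smul]
      nth_rewrite 2 [h1]
      rw [smul_add, smul_smul, inv_mul_cancel₀ hs0, one_smul, smul_smul]
      abel
  obtain ⟨k, rfl⟩ : ∃ k, n = k + 1 := ⟨n - 1, by omega⟩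
  have cons : CoverS x k xi → ∃ z : K, Prodn x (k + 1) (z • (1 : End K V)) := by
    rintro ⟨L, h1, h2, hp, -⟩
    exact ⟨1, x :: L, by simp [h1],
      List.forall_mem_cons.2 ⟨⟨1, map_one _, (one_mul _).trans (mul_one _).symm⟩, h2⟩,
      by rw [List.prod_cons, hp, hxi2, one_smul]⟩
  have hxidk : LinearMap.det xi = LinearMap.det x ^ k := by rw [hxid, hxd, one_pow, inv_one]
  by_cases hno : NoEig x
  · rcases (show k = 2 ∨ k = 3 ∨ 4 ≤ k by omega) with rfl | rfl | hk
    · have hc : IsCyc x := isCyc_three hn hP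
      have hirr := hno.irreducible (by omega) hn.le
      obtain ⟨y, z, hy, hz, hprod⟩ := galois_three hc hirr hn
      exact ⟨LinearMap.det x, ProdC.special (hno.full_small hc (by omega) (by omega))
        ⟨[x, y, z], rfl, by simp [Cj.refl, hy, hz], by simp [← mul_assoc, hprod]⟩⟩
    · exact ⟨1, by rw [one_smul]; exact noEig_four hq hn hno hxd⟩
    · exact cons (noEig_cover hq (by omega) hno hxd0 hk (NS.of_not_pse hxiP) hxidk)
  · by_cases hsp : ∃ ts, Split x ts
    · obtain ⟨ts, hts⟩ := hsp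
      by_cases htwo : ∃ t ∈ ts, ∃ u ∈ ts, u ≠ t
      · obtain ⟨t, ht, u, hu, htu⟩ := htwo
        exact split_two hn hxd0 hts ht hu htu
      push Not at htwo
      have hlen : ts.length = k + 1 := by
        have h1 := congrArg natDegree hts
        rw [LinearMap.charpoly_natDegree, ← Multiset.prod_coe, ← Multiset.map_coe,
          natDegree_multiset_prod_X_sub_C_eq_card, Multiset.coe_card] at h1
        omega
      rcases ts with _ | ⟨l, ts⟩
      · simp at hlen
      have heq : l :: ts = List.replicate (k + 1) l :=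
        List.eq_replicate_iff.2 ⟨hlen, fun b hb => htwo l (List.mem_cons_self ..) b hb⟩
      have hchar : x.charpoly = (X - C l) ^ (k + 1) := by
        rw [hts, heq, List.map_replicate, List.prod_replicate]
      refine split_one hq hn h3 (fun h0 => hxd0 ?_) hchar
      rw [LinearMap.det_eq_sign_charpoly_coeff, hchar, coeff_zero_eq_eval_zero, eval_pow]
      simp [h0]
    · push Not at hsp
      exact cons (minus hq k (by omega) V hn x xi hno hsp hxd0 hxiP hxidk)

/-- Every nonscalar map of determinant one. -/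
theorem nonscalar_cover (hq : 4 ≤ Fintype.card K) {n : ℕ} (hn : finrank K V = n) (h3 : 3 ≤ n)
    {x g : End K V} (hx : NS x) (hxd : LinearMap.det x = 1) (hg : NS g)
    (hgd : LinearMap.det g = 1) : Prodn x n g := by
  have hxd0 : LinearMap.det x ≠ 0 := by rw [hxd]; exact one_ne_zero
  have hdet : LinearMap.det g = LinearMap.det x ^ n := by rw [hgd, hxd, one_pow]
  by_cases hP : Pse x ∧ Pse g
  · exact (pse_prod hq hn h3 hx hP.1 hxd0).1 g hg hP.2 hdet
  · obtain ⟨k, rfl⟩ : ∃ k, n = k + 1 := ⟨n - 1, by omega⟩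
    exact (main hq k (by omega) V hn x g hx hxd0 hg hdet (not_and_or.1 hP)).prodn

end CfsgLib.SLCover
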