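import Cfsg.Agent.Lib.SLCover.Mul
import Cfsg.Agent.Lib.TwoJordan.Step
import Cfsg.Agent.Lib.SpecLin.Sourour

/-!
# Two copies of a split cyclic class cover all nonscalar maps
-/

set_option autoImplicit false
set_option linter.unusedSectionVars false

namespace CfsgLib.SLCover

open Module Polynomial CfsgLib.SLComm

universe u

variable {K : Type u} [Field K]
variable {V W : Type u} [AddCommGroup V] [Module K V] [AddCommGroup W] [Module K W]
  [FiniteDimensional K V] [FiniteDimensional K W]

theorem two_regular (hK : 4 ≤ Cardinal.mk K) {A : End K V} {m : ℕ} (hV : finrank K V = m + 1)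
    (hdet : LinearMap.det A = 1) (hns : m = 0 ∨ NS A) :
    ∃ B C : End K V, A = B * C ∧ (B - 1) ^ (m + 1) = 0 ∧ (C - 1) ^ (m + 1) = 0 ∧
      (B - 1) ^ m ≠ 0 ∧ (C - 1) ^ m ≠ 0 := by
  by_cases hnil : IsNilpotent (A - 1)
  · exact TwoJordan.unip_split hK m hV A hnil
  have : Nontrivial V := Module.nontrivial_of_finrank_eq_succ hV
  obtain ⟨c, hc⟩ := exists_ne (0 : V)
  obtain ⟨r, hr, -⟩ :=
    TwoJordan.exists_dual_one (p := (⊥ : Submodule K V)) (x := c) (by simpa using hc)
  obtain ⟨B, C, h1, h2, h3, h4, w, h5⟩ := TwoJordan.split_of_good hK m hV A hdet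
    (hns.imp id fun h => ⟨hnil, h⟩) c hc r (fun h => by simp [h] at hr)
  exact ⟨B, C, h1, h2, h3, fun h => h4 (by rw [h]; rfl),
    fun h => h5 (by rw [h]; simp)⟩

theorem smul_regular {B : End K V} {m : ℕ} (hV : finrank K V = m + 1) (h0 : (B - 1) ^ (m + 1) = 0)
    (h1 : (B - 1) ^ m ≠ 0) {t : K} (ht : t ≠ 0) :
    IsCyc (t • B) ∧ Split (t • B) (List.replicate (m + 1) t) := by
  constructor
  · obtain ⟨z, hz⟩ : ∃ z, ((B - 1) ^ m) z ≠ 0 := by
      by_contra h
      push Not at h
      exact h1 (LinearMap.ext h)
    refine ⟨z, fun S hzS hS => ?_⟩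
    have hN : ∀ x ∈ S, (B - 1) x ∈ S := fun x hx => by
      have := (Submodule.smul_mem_iff S ht).1 (hS x hx)
      simpa using S.sub_mem this hx
    by_contra hne
    have hlt : finrank K S ≤ m := by
      have := Submodule.finrank_lt hne
      omega
    set N := (B - 1).restrict hN with hNdef
    have hNe : ∀ (k : ℕ) (x : S), (((N ^ k) x : S) : V) = ((B - 1) ^ k) (x : V) := by
      intro k
      induction k with
      | zero => intro x; rfl
      | succ k ih =>
        intro x
        rw [pow_succ', pow_succ', Module.End.mul_apply, Module.End.mul_apply, ← ih]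
        rfl
    have hNn : IsNilpotent N :=
      ⟨m + 1, LinearMap.ext fun x => Subtype.ext (by rw [hNe, h0]; rfl)⟩
    have h2 := TwoJordan.pow_finrank_of_nilpotent hNn
    refine hz ?_
    have h3 : (N ^ m) ⟨z, hzS⟩ = 0 := by
      rw [show m = finrank K S + (m - finrank K S) by omega, pow_add, h2, zero_mul]
      rfl
    exact (hNe m ⟨z, hzS⟩).symm.trans (congrArg Subtype.val h3)
  · have hnil : IsNilpotent (t • B - t • (1 : End K V)) := by
      rw [← smul_sub]
      exact ⟨m + 1, by rw [_root_.smul_pow, h0, smul_zero]⟩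
    have h2 := IsNilpotent.charpoly_eq_X_pow_finrank hnil
    rw [LinearMap.charpoly_sub_smul, hV] at h2
    have h3 := congrArg (fun p : K[X] => p.comp (X - C t)) h2
    simp only [comp_assoc, add_comp, X_comp, C_comp, sub_add_cancel, comp_X, pow_comp] at h3
    rw [Split, h3, List.map_replicate, List.prod_replicate]

theorem Split.mem {M : End K V} {ts : List K} (h : Split M ts) {t : K} {l : V →ₗ[K] K}
    (hl : l ≠ 0) (hM : l ∘ₗ M = t • l) : t ∈ ts := by
  have hp : ∀ p : K[X], l ∘ₗ aeval M p = p.eval t • l := by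
    intro p
    induction p using Polynomial.induction_on' with
    | add p q hp hq => rw [map_add, LinearMap.comp_add, hp, hq, eval_add, add_smul]
    | monomial n a =>
      have hn : l ∘ₗ (M ^ n : End K V) = t ^ n • l := by
        induction n with
        | zero => simp [Module.End.one_eq_id]
        | succ n ih =>
          rw [pow_succ, Module.End.mul_eq_comp, ← LinearMap.comp_assoc, ih, LinearMap.smul_comp, hM,
            smul_smul, pow_succ]
      refine LinearMap.ext fun v => ?_
      have := LinearMap.congr_fun hn v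
      simp at this
      simp [aeval_monomial, this, mul_assoc]
  have h1 := hp M.charpoly
  rw [LinearMap.aeval_self_charpoly, LinearMap.comp_zero, h] at h1
  have h2 := (smul_eq_zero.1 h1.symm).resolve_right hl
  rw [eval_list_prod, List.prod_eq_zero_iff, List.map_map] at h2
  obtain ⟨a, ha, ha0⟩ := List.mem_map.1 h2
  rw [Function.comp_apply, eval_sub, eval_X, eval_C, sub_eq_zero] at ha0
  rwa [ha0]

theorem Split.congr {M : End K V} {N : End K W} {ts : List K} (h : Split M ts) (hc : Cj M N) :
    Split N ts := by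
  rw [Split, hc.charpoly_eq, h]

theorem cj_lower_upper (a : End K V) (T : V →ₗ[K] W) (b : End K W) :
    Cj (upper b T a) (lower a T b) :=
  ⟨LinearEquiv.prodComm K W V, fun p => by simp [add_comm]⟩

variable [Fintype K]

/-- Gluing cyclic split maps with disjoint spectra. -/
theorem glue_disjoint {a : End K V} {b : End K W} {ts us : List K} (ha : IsCyc a) (hb : IsCyc b)
    (has : Split a ts) (hbs : Split b us) (hne : ∀ t ∈ ts ++ us, t ≠ 0)
    (hdis : ∀ t ∈ ts, t ∉ us) (r : W →ₗ[K] V) :
    IsCyc (upper a r b) ∧ Split (upper a r b) (ts ++ us) := by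
  have hs : Split (upper a r b) (ts ++ us) := by
    rw [Split, charpoly_upper, has, hbs, List.map_append, List.prod_append]
  refine ⟨isCyc_of_leftLine hs hne fun t _ => leftLine_upper (ha.leftLine t) (hb.leftLine t) ?_, hs⟩
  intro l hl hla
  exact Or.inl fun l₂ hl₂ hlb => hdis t (has.mem hl hla) (hbs.mem hl₂ hlb)

/-- The diagonal of a group. -/
def pat (a t : K) : ℕ → List K
  | 0 => []
  | 1 => [t ^ 2]
  | e + 2 => a * t ^ 2 :: t ^ 2 / a :: List.replicate e (t ^ 2)

theorem pat_length (a t : K) : ∀ e, (pat a t e).length = e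
  | 0 => rfl
  | 1 => rfl
  | e + 2 => by simp [pat]

theorem pat_prod {a : K} (ha : a ≠ 0) (t : K) : ∀ e, (pat a t e).prod = (t ^ 2) ^ e
  | 0 => by simp [pat]
  | 1 => by simp [pat]
  | e + 2 => by
    rw [pat, List.prod_cons, List.prod_cons, List.prod_replicate]
    field_simp
    ring

/-- The diagonal for a list of groups. -/
def dlist (a : K) : List (K × ℕ) → List K
  | [] => []
  | (t, e) :: gs => pat a t e ++ dlist a gs

/-- The roots of a list of groups. -/
def roots (gs : List (K × ℕ)) : List K := (gs.map fun p => List.replicate p.2 p.1).flatten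

theorem roots_length_dlist (a : K) : ∀ gs, (dlist a gs).length = (roots gs).length
  | [] => rfl
  | (t, e) :: gs => by simp [dlist, roots, pat_length, roots_length_dlist a gs]

theorem mem_roots {gs : List (K × ℕ)} {t : K} (h : t ∈ roots gs) : t ∈ gs.map Prod.fst := by
  simp only [roots, List.mem_flatten, List.mem_map] at h
  obtain ⟨_, ⟨p, hp, rfl⟩, ht⟩ := h
  rw [List.eq_of_mem_replicate ht]
  exact List.mem_map_of_mem hp

/-- `K^(e+N)` as a product. -/
noncomputable def splitFun (e N : ℕ) :
    (Fin (e + N) → K) ≃ₗ[K] (Fin e → K) × (Fin N → K) :=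
  (LinearEquiv.funCongrLeft K K finSumFinEquiv).trans (LinearEquiv.sumArrowLequivProdArrow _ _ K K)

theorem splitFun_toLin (e N : ℕ) (M : Matrix (Fin (e + N)) (Fin (e + N)) K)
    (p : (Fin e → K) × (Fin N → K)) :
    (splitFun e N).conj (Matrix.toLin' M) p =
      (Matrix.toLin' (M.submatrix (Fin.castAdd N) (Fin.castAdd N)) p.1 +
          Matrix.toLin' (M.submatrix (Fin.castAdd N) (Fin.natAdd e)) p.2,
        Matrix.toLin' (M.submatrix (Fin.natAdd e) (Fin.castAdd N)) p.1 +
          Matrix.toLin' (M.submatrix (Fin.natAdd e) (Fin.natAdd e)) p.2) := by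
  refine Prod.ext (funext fun i => ?_) (funext fun i => ?_) <;>
    simp [splitFun, LinearEquiv.conj_apply, Matrix.mulVec, dotProduct, Fin.sum_univ_add,
      LinearEquiv.funCongrLeft, LinearMap.funLeft, LinearEquiv.sumArrowLequivProdArrow,
      Equiv.sumArrowEquivProdArrow]

theorem groups (hK : 4 ≤ Cardinal.mk K) {a : K} (ha : a ≠ 0) (ha2 : a ^ 2 ≠ 1) :
    ∀ (gs : List (K × ℕ)), (gs.map Prod.fst).Nodup → (∀ p ∈ gs, p.1 ≠ 0 ∧ p.2 ≠ 0) →
    ∀ (N : ℕ), (roots gs).length = N → ∀ L U : Matrix (Fin N) (Fin N) K,
      (∀ i j, i < j → L i j = 0) → (∀ i, L i i = 1) → (∀ i j, j < i → U i j = 0) →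
      (∀ i : Fin N, (dlist a gs)[i.val]? = some (U i i)) →
    ∃ A B : End K (Fin N → K), IsCyc A ∧ IsCyc B ∧ Split A (roots gs) ∧ Split B (roots gs) ∧
      A * B = Matrix.toLin' (L * U) := by
  intro gs
  induction gs with
  | nil =>
    intro _ _ N hN L U _ _ _ _
    obtain rfl : N = 0 := by simpa [roots] using hN.symm
    have hc : ∀ M : End K (Fin 0 → K), IsCyc M ∧ Split M [] := fun M =>
      ⟨⟨0, fun S _ _ => eq_top_iff.2 fun x _ => by rw [Subsingleton.elim x 0]; exact S.zero_mem⟩, by
        rw [Split]
        simpa using M.charpoly_monic.natDegree_eq_zero.1 (by rw [M.charpoly_natDegree]; simp)⟩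
    exact ⟨1, 1, (hc 1).1, (hc 1).1, (hc 1).2, (hc 1).2, LinearMap.ext fun x => Subsingleton.elim _ _⟩
  | cons p gs ih =>
    obtain ⟨t, e⟩ := p
    intro hnd hpos N hN L U hL hL1 hU hUd
    obtain ⟨ht, he⟩ := hpos (t, e) (by simp)
    simp only [List.map_cons, List.nodup_cons] at hnd
    obtain ⟨N', rfl⟩ : ∃ N', N = e + N' := ⟨N - e, by simp [roots] at hN; omega⟩
    obtain ⟨m, rfl⟩ : ∃ m, e = m + 1 := ⟨e - 1, by simp at he; omega⟩
    set c := Fin.castAdd (n := m + 1) N' with hc
    set n' := Fin.natAdd (m := N') (m + 1) with hn'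
    have hlt : ∀ i j, c i < n' j := fun i j => by
      simp only [hc, hn', Fin.lt_def, Fin.val_castAdd, Fin.val_natAdd]
      omega
    set L11 := L.submatrix c c
    set U11 := U.submatrix c c
    obtain ⟨A', B', hA', hB', hA's, hB's, hAB'⟩ := ih hnd.2
      (fun p hp => hpos p (by simp [hp])) N' (by simp [roots] at hN ⊢; omega)
      (L.submatrix n' n') (U.submatrix n' n')
      (fun i j h => hL _ _ (by simp only [hn', Fin.lt_def, Fin.val_natAdd] at h ⊢; omega))
      (fun i => hL1 _)
      (fun i j h => hU _ _ (by simp only [hn', Fin.lt_def, Fin.val_natAdd] at h ⊢; omega))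
      (fun i => by
        have := hUd (n' i)
        rw [dlist, List.getElem?_append_right (by simp [pat_length, hn'])] at this
        simpa [pat_length, hn'] using this)
    have hL11 : L11.BlockTriangular OrderDual.toDual := fun i j h =>
      hL _ _ (show c i < c j from h)
    have hL11d : ∀ i, L11 i i = 1 := fun i => hL1 (c i)
    have hU11 : U11.BlockTriangular id := fun i j h => hU _ _ (show c j < c i from h)
    have hUd11 : ∀ i, (pat a t (m + 1))[i.val]? = some (U11 i i) := fun i => by
      have := hUd (c i)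
      rw [dlist, List.getElem?_append_left (by rw [pat_length]; exact i.isLt)] at this
      simpa [hc, U11, Matrix.submatrix_apply] using this
    have hdet : (L11 * U11).det = (t ^ 2) ^ (m + 1) := by
      rw [Matrix.det_mul, Matrix.det_of_isLowerTriangular L11 hL11,
        Matrix.det_of_isUpperTriangular hU11,
        Finset.prod_eq_one (fun i _ => (hL11d i)), one_mul, ← pat_prod ha t (m + 1)]
      have hlist : pat a t (m + 1) = List.ofFn fun i => U11 i i := by
        refine List.ext_getElem (by simp [pat_length]) fun i h1 h2 => ?_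
        rw [pat_length] at h1
        have := hUd11 ⟨i, h1⟩
        rw [List.getElem?_eq_getElem (by rw [pat_length]; exact h1)] at this
        rw [List.getElem_ofFn]
        exact Option.some_injective _ this
      rw [hlist, List.prod_ofFn]
    have ht2 : t ^ 2 ≠ 0 := pow_ne_zero _ ht
    -- the group factor
    let A₁ : End K (Fin (m + 1) → K) := (t ^ 2)⁻¹ • Matrix.toLin' (L11 * U11)
    have hA₁ : LinearMap.det A₁ = 1 := by
      rw [LinearMap.det_smul, LinearMap.det_toLin', hdet, finrank_fin_fun, ← mul_pow,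
        inv_mul_cancel₀ ht2, one_pow]
    have hns : m = 0 ∨ NS A₁ := by
      rcases Nat.eq_zero_or_pos m with h | h
      · exact Or.inl h
      refine Or.inr fun s hs => ?_
      have h2 : L11 * U11 = (t ^ 2 * s) • (1 : Matrix (Fin (m + 1)) (Fin (m + 1)) K) := by
        apply Matrix.toLin'.injective
        rw [map_smul, Matrix.toLin'_one]
        have h3 : Matrix.toLin' (L11 * U11) = t ^ 2 • A₁ := (smul_inv_smul₀ ht2 _).symm
        rw [h3, hs, smul_smul]
        rfl
      obtain ⟨m', rfl⟩ : ∃ m', m = m' + 1 := ⟨m - 1, by omega⟩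
      let i0 : Fin (m' + 1 + 1) := 0
      let i1 : Fin (m' + 1 + 1) := 1
      have h01 : i0 < i1 := by simp [i0, i1]
      have hrow0 : ∀ j, (L11 * U11) i0 j = U11 i0 j := fun j => by
        rw [Matrix.mul_apply, Finset.sum_eq_single i0
          (fun k _ hk => by
            rw [show L11 i0 k = 0 from hL11 (show i0 < k from Fin.pos_iff_ne_zero.2 hk), zero_mul])
          (fun h => absurd (Finset.mem_univ _) h), hL11d i0, one_mul]
      have e00 := hrow0 i0
      rw [h2, Matrix.smul_apply, Matrix.one_apply_eq, smul_eq_mul, mul_one] at e00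
      have e01 := hrow0 i1
      rw [h2, Matrix.smul_apply, Matrix.one_apply_ne h01.ne, smul_zero] at e01
      have e11 : (L11 * U11) i1 i1 = U11 i1 i1 := by
        rw [Matrix.mul_apply, Finset.sum_eq_single i1 (fun k _ hk => ?_)
          (fun h => absurd (Finset.mem_univ _) h), hL11d i1, one_mul]
        rcases eq_or_ne k i0 with rfl | hk0
        · rw [← e01, mul_zero]
        · rw [show L11 i1 k = 0 from hL11 (show i1 < k by
            rename_i hk
            have e0 : k.val ≠ 0 := fun h => hk0 (Fin.ext h)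
            have e1 : k.val ≠ 1 := fun h => hk (Fin.ext h)
            show (1 : ℕ) < k.val
            omega),
            zero_mul]
      rw [h2, Matrix.smul_apply, Matrix.one_apply_eq, smul_eq_mul, mul_one] at e11
      have d0 := hUd11 i0
      have d1 := hUd11 i1
      simp [pat, i0, i1] at d0 d1
      have h4 : a * t ^ 2 = t ^ 2 / a := by
        rw [d0, d1]
        exact e00.symm.trans e11
      field_simp at h4
      exact ha2 (by linear_combination h4)
    obtain ⟨Br, Cr, hBC, hB0, hC0, hB1, hC1⟩ := two_regular hK (finrank_fin_fun K) hA₁ hns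
    obtain ⟨hA1c, hA1s⟩ := smul_regular (finrank_fin_fun K) hB0 hB1 ht
    obtain ⟨hB1c, hB1s⟩ := smul_regular (finrank_fin_fun K) hC0 hC1 ht
    set B₁ := t • Br with hB₁
    set C₁ := t • Cr with hC₁
    have hM11 : B₁ * C₁ = Matrix.toLin' L11 * Matrix.toLin' U11 := by
      rw [hB₁, hC₁, smul_mul_smul_comm, ← hBC, ← sq, smul_inv_smul₀ ht2, Module.End.mul_eq_comp,
        ← Matrix.toLin'_mul]
    have hdu : ∀ {M : End K (Fin (m + 1) → K)}, IsCyc M → Split M (List.replicate (m + 1) t) →
        ∃ Mi, Mi * M = 1 ∧ M * Mi = 1 := fun {M} _ hs => by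
      have hd : LinearMap.det M ≠ 0 := by
        rw [LinearMap.det_eq_sign_charpoly_coeff, hs, List.map_replicate, List.prod_replicate,
          coeff_zero_eq_eval_zero]
        simp [ht]
      obtain ⟨Mi, h1, h2, -⟩ := exists_inv hd
      exact ⟨Mi, h1, h2⟩
    obtain ⟨Bi, hBi1, hBi2⟩ := hdu hA1c hA1s
    obtain ⟨Ci, hCi1, hCi2⟩ := hdu hB1c hB1s
    let T : (Fin (m + 1) → K) →ₗ[K] (Fin N' → K) :=
      Matrix.toLin' (L.submatrix n' c) ∘ₗ Matrix.toLin' U11 ∘ₗ Ci
    let R : (Fin N' → K) →ₗ[K] (Fin (m + 1) → K) :=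
      Bi ∘ₗ Matrix.toLin' L11 ∘ₗ Matrix.toLin' (U.submatrix c n')
    have hmemne : ∀ t' ∈ List.replicate (m + 1) t ++ roots gs, t' ≠ 0 := fun t' h => by
      rcases List.mem_append.1 h with h | h
      · rw [List.eq_of_mem_replicate h]; exact ht
      · obtain ⟨p, hp, rfl⟩ := List.mem_map.1 (mem_roots h)
        exact (hpos p (by simp [hp])).1
    have hdis : ∀ t' ∈ List.replicate (m + 1) t, t' ∉ roots gs := fun t' h h' => by
      rw [List.eq_of_mem_replicate h] at h'
      exact hnd.1 (mem_roots h')
    obtain ⟨hlo, hlos⟩ := glue_disjoint hA' hA1c hA's hA1s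
      (fun t' h => hmemne t' (by
        rcases List.mem_append.1 h with h | h
        · exact List.mem_append_right _ h
        · exact List.mem_append_left _ h))
      (fun t' h h' => hdis t' h' h) T
    obtain ⟨hup, hups⟩ := glue_disjoint hB1c hB' hB1s hB's hmemne hdis R
    set E := (splitFun (K := K) (m + 1) N').symm
    have hroots : roots ((t, m + 1) :: gs) = List.replicate (m + 1) t ++ roots gs := by simp [roots]
    refine ⟨E.conj (lower B₁ T A'), E.conj (upper C₁ R B'),
      (hlo.congr (cj_lower_upper B₁ T A')).congr (cj_conj E _), hup.congr (cj_conj E _), ?_,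
      (hroots ▸ hups).congr (cj_conj E _), ?_⟩
    · refine Split.congr ?_ ((cj_lower_upper B₁ T A').trans (cj_conj E _))
      rw [Split, hlos, hroots]
      exact ((List.perm_append_comm).map _).prod_eq
    · rw [← conj_mul]
      refine ((splitFun (K := K) (m + 1) N').conj).injective ?_
      have hrfl : ∀ f, (splitFun (K := K) (m + 1) N').conj (E.conj f) = f := fun f =>
        LinearMap.ext fun q => by simp [E, LinearEquiv.conj_apply]
      rw [hrfl, Matrix.toLin'_mul, ← Module.End.mul_eq_comp, conj_mul]
      refine LinearMap.ext fun q => ?_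
      have hz1 : L.submatrix c n' = 0 := by
        ext i j; exact hL _ _ (hlt i j)
      have hz2 : U.submatrix n' c = 0 := by
        ext i j; exact hU _ _ (hlt j i)
      rw [Module.End.mul_apply, Module.End.mul_apply, splitFun_toLin, splitFun_toLin]
      simp only [← hc, ← hn', hz1, hz2, map_zero, LinearMap.zero_apply, add_zero, zero_add,
        upper_apply, lower_apply, T, R, LinearMap.comp_apply]
      have hLU : ∀ v, B₁ (C₁ v) = Matrix.toLin' L11 (Matrix.toLin' U11 v) :=
        fun v => LinearMap.congr_fun hM11 v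
      have hBB : ∀ v, B₁ (Bi v) = v := fun v => LinearMap.congr_fun hBi2 v
      have hCC : ∀ v, C₁ (Ci v) = v := fun v => LinearMap.congr_fun hCi2 v
      have hCi' : ∀ v, Ci (C₁ v) = v := fun v => LinearMap.congr_fun hCi1 v
      have hA'B' : ∀ v, A' (B' v) = Matrix.toLin' (L.submatrix n' n')
          (Matrix.toLin' (U.submatrix n' n') v) := fun v => by
        rw [← Module.End.mul_apply, hAB', Matrix.toLin'_mul, LinearMap.comp_apply]
      have hkey : ∀ v, Matrix.toLin' U11 (Ci (Bi (Matrix.toLin' L11 v))) = v := fun v => by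
        have hinj : Function.Injective (Matrix.toLin' L11) :=
          (LinearMap.equivOfDetNeZero (Matrix.toLin' L11) (by
            rw [LinearMap.det_toLin', Matrix.det_of_isLowerTriangular L11 hL11,
              Finset.prod_eq_one (fun i _ => (hL11d i))]
            exact one_ne_zero)).injective
        refine hinj ?_
        rw [← hLU, hCC, hBB]
      refine Prod.ext ?_ ?_
      · show B₁ (C₁ q.1 + Bi _) = _
        rw [map_add, hLU, hBB, map_add]
      · show _ + A' (B' q.2) = _
        simp only [map_add, hCi', hkey, hA'B']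
        abel

/-- A cyclic split class squared contains every nonscalar map of the right determinant. -/
theorem covering (hq : 4 ≤ Fintype.card K) {h : End K W} (hh : IsCyc h) {ts : List K}
    (hsp : Split h ts) (hts : ∀ t ∈ ts, t ≠ 0) {g : End K V} (hg : NS g)
    (hn : finrank K V = finrank K W)
    (hdet : LinearMap.det g = LinearMap.det h * LinearMap.det h) :
    ∃ A B : End K V, Cj h A ∧ Cj h B ∧ g = A * B := by
  classical
  have hK : 4 ≤ Cardinal.mk K := by rw [Cardinal.mk_fintype]; exact_mod_cast hq
  obtain ⟨a, ha⟩ := exists_scalar_avoid ({0, 1, -1} : Finset K)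
    (lt_of_le_of_lt Finset.card_le_three (by omega))
  simp at ha
  have ha2 : a ^ 2 ≠ 1 := fun h2 => by
    rcases sq_eq_one_iff.1 h2 with h3 | h3
    · exact ha.2.1 h3
    · exact ha.2.2 h3
  let gs : List (K × ℕ) := ts.dedup.map fun t => (t, ts.count t)
  have hperm : (roots gs).Perm ts := by
    refine List.perm_iff_count.2 fun x => ?_
    have key : ∀ l : List K, l.Nodup →
        (roots (l.map fun t => (t, ts.count t))).count x = if x ∈ l then ts.count x else 0 := by
      intro l hl
      induction l with
      | nil => simp [roots]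
      | cons y l ihl =>
        rw [List.nodup_cons] at hl
        have : roots ((y :: l).map fun t => (t, ts.count t)) =
            List.replicate (ts.count y) y ++ roots (l.map fun t => (t, ts.count t)) := by
          simp [roots]
        rw [this, List.count_append, ihl hl.2, List.count_replicate]
        rcases eq_or_ne y x with rfl | hxy
        · simp [hl.1]
        · simp [hxy, hxy.symm]
    rw [key _ ts.nodup_dedup]
    split_ifs with hx
    · rfl
    · exact (List.count_eq_zero.2 fun h => hx (List.mem_dedup.2 h)).symm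
  have hlen : ts.length = finrank K V := by
    have h1 := congrArg natDegree hsp
    rw [LinearMap.charpoly_natDegree, ← Multiset.prod_coe, ← Multiset.map_coe,
      natDegree_multiset_prod_X_sub_C_eq_card, Multiset.coe_card] at h1
    rw [hn, h1]
  obtain ⟨n, hn1⟩ : ∃ n, finrank K V = n + 1 := ⟨finrank K V - 1, by
    have : finrank K V ≠ 0 := fun h0 => by
      have : Subsingleton V := Module.finrank_zero_iff.1 h0
      exact hg 0 (LinearMap.ext fun v => Subsingleton.elim _ _)
    omega⟩
  let b := Module.finBasisOfFinrankEq K V hn1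
  set M := LinearMap.toMatrix b b g
  have hMns : ∀ s : K, M ≠ s • 1 := fun s hs => hg s (by
    apply (LinearMap.toMatrix b b).injective
    rw [map_smul, LinearMap.toMatrix_one]
    exact hs)
  have hdh : LinearMap.det h = ts.prod := by
    rw [LinearMap.det_eq_sign_charpoly_coeff, hsp, coeff_zero_eq_eval_zero, eval_list_prod,
      ← hn, ← hlen, List.map_map]
    clear hsp hts hperm hlen hdet
    induction ts with
    | nil => simp
    | cons y l ihl =>
      simp only [List.length_cons, List.map_cons, List.prod_cons, Function.comp_apply, eval_sub,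
        eval_X, eval_C, zero_sub, pow_succ]
      linear_combination y * ihl
  have hdprod : ∀ gs : List (K × ℕ), (dlist a gs).prod = (roots gs).prod ^ 2 := by
    intro gs
    induction gs with
    | nil => simp [dlist, roots]
    | cons p gs ih =>
      obtain ⟨t, e⟩ := p
      rw [dlist, List.prod_append, pat_prod ha.1, ih]
      rw [show roots ((t, e) :: gs) = List.replicate e t ++ roots gs by simp [roots],
        List.prod_append, List.prod_replicate, mul_pow, ← pow_mul, ← pow_mul, mul_comm e 2]
  have hdlen : (dlist a gs).length = n + 1 := by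
    rw [roots_length_dlist, hperm.length_eq, hlen, hn1]
  let d : Fin (n + 1) → K := fun i => (dlist a gs)[i.val]'(by omega)
  obtain ⟨L, U, ⟨P, hP, hPM⟩, hL, hL1, hU, hUd⟩ := CfsgLib.SpecLin.exists_similar_lu M (Or.inr hMns)
    (by rw [LinearMap.det_toMatrix, hdet, hdh]
        exact mul_ne_zero (List.prod_ne_zero fun h0 => hts 0 h0 rfl)
          (List.prod_ne_zero fun h0 => hts 0 h0 rfl)) d (by
      rw [LinearMap.det_toMatrix, hdet, hdh, ← sq, ← hperm.prod_eq, ← hdprod,
        ← List.prod_ofFn]
      congr 1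
      exact List.ext_getElem (by simp [hdlen]) fun i h1 h2 => by rw [List.getElem_ofFn])
  obtain ⟨A, B, hA, hB, hAs, hBs, hAB⟩ := groups hK ha.1 ha2 gs
    (by simpa [gs, List.map_map, Function.comp_def] using ts.nodup_dedup)
    (fun p hp => by
      simp only [gs, List.mem_map] at hp
      obtain ⟨t, ht, rfl⟩ := hp
      exact ⟨hts t (List.mem_dedup.1 ht),
        fun h0 => List.count_eq_zero.1 h0 (List.mem_dedup.1 ht)⟩)
    (n + 1) (by rw [hperm.length_eq, hlen, hn1]) L U hL hL1 hU
    (fun i => by rw [hUd, List.getElem?_eq_getElem (by omega)])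
  obtain ⟨φ, hφ⟩ : Cj (Matrix.toLin' (L * U)) g := by
    have h1 : Cj g (Matrix.toLin' M) := ⟨b.equivFun, fun v => by
      simp [M, Matrix.toLin'_apply, LinearMap.toMatrix_mulVec_repr]⟩
    have h2 : Cj (Matrix.toLin' M) (Matrix.toLin' (L * U)) := by
      refine ⟨LinearMap.equivOfDetNeZero (Matrix.toLin' P)
        (by rw [LinearMap.det_toLin']; exact hP), fun v => ?_⟩
      show Matrix.toLin' P (Matrix.toLin' M v) = Matrix.toLin' (L * U) (Matrix.toLin' P v)
      rw [← LinearMap.comp_apply, ← Matrix.toLin'_mul, hPM, Matrix.toLin'_mul, LinearMap.comp_apply]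
    exact (h1.trans h2).symm
  have hc : ∀ {X : End K (Fin (n + 1) → K)}, IsCyc X → Split X (roots gs) → Cj h (φ.conj X) :=
    fun {X} hX hXs => (cj_of_cyc hh hX (by
      rw [hsp, hXs]; exact (hperm.map _).prod_eq.symm)).trans (cj_conj φ X)
  refine ⟨φ.conj A, φ.conj B, hc hA hAs, hc hB hBs, ?_⟩
  rw [← conj_mul, hAB]
  exact Cj.eq_conj φ hφ

end CfsgLib.SLCover
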