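import Cfsg.Agent.Lib.SLCover.Basic
import Cfsg.Agent.Lib.SLComm.Basic

/-!
# Cyclic endomorphisms
-/

set_option autoImplicit false
set_option linter.unusedSectionVars false

namespace CfsgLib.SLCover

open Module Polynomial

universe u

variable {K : Type u} [Field K]
variable {V W : Type u} [AddCommGroup V] [Module K V] [AddCommGroup W] [Module K W]

/-- `e` generates `V` under `M`. -/
def Gen (M : End K V) (e : V) : Prop :=
  ∀ S : Submodule K V, e ∈ S → (∀ x ∈ S, M x ∈ S) → S = ⊤

/-- `M` has a cyclic vector. -/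
def IsCyc (M : End K V) : Prop := ∃ e, Gen M e

theorem Gen.map {M : End K V} {N : End K W} {e : V} (h : Gen M e) (φ : V ≃ₗ[K] W)
    (hφ : ∀ v, φ (M v) = N (φ v)) : Gen N (φ e) := fun S he hS => by
  have := h (S.comap (φ : V →ₗ[K] W)) he fun x hx => by
    show φ (M x) ∈ S
    rw [hφ]
    exact hS _ hx
  exact eq_top_iff.2 fun w _ => by
    obtain ⟨v, rfl⟩ := φ.surjective w
    exact (this ▸ Submodule.mem_top : v ∈ S.comap (φ : V →ₗ[K] W))

theorem IsCyc.congr {M : End K V} {N : End K W} (h : Cj M N) (hM : IsCyc M) : IsCyc N := by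
  obtain ⟨φ, hφ⟩ := h
  obtain ⟨e, he⟩ := hM
  exact ⟨φ e, he.map φ hφ⟩

/-- A sequence following `M` up to multiples of `e` spans what the powers of `M` reach. -/
theorem pow_mem_span_seq (M : End K V) (e : V) (p : ℕ → V) (a : ℕ → K) (h0 : p 0 = e) {n : ℕ}
    (hp : ∀ i, i + 1 < n → M (p i) = p (i + 1) - a i • e) :
    ∀ i < n, (M ^ i) e ∈ Submodule.span K (Set.range fun j : Fin n => p j) := by
  have key : ∀ i j, i + j < n →
      (M ^ i) (p j) ∈ Submodule.span K (Set.range fun j : Fin n => p j) := by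
    intro i
    induction i with
    | zero => exact fun j hj => Submodule.subset_span ⟨⟨j, by omega⟩, rfl⟩
    | succ i ih =>
      intro j hj
      rw [pow_succ, Module.End.mul_apply, hp j (by omega), map_sub, map_smul, ← h0]
      exact Submodule.sub_mem _ (ih (j + 1) (by omega)) (Submodule.smul_mem _ _ (ih 0 (by omega)))
  intro i hi
  have := key i 0 (by omega)
  rwa [h0] at this

variable [FiniteDimensional K V] [FiniteDimensional K W]

theorem Gen.span_pow {M : End K V} {e : V} (h : Gen M e) :
    Submodule.span K (Set.range fun i : Fin (finrank K V) => (M ^ i.val) e) = ⊤ := by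
  rcases Nat.eq_zero_or_pos (finrank K V) with h0 | h0
  · have : Subsingleton V := Module.finrank_zero_iff.1 h0
    exact eq_top_iff.2 fun x _ => by rw [Subsingleton.elim x 0]; exact Submodule.zero_mem _
  set S := Submodule.span K (Set.range fun i : Fin (finrank K V) => (M ^ i.val) e)
  have hlow : ∀ i < finrank K V, (M ^ i) e ∈ S := fun i hi =>
    Submodule.subset_span ⟨⟨i, hi⟩, rfl⟩
  have htop : (M ^ finrank K V) e ∈ S := by
    have h1 := LinearMap.congr_fun M.aeval_self_charpoly e
    rw [aeval_eq_sum_range, M.charpoly_natDegree, Finset.sum_range_succ] at h1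
    rw [show M.charpoly.coeff (finrank K V) = 1 by
      rw [← M.charpoly_natDegree]; exact M.charpoly_monic.coeff_natDegree, one_smul] at h1
    simp only [LinearMap.add_apply, LinearMap.sum_apply, LinearMap.smul_apply,
      LinearMap.zero_apply] at h1
    rw [eq_neg_of_add_eq_zero_right h1]
    exact S.neg_mem (S.sum_mem fun i hi => S.smul_mem _ (hlow i (Finset.mem_range.1 hi)))
  refine h S (hlow 0 h0) fun x hx => ?_
  have hle : S ≤ S.comap M := by
    refine Submodule.span_le.2 ?_
    rintro _ ⟨i, rfl⟩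
    show M ((M ^ i.val) e) ∈ S
    rw [← Module.End.mul_apply, ← pow_succ']
    rcases Nat.lt_or_ge (i.val + 1) (finrank K V) with hi | hi
    · exact hlow _ hi
    · rw [show i.val + 1 = finrank K V by have := i.isLt; omega]
      exact htop
  exact hle hx

theorem Gen.linearIndependent {M : End K V} {e : V} (h : Gen M e) :
    LinearIndependent K fun i : Fin (finrank K V) => (M ^ i.val) e :=
  linearIndependent_of_top_le_span_of_card_eq_finrank h.span_pow.ge (Fintype.card_fin _)

theorem gen_of_span {M : End K V} {e : V} {n : ℕ}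
    (h : Submodule.span K (Set.range fun i : Fin n => (M ^ i.val) e) = ⊤) : Gen M e := by
  intro S he hS
  have hp : ∀ i : ℕ, (M ^ i) e ∈ S := by
    intro i
    induction i with
    | zero => exact he
    | succ i ih => rw [pow_succ', Module.End.mul_apply]; exact hS _ ih
  refine eq_top_iff.2 (h.ge.trans (Submodule.span_le.2 ?_))
  rintro _ ⟨i, rfl⟩
  exact hp i

theorem Gen.eq_zero {M : End K V} {e : V} (h : Gen M e) {p : K[X]}
    (hdeg : p.degree < (finrank K V : ℕ)) (hp : aeval M p e = 0) : p = 0 := by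
  rcases eq_or_ne p 0 with rfl | hp0
  · rfl
  have hn : p.natDegree < finrank K V := (natDegree_lt_iff_degree_lt hp0).2 hdeg
  rw [aeval_eq_sum_range' hn, LinearMap.sum_apply, ← Fin.sum_univ_eq_sum_range
    (fun i => (p.coeff i • M ^ i) e) (finrank K V)] at hp
  refine Polynomial.ext fun i => ?_
  rcases Nat.lt_or_ge i (finrank K V) with hi | hi
  · exact Fintype.linearIndependent_iff.1 h.linearIndependent (fun i => p.coeff i.val)
      (by simpa using hp) ⟨i, hi⟩
  · exact coeff_eq_zero_of_natDegree_lt (by omega)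

theorem Gen.charpoly_eq {M : End K V} {e : V} (h : Gen M e) {f : K[X]} (hf : f.Monic)
    (hdeg : f.natDegree = finrank K V) (h0 : aeval M f e = 0) : M.charpoly = f := by
  refine sub_eq_zero.1 (h.eq_zero ?_ (by simp [map_sub, LinearMap.aeval_self_charpoly, h0]))
  rcases eq_or_ne (finrank K V) 0 with hn | hn
  · have h1 : M.charpoly = 1 :=
      M.charpoly_monic.natDegree_eq_zero.1 (by rw [M.charpoly_natDegree, hn])
    rw [h1, hf.natDegree_eq_zero.1 (by rw [hdeg, hn]), sub_self, degree_zero]
    exact WithBot.bot_lt_coe _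
  · have h1 : M.charpoly.degree = (finrank K V : ℕ) := by
      rw [degree_eq_natDegree M.charpoly_monic.ne_zero, M.charpoly_natDegree]
    have h2 : f.degree = (finrank K V : ℕ) := by rw [degree_eq_natDegree hf.ne_zero, hdeg]
    rw [← h1]
    exact degree_sub_lt (h1.trans h2.symm) M.charpoly_monic.ne_zero
      (by rw [M.charpoly_monic.leadingCoeff, hf.leadingCoeff])

theorem Cj.charpoly_eq {M : End K V} {N : End K W} (h : Cj M N) : N.charpoly = M.charpoly := by
  obtain ⟨e, he⟩ := h
  rw [Cj.eq_conj e he, LinearEquiv.charpoly_conj]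

/-- Cyclic maps with the same characteristic polynomial are similar. -/
theorem cj_of_gen {M : End K V} {N : End K W} {e : V} {e' : W} (h : Gen M e) (h' : Gen N e')
    (hc : M.charpoly = N.charpoly) : ∃ φ : V ≃ₗ[K] W,
      (∀ v, φ (M v) = N (φ v)) ∧ ∀ p : K[X], φ (aeval M p e) = aeval N p e' := by
  have hn : finrank K V = finrank K W := by
    rw [← M.charpoly_natDegree, hc, N.charpoly_natDegree]
  let b := Basis.mk h.linearIndependent h.span_pow.ge
  let b' := Basis.mk h'.linearIndependent h'.span_pow.ge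
  let φ := b.equiv b' (finCongr hn)
  have hb : ∀ i : Fin (finrank K V), φ ((M ^ i.val) e) = (N ^ i.val) e' := fun i => by
    rw [← show b i = (M ^ i.val) e from Basis.mk_apply _ _ _, Basis.equiv_apply, Basis.mk_apply]
    rfl
  have hlow : ∀ p : K[X], p.degree < (finrank K V : ℕ) → φ (aeval M p e) = aeval N p e' := by
    intro p hp
    rcases eq_or_ne p 0 with rfl | hp0
    · simp
    have hd : p.natDegree < finrank K V := (natDegree_lt_iff_degree_lt hp0).2 hp
    rw [aeval_eq_sum_range' hd, aeval_eq_sum_range' hd, LinearMap.sum_apply, LinearMap.sum_apply,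
      map_sum]
    refine Finset.sum_congr rfl fun i hi => ?_
    simp [hb ⟨i, Finset.mem_range.1 hi⟩]
  have hall : ∀ p : K[X], φ (aeval M p e) = aeval N p e' := fun p => by
    rw [M.aeval_eq_aeval_mod_charpoly p, N.aeval_eq_aeval_mod_charpoly p, ← hc]
    refine hlow _ ((degree_modByMonic_lt p M.charpoly_monic).trans_le ?_)
    rw [degree_eq_natDegree M.charpoly_monic.ne_zero, M.charpoly_natDegree]
  refine ⟨φ, fun v => ?_, hall⟩
  have key : (φ : V →ₗ[K] W) ∘ₗ M = N ∘ₗ (φ : V →ₗ[K] W) := b.ext fun i => by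
    have e1 : b i = aeval M (X ^ i.val : K[X]) e := by simp [b]
    have e2 : M (b i) = aeval M (X ^ (i.val + 1) : K[X]) e := by
      rw [e1, map_pow, map_pow, aeval_X, pow_succ' M, Module.End.mul_apply]
    show φ (M (b i)) = N (φ (b i))
    rw [e2, e1, hall, hall, map_pow, map_pow, aeval_X, pow_succ' N, Module.End.mul_apply]
  exact LinearMap.congr_fun key v

theorem cj_of_cyc {M : End K V} {N : End K W} (h : IsCyc M) (h' : IsCyc N)
    (hc : M.charpoly = N.charpoly) : Cj M N := by
  obtain ⟨e, he⟩ := h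
  obtain ⟨e', he'⟩ := h'
  obtain ⟨φ, hφ, -⟩ := cj_of_gen he he' hc
  exact ⟨φ, hφ⟩

/-- A rank one change along a cyclic vector reaches every characteristic polynomial. -/
theorem exists_rho {M : End K V} {e : V} (he : Gen M e) {f : K[X]} (hf : f.Monic)
    (hdeg : f.natDegree = finrank K V) :
    ∃ ρ : V →ₗ[K] K, Gen (M + ρ.smulRight e) e ∧ (M + ρ.smulRight e).charpoly = f := by
  set n := finrank K V with hn
  rcases Nat.eq_zero_or_pos n with h0 | h0
  · refine ⟨0, by simpa using he, ?_⟩
    rw [hf.natDegree_eq_zero.1 (by omega)]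
    simpa using M.charpoly_monic.natDegree_eq_zero.1 (by rw [M.charpoly_natDegree]; omega)
  let q : ℕ → V := fun j => Nat.rec e (fun j v => M v + f.coeff (n - 1 - j) • e) j
  have hq0 : q 0 = e := rfl
  have hqs : ∀ j, q (j + 1) = M (q j) + f.coeff (n - 1 - j) • e := fun j => rfl
  have hqspan : Submodule.span K (Set.range fun j : Fin n => q j) = ⊤ := by
    refine eq_top_iff.2 (he.span_pow.ge.trans (Submodule.span_le.2 ?_))
    rintro _ ⟨i, rfl⟩
    exact pow_mem_span_seq M e q (fun j => f.coeff (n - 1 - j)) hq0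
      (fun j _ => by rw [hqs, add_sub_cancel_right]) i i.isLt
  obtain ⟨c, hc⟩ := (Submodule.mem_span_range_iff_exists_fun K).1
    (hqspan ▸ Submodule.mem_top : -q n ∈ Submodule.span K (Set.range fun j : Fin n => q j))
  let a : ℕ → K := fun i => if h : n - 1 - i < n then c ⟨n - 1 - i, h⟩ else 0
  have ha : ∑ i ∈ Finset.range n, a i • q (n - 1 - i) = -q n := by
    rw [← Finset.sum_range_reflect, ← hc,
      ← Fin.sum_univ_eq_sum_range (fun j => a (n - 1 - j) • q (n - 1 - (n - 1 - j))) n]
    refine Finset.sum_congr rfl fun j _ => ?_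
    have hj := j.isLt
    have e1 : n - 1 - (n - 1 - j.val) = j.val := by omega
    simp only [a, e1, dif_pos hj]
  let p : ℕ → V := fun i => Nat.rec e (fun i v => M v + a i • e) i
  have hp0 : p 0 = e := rfl
  have hps : ∀ i, p (i + 1) = M (p i) + a i • e := fun i => rfl
  have hpspan : Submodule.span K (Set.range fun j : Fin n => p j) = ⊤ := by
    refine eq_top_iff.2 (he.span_pow.ge.trans (Submodule.span_le.2 ?_))
    rintro _ ⟨i, rfl⟩
    exact pow_mem_span_seq M e p a hp0 (fun j _ => by rw [hps, add_sub_cancel_right]) i i.isLt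
  let b := Basis.mk (linearIndependent_of_top_le_span_of_card_eq_finrank hpspan.ge
    (Fintype.card_fin n)) hpspan.ge
  let ρ : V →ₗ[K] K := b.constr K fun i => a i.val
  have hρ : ∀ i, i < n → ρ (p i) = a i := fun i hi => by
    rw [← show b ⟨i, hi⟩ = p i from Basis.mk_apply _ _ _, Basis.constr_basis]
  have hpow : ∀ i ≤ n, ((M + ρ.smulRight e) ^ i) e = p i := by
    intro i
    induction i with
    | zero => intro _; rfl
    | succ i ih =>
      intro hi
      rw [pow_succ', Module.End.mul_apply, ih (by omega), LinearMap.add_apply,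
        LinearMap.smulRight_apply, hρ i (by omega), hps]
  have hgen : Gen (M + ρ.smulRight e) e := gen_of_span (n := n) (by
    rw [← hpspan]
    exact congrArg (fun g => Submodule.span K (Set.range g)) (funext fun i => hpow i i.isLt.le))
  have hS : ∀ j ≤ n, ∑ k ∈ Finset.range (j + 1), f.coeff (n - j + k) • p k =
      q j + ∑ i ∈ Finset.range j, a i • q (j - 1 - i) := by
    intro j
    induction j with
    | zero =>
      intro _
      simp [hp0, hq0, ← hdeg, hf.coeff_natDegree]
    | succ j ih =>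
      intro hj
      have h1 := congrArg M (ih (by omega))
      simp only [map_add, map_sum, map_smul] at h1
      have h2 : ∀ k, f.coeff (n - (j + 1) + (k + 1)) • p (k + 1) =
          f.coeff (n - j + k) • M (p k) + (f.coeff (n - j + k) * a k) • e := fun k => by
        rw [hps, smul_add, smul_smul, show n - (j + 1) + (k + 1) = n - j + k by omega]
      have h3 : ∀ i ∈ Finset.range j, a i • M (q (j - 1 - i)) =
          a i • q (j - i) - (f.coeff (n - j + i) * a i) • e := fun i hi => by
        have := Finset.mem_range.1 hi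
        rw [show j - i = j - 1 - i + 1 by omega, hqs, smul_add, smul_smul,
          show n - 1 - (j - 1 - i) = n - j + i by omega, mul_comm (a i), add_sub_cancel_right]
      rw [Finset.sum_congr rfl h3, Finset.sum_sub_distrib] at h1
      rw [Finset.sum_range_succ' _ (j + 1), Finset.sum_congr rfl (fun k _ => h2 k),
        Finset.sum_add_distrib, h1, hqs, hp0, show n - (j + 1) + 0 = n - 1 - j by omega,
        Finset.sum_range_succ (fun k => (f.coeff (n - j + k) * a k) • e) j,
        show n - j + j = n by omega, show f.coeff n = 1 by rw [← hdeg]; exact hf.coeff_natDegree,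
        Finset.sum_range_succ (fun i => a i • q (j + 1 - 1 - i)) j,
        show j + 1 - 1 - j = 0 by omega, hq0, one_mul]
      simp only [Nat.add_sub_cancel]
      abel
  refine ⟨ρ, hgen, hgen.charpoly_eq hf hdeg ?_⟩
  rw [aeval_eq_sum_range, hdeg, LinearMap.sum_apply]
  simp only [LinearMap.smul_apply]
  rw [Finset.sum_congr rfl fun k hk => by
    rw [hpow k (Nat.lt_succ_iff.1 (Finset.mem_range.1 hk))]]
  have := hS n le_rfl
  simp only [Nat.sub_self, zero_add] at this
  rw [this, ha, add_neg_cancel]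

/-! ### Split maps -/

/-- The characteristic polynomial splits with roots `ts`. -/
def Split (M : End K V) (ts : List K) : Prop :=
  M.charpoly = (ts.map fun t => X - C t).prod

theorem exists_left_eigen (M : End K V) {S : Submodule K V} (hS : ∀ x ∈ S, M x ∈ S) :
    ∀ (ts : List K) (l : V →ₗ[K] K), l ≠ 0 → (∀ x ∈ S, l x = 0) →
      l ∘ₗ aeval M (ts.map fun t => X - C t).prod = 0 →
      ∃ t ∈ ts, ∃ l' : V →ₗ[K] K, l' ≠ 0 ∧ (∀ x ∈ S, l' x = 0) ∧ l' ∘ₗ M = t • l' := by
  intro ts
  induction ts with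
  | nil =>
    intro l hl _ h
    exact absurd (LinearMap.ext fun x => by simpa using LinearMap.congr_fun h x) hl
  | cons t ts ih =>
    intro l hl hlS h
    rcases eq_or_ne (l ∘ₗ M - t • l) 0 with h0 | h0
    · exact ⟨t, List.mem_cons_self .., l, hl, hlS, sub_eq_zero.1 h0⟩
    obtain ⟨t', ht', hex⟩ := ih (l ∘ₗ M - t • l) h0
      (fun x hx => by simp [hlS x hx, hlS _ (hS x hx)]) (by
        refine LinearMap.ext fun x => ?_
        have h1 := LinearMap.congr_fun h x
        simpa [Algebra.algebraMap_eq_smul_one] using h1)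
    exact ⟨t', List.mem_cons_of_mem _ ht', hex⟩

/-- A left eigenvector space is at most a line. -/
def LeftLine (M : End K V) (t : K) : Prop :=
  ∀ l l' : V →ₗ[K] K, l ≠ 0 → l ∘ₗ M = t • l → l' ∘ₗ M = t • l' → ∃ a : K, l' = a • l

theorem IsCyc.leftLine {M : End K V} (h : IsCyc M) (t : K) : LeftLine M t := by
  obtain ⟨e, he⟩ := h
  have key : ∀ l : V →ₗ[K] K, l ∘ₗ M = t • l → l e = 0 → l = 0 := fun l hl hle => by
    refine LinearMap.ker_eq_top.1 (he _ hle fun x hx => ?_)
    have := LinearMap.congr_fun hl x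
    rw [LinearMap.comp_apply, LinearMap.smul_apply, LinearMap.mem_ker.1 hx, smul_zero] at this
    exact this
  intro l l' hl0 hl hl'
  have hle : l e ≠ 0 := fun h0 => hl0 (key l hl h0)
  refine ⟨l' e / l e, sub_eq_zero.1 (key _ ?_ ?_)⟩
  · rw [LinearMap.sub_comp, LinearMap.smul_comp, hl, hl', smul_sub, smul_comm t]
  · simp [div_mul_cancel₀ _ hle]

variable [Fintype K]

theorem isCyc_of_leftLine {M : End K V} {ts : List K} (hsp : Split M ts)
    (hts : ∀ t ∈ ts, t ≠ 0) (hline : ∀ t ∈ ts, LeftLine M t) : IsCyc M := by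
  classical
  let l : K → (V →ₗ[K] K) := fun t =>
    if h : ∃ l : V →ₗ[K] K, l ≠ 0 ∧ l ∘ₗ M = t • l then h.choose else 0
  let T : Finset K := ts.toFinset.filter fun t => l t ≠ 0
  have hT : T.card < Fintype.card K := by
    refine Finset.card_lt_univ_of_notMem (x := (0 : K)) ?_
    simp only [T, Finset.mem_filter, List.mem_toFinset, not_and]
    exact fun h => absurd rfl (hts 0 h)
  obtain ⟨e, he⟩ := exists_avoid T hT l (fun _ => 0) fun t ht => (Finset.mem_filter.1 ht).2
  refine ⟨e, fun S heS hS => ?_⟩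
  by_contra hne
  obtain ⟨x, -, hx⟩ := SetLike.exists_of_lt (lt_top_iff_ne_top.2 hne)
  obtain ⟨l₀, hl₀, hl₀S⟩ := CfsgLib.TwoJordan.exists_dual_one hx
  obtain ⟨t, ht, l', hl'0, hl'S, hl'⟩ := exists_left_eigen M hS ts l₀ (fun h => by simp [h] at hl₀)
    hl₀S (by rw [← hsp, LinearMap.aeval_self_charpoly, LinearMap.comp_zero])
  have hex : ∃ l : V →ₗ[K] K, l ≠ 0 ∧ l ∘ₗ M = t • l := ⟨l', hl'0, hl'⟩
  have hlt : l t = hex.choose := dif_pos hex
  obtain ⟨a, ha⟩ := hline t ht l' (l t) hl'0 hl' (hlt ▸ hex.choose_spec.2)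
  refine he t (Finset.mem_filter.2 ⟨List.mem_toFinset.2 ht, hlt ▸ hex.choose_spec.1⟩) ?_
  rw [ha, LinearMap.smul_apply, hl'S e heS, smul_zero]

/-! ### Block triangular maps -/

theorem charpoly_upper (a : End K V) (r : W →ₗ[K] V) (b : End K W) :
    (CfsgLib.SLComm.upper a r b).charpoly = a.charpoly * b.charpoly := by
  classical
  let bv := Free.chooseBasis K V
  let bw := Free.chooseBasis K W
  have hM : LinearMap.toMatrix (bv.prod bw) (bv.prod bw) (CfsgLib.SLComm.upper a r b) =
      Matrix.fromBlocks (LinearMap.toMatrix bv bv a) (LinearMap.toMatrix bw bv r) 0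
        (LinearMap.toMatrix bw bw b) := by
    ext (i | i) (j | j) <;> simp [LinearMap.toMatrix_apply]
  rw [← LinearMap.charpoly_toMatrix _ (bv.prod bw), hM, Matrix.charpoly_fromBlocks_zero₂₁,
    LinearMap.charpoly_toMatrix, LinearMap.charpoly_toMatrix]

theorem charpoly_lower (a : End K V) (r : V →ₗ[K] W) (b : End K W) :
    (CfsgLib.SLComm.lower a r b).charpoly = a.charpoly * b.charpoly := by
  classical
  let bv := Free.chooseBasis K V
  let bw := Free.chooseBasis K W
  have hM : LinearMap.toMatrix (bv.prod bw) (bv.prod bw) (CfsgLib.SLComm.lower a r b) =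
      Matrix.fromBlocks (LinearMap.toMatrix bv bv a) 0 (LinearMap.toMatrix bv bw r)
        (LinearMap.toMatrix bw bw b) := by
    ext (i | i) (j | j) <;> simp [LinearMap.toMatrix_apply]
  rw [← LinearMap.charpoly_toMatrix _ (bv.prod bw), hM, Matrix.charpoly_fromBlocks_zero₁₂,
    LinearMap.charpoly_toMatrix, LinearMap.charpoly_toMatrix]

/-- An upper triangular gluing with one dimensional left eigenspaces. -/
theorem leftLine_upper {a : End K V} {r : W →ₗ[K] V} {b : End K W} {t : K}
    (ha : LeftLine a t) (hb : LeftLine b t)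
    (hlink : ∀ l : V →ₗ[K] K, l ≠ 0 → l ∘ₗ a = t • l →
      (∀ l₂ : W →ₗ[K] K, l₂ ≠ 0 → l₂ ∘ₗ b ≠ t • l₂) ∨ ∃ w, b w = t • w ∧ l (r w) ≠ 0) :
    LeftLine (CfsgLib.SLComm.upper a r b) t := by
  have split : ∀ L : V × W →ₗ[K] K, L ∘ₗ CfsgLib.SLComm.upper a r b = t • L →
      (L ∘ₗ LinearMap.inl K V W) ∘ₗ a = t • (L ∘ₗ LinearMap.inl K V W) ∧
      ∀ w, L (r w, b w) = t • L (0, w) := fun L hL => by
    refine ⟨LinearMap.ext fun v => ?_, fun w => ?_⟩
    · simpa using LinearMap.congr_fun hL (v, 0)
    · simpa using LinearMap.congr_fun hL (0, w)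
  have decomp : ∀ (L : V × W →ₗ[K] K) v w, L (v, w) = L (v, 0) + L (0, w) := fun L v w => by
    rw [← map_add]; simp
  by_cases hgood : ∀ l₂ : W →ₗ[K] K, l₂ ∘ₗ b = t • l₂ → l₂ = 0
  · -- the second block has no such eigenvector
    intro L L' hL0 hL hL'
    obtain ⟨h1, h2⟩ := split L hL
    obtain ⟨h1', h2'⟩ := split L' hL'
    have hne : L ∘ₗ LinearMap.inl K V W ≠ 0 := by
      intro h0
      have hv : ∀ v, L (v, 0) = 0 := fun v => LinearMap.congr_fun h0 v
      have h3 := hgood (L ∘ₗ LinearMap.inr K V W) (LinearMap.ext fun w => by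
        have := h2 w
        rw [decomp, hv, zero_add] at this
        simpa using this)
      refine hL0 (LinearMap.ext fun p => ?_)
      rw [decomp L p.1 p.2, hv]
      simpa using LinearMap.congr_fun h3 p.2
    obtain ⟨c, hc⟩ := ha _ _ hne h1 h1'
    have hcv : ∀ v, L' (v, 0) = c * L (v, 0) := fun v => by simpa using LinearMap.congr_fun hc v
    have h3 := hgood ((L' - c • L) ∘ₗ LinearMap.inr K V W) (LinearMap.ext fun w => by
      have e1 := h2 w
      have e2 := h2' w
      rw [decomp] at e1 e2
      rw [hcv] at e2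
      simp only [smul_eq_mul] at e1 e2
      simp only [LinearMap.comp_apply, LinearMap.inr_apply, LinearMap.sub_apply,
        LinearMap.smul_apply, smul_eq_mul]
      linear_combination e2 - c * e1)
    refine ⟨c, LinearMap.ext fun p => ?_⟩
    rw [decomp L' p.1 p.2, hcv, LinearMap.smul_apply, decomp L p.1 p.2, smul_eq_mul, mul_add]
    have := LinearMap.congr_fun h3 p.2
    simp only [LinearMap.comp_apply, LinearMap.inr_apply, LinearMap.sub_apply,
      LinearMap.smul_apply, smul_eq_mul, LinearMap.zero_apply, sub_eq_zero] at this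
    rw [this]
  · push Not at hgood
    obtain ⟨l₂, hl₂, hl₂0⟩ := hgood
    have hzero : ∀ L : V × W →ₗ[K] K, L ∘ₗ CfsgLib.SLComm.upper a r b = t • L →
        ∀ v, L (v, 0) = 0 := by
      intro L hL
      obtain ⟨h1, h2⟩ := split L hL
      by_contra hv
      push Not at hv
      obtain ⟨v, hv⟩ := hv
      have hne : L ∘ₗ LinearMap.inl K V W ≠ 0 := fun h0 => hv (LinearMap.congr_fun h0 v)
      rcases hlink _ hne h1 with h | ⟨w, hw, hrw⟩
      · exact h l₂ hl₂0 hl₂
      · have h3 := h2 w
        rw [decomp, hw, show ((0 : V), t • w) = t • ((0 : V), w) by simp, map_smul] at h3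
        refine hrw ?_
        simpa using h3
    intro L L' hL0 hL hL'
    have e : ∀ (M : V × W →ₗ[K] K), M ∘ₗ CfsgLib.SLComm.upper a r b = t • M →
        (M ∘ₗ LinearMap.inr K V W) ∘ₗ b = t • (M ∘ₗ LinearMap.inr K V W) := fun M hM =>
      LinearMap.ext fun w => by
        have := (split M hM).2 w
        rw [decomp, hzero M hM, zero_add] at this
        simpa using this
    have hne : L ∘ₗ LinearMap.inr K V W ≠ 0 := fun h0 => hL0 (LinearMap.ext fun p => by
      rw [decomp L p.1 p.2, hzero L hL]
      simpa using LinearMap.congr_fun h0 p.2)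
    obtain ⟨c, hc⟩ := hb _ _ hne (e L hL) (e L' hL')
    refine ⟨c, LinearMap.ext fun p => ?_⟩
    rw [decomp L' p.1 p.2, hzero L' hL', LinearMap.smul_apply, decomp L p.1 p.2, hzero L hL]
    simpa using LinearMap.congr_fun hc p.2

end CfsgLib.SLCover
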