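import Cfsg.Agent.Lib.SLCover.Mul

/-!
# Products of a cyclic and a split cyclic class in dimensions at most four
-/

set_option autoImplicit false
set_option linter.unusedSectionVars false

namespace CfsgLib.SLCover

open Module Polynomial

universe u

variable {K : Type u} [Field K] [Fintype K]
variable {V W : Type u} [AddCommGroup V] [Module K V] [AddCommGroup W] [Module K W]
  [FiniteDimensional K V] [FiniteDimensional K W]

/-- A cyclic map is a product of a cyclic class and a split cyclic class with a simple root. -/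
theorem cyc_mul {g : End K V} (hg : IsCyc g) {x : End K W} {m : ℕ} (hn : finrank K V = m + 2)
    (hW : finrank K W = m + 2) (hx : IsCyc x) (hgd : LinearMap.det g ≠ 0) {h : End K W}
    (hh : IsCyc h) (β₁ : K) (β : Fin (m + 1) → K) (hsplit : Split h (β₁ :: List.ofFn β))
    (hβ₁ : β₁ ≠ 0) (hβ : ∀ l, β l ≠ 0) (hne : ∀ l, β l ≠ β₁)
    (hdet : LinearMap.det g = LinearMap.det x * LinearMap.det h)
    (hhd : LinearMap.det h = β₁ * ∏ l, β l) :
    ∃ y h' : End K V, Cj x y ∧ Cj h h' ∧ g = y * h' := by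
  have hxd : LinearMap.det x ≠ 0 := fun h0 => hgd (by rw [hdet, h0, zero_mul])
  obtain ⟨gi, hgi1, hgi2, hgid⟩ := exists_inv hgd
  obtain ⟨xi, hxi1, hxi2, hxid⟩ := exists_inv hxd
  obtain ⟨e, he⟩ := hg.inv hgi1
  have hh0 : LinearMap.det h ≠ 0 := fun h0 => hgd (by rw [hdet, h0, mul_zero])
  obtain ⟨B, -, hB, hBsp, hgen, hchar, -, -, -⟩ := hess he hn xi hW β₁ β hβ₁ hβ hne
    (by rw [hgid]; exact inv_ne_zero hgd)
    (by rw [hxid, hgid, hdet, ← hhd, _root_.mul_inv_rev, mul_inv_cancel_left₀ hh0])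
  have hY : Cj xi (B * gi) := cj_of_cyc (hx.inv hxi1) ⟨e, hgen⟩ hchar.symm
  have hYd : LinearMap.det (B * gi) ≠ 0 := by
    rw [hY.det_eq, hxid]; exact inv_ne_zero hxd
  obtain ⟨Yi, hYi1, hYi2, -⟩ := exists_inv hYd
  refine ⟨Yi, B, ?_, cj_of_cyc hh hB (hsplit.trans hBsp.symm), ?_⟩
  · obtain ⟨φ, hφ⟩ := hY
    refine ⟨φ, fun w => ?_⟩
    have h1 := hφ (x w)
    rw [show xi (x w) = w from LinearMap.congr_fun hxi1 w] at h1
    rw [h1, ← Module.End.mul_apply, hYi1, Module.End.one_apply]
  · calc g = (Yi * (B * gi)) * g := by rw [hYi1, one_mul]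
      _ = Yi * B := by rw [mul_assoc, mul_assoc, hgi1, mul_one]

/-- A change of the first row keeps the class when the first eigenvalue is simple. -/
theorem perturb {G B₀ : End K V} {e : V} {β₁ : K} (hβ₁ : β₁ ≠ 0) (hBe : B₀ e = β₁ • e)
    (hinj : ∀ l : V →ₗ[K] K, l e = 0 → l ∘ₗ B₀ = β₁ • l → l = 0)
    (hgen : Gen (B₀ * G) e) (hBd : LinearMap.det B₀ ≠ 0) (hGd : LinearMap.det G ≠ 0)
    (x : End K W) (hW : finrank K W = finrank K V)
    (hdet : LinearMap.det x = LinearMap.det B₀ * LinearMap.det G) {e₀ : V} (he0 : e₀ ≠ 0) :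
    ∃ B : End K V, Cj B₀ B ∧ Gen (B * G) e ∧ (B * G).charpoly = x.charpoly ∧ B e = β₁ • e := by
  obtain ⟨ρ, hgen', hchar⟩ := exists_rho hgen x.charpoly_monic (by rw [x.charpoly_natDegree, hW])
  obtain ⟨Gi, hGi1, hGi2, -⟩ := exists_inv hGd
  set r : V →ₗ[K] K := ρ ∘ₗ Gi with hr
  have hBG : (B₀ + r.smulRight e) * G = B₀ * G + ρ.smulRight e := LinearMap.ext fun v => by
    have h1 : Gi (G v) = v := LinearMap.congr_fun hGi1 v
    simp [hr, h1]
  have hre : r e = 0 := by
    have h1 : B₀ + r.smulRight e = B₀ * LinearMap.transvection (β₁⁻¹ • r) e :=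
      LinearMap.ext fun v => by
        simp [LinearMap.transvection.apply, hBe, smul_smul, mul_comm, hβ₁]
    have h2 : LinearMap.det ((B₀ + r.smulRight e) * G) = LinearMap.det x := by
      rw [hBG, LinearMap.det_eq_sign_charpoly_coeff, hchar, LinearMap.det_eq_sign_charpoly_coeff x,
        hW]
    rw [h1, map_mul, map_mul, LinearMap.transvection.det, hdet] at h2
    have h3 := mul_right_cancel₀ hGd h2
    rw [mul_right_eq_self₀, or_iff_left hBd, add_eq_left, LinearMap.smul_apply, smul_eq_mul,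
      mul_eq_zero, or_iff_right (inv_ne_zero hβ₁)] at h3
    exact h3
  obtain ⟨φ, hφe, hφ⟩ : ∃ φ : V →ₗ[K] K, φ e = 0 ∧ φ ∘ₗ B₀ - β₁ • φ = r := by
    have he : e ≠ 0 := by
      rintro rfl
      have h1 := hgen ⊥ (Submodule.zero_mem _) fun v hv => by simp [(Submodule.mem_bot K).1 hv]
      have hV : ∀ v : V, v = 0 := fun v =>
        (Submodule.mem_bot K).1 (h1.symm ▸ Submodule.mem_top : v ∈ (⊥ : Submodule K V))
      have : Subsingleton V := ⟨fun a b => by rw [hV a, hV b]⟩
      exact he0 (hV e₀)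
    obtain ⟨ξ, hξ, -⟩ := CfsgLib.TwoJordan.exists_dual_one (p := (⊥ : Submodule K V)) (x := e)
      (by simpa using he)
    let T : (V →ₗ[K] K) →ₗ[K] (V →ₗ[K] K) :=
      LinearMap.lcomp K K B₀ - β₁ • LinearMap.id + (LinearMap.applyₗ e).smulRight ξ
    have hT : ∀ φ : V →ₗ[K] K, T φ = φ ∘ₗ B₀ - β₁ • φ + φ e • ξ := fun φ => rfl
    have hTe : ∀ φ : V →ₗ[K] K, T φ e = φ e := fun φ => by
      rw [hT]; simp [hBe, hξ]
    have hTi : Function.Injective T := by
      refine (injective_iff_map_eq_zero T).2 fun φ hφ => ?_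
      have h0 : φ e = 0 := by rw [← hTe, hφ, LinearMap.zero_apply]
      refine hinj φ h0 (sub_eq_zero.1 ?_)
      rw [hT, h0, zero_smul, add_zero] at hφ
      exact hφ
    obtain ⟨φ, hφ⟩ := LinearMap.surjective_of_injective hTi r
    have h0 : φ e = 0 := by rw [← hTe, hφ, hre]
    refine ⟨φ, h0, ?_⟩
    rw [hT, h0, zero_smul, add_zero] at hφ
    exact hφ
  refine ⟨B₀ + r.smulRight e, ⟨LinearEquiv.transvection hφe, fun v => ?_⟩, hBG ▸ hgen', hBG ▸ hchar,
    by simp [hBe, hre]⟩
  rw [LinearEquiv.transvection.apply, LinearEquiv.transvection.apply]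
  simp [hBe, hφe, hre, ← hφ]
  module

/-- The bidiagonal map in a basis of `V`, without link to the first vector. -/
theorem bidiag {m : ℕ} (b : Basis (Fin (m + 2)) K V) (β₁ : K) (β : Fin (m + 1) → K) (u : K)
    (hu : u ≠ 0) (hβ₁ : β₁ ≠ 0) (hβ : ∀ l, β l ≠ 0) (hne : ∀ l, β l ≠ β₁) :
    ∃ B : End K V, IsCyc B ∧ Split B (β₁ :: List.ofFn β) ∧ B (b 0) = β₁ • b 0 ∧
      (∀ j, B (b j.succ) = β j • b j.succ + if j = 0 then 0 else u • b j.castSucc) ∧
      LinearMap.det B = β₁ * ∏ l, β l ∧
      ∀ l : V →ₗ[K] K, l (b 0) = 0 → l ∘ₗ B = β₁ • l → l = 0 := by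
  classical
  let B : End K V := b.constr K fun i =>
    Fin.cases (β₁ • b 0) (fun j => β j • b j.succ + if j = 0 then 0 else u • b j.castSucc) i
  have hB0 : B (b 0) = β₁ • b 0 := by simp [B]
  have hBs : ∀ j : Fin (m + 1), B (b j.succ) =
      β j • b j.succ + if j = 0 then 0 else u • b j.castSucc := fun j => by simp [B]
  let M := LinearMap.toMatrix b b B
  have hM : ∀ i j, M i j = b.repr (B (b j)) i := fun i j => LinearMap.toMatrix_apply ..
  have hMtri : M.BlockTriangular id := by
    intro i j hij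
    have hij : j < i := hij
    rw [hM]
    cases j using Fin.cases with
    | zero => simp [hB0, (Fin.pos_iff_ne_zero.1 hij).symm]
    | succ j =>
      have h1 : j.succ ≠ i := hij.ne
      have h2 : j.castSucc ≠ i := ((Fin.castSucc_lt_succ ..).trans hij).ne
      rw [hBs]
      split_ifs <;> simp [h1, h2]
  have hd0 : M 0 0 = β₁ := by rw [hM, hB0]; simp
  have hds : ∀ j : Fin (m + 1), M j.succ j.succ = β j := fun j => by
    rw [hM, hBs]
    split_ifs <;> simp [(Fin.castSucc_lt_succ (i := j)).ne]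
  have hsplit : Split B (β₁ :: List.ofFn β) := by
    rw [Split, ← LinearMap.charpoly_toMatrix B b, Matrix.charpoly_of_upperTriangular M hMtri,
      Fin.prod_univ_succ, List.map_cons, List.prod_cons, hd0, List.map_ofFn, List.prod_ofFn]
    simp [hds, Function.comp_def]
  have hdetB : LinearMap.det B = β₁ * ∏ l, β l := by
    rw [← LinearMap.det_toMatrix b, Matrix.det_of_isUpperTriangular hMtri, Fin.prod_univ_succ]
    show M 0 0 * ∏ j : Fin (m + 1), M j.succ j.succ = _
    simp only [hd0, hds]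
  have eq : ∀ (L : V →ₗ[K] K) (t : K), L ∘ₗ B = t • L → (β₁ - t) * L (b 0) = 0 ∧
      ∀ j : Fin (m + 1), (β j - t) * L (b j.succ) +
        (if j = 0 then 0 else u * L (b j.castSucc)) = 0 := by
    intro L t hL
    refine ⟨?_, fun j => ?_⟩
    · have := LinearMap.congr_fun hL (b 0)
      rw [LinearMap.comp_apply, hB0, map_smul, LinearMap.smul_apply, smul_eq_mul,
        smul_eq_mul] at this
      linear_combination this
    · have := LinearMap.congr_fun hL (b j.succ)
      rw [LinearMap.comp_apply, hBs] at this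
      split_ifs at this ⊢ <;>
        simp only [map_add, map_smul, map_zero, LinearMap.smul_apply, smul_eq_mul, add_zero]
          at this ⊢ <;> linear_combination this
  have key1 : ∀ L : V →ₗ[K] K, L (b 0) = 0 → L ∘ₗ B = β₁ • L → L = 0 := by
    intro L h0 hL
    refine b.ext fun i => ?_
    induction i using Fin.induction with
    | zero => simpa using h0
    | succ j ih =>
      have h1 := (eq L β₁ hL).2 j
      have h2 : (if j = 0 then 0 else u * L (b j.castSucc)) = 0 := by
        split_ifs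
        · rfl
        · rw [show L (b j.castSucc) = 0 by simpa using ih, mul_zero]
      rw [h2, add_zero] at h1
      simpa using (mul_eq_zero.1 h1).resolve_left (sub_ne_zero.2 (hne j))
  have hline : ∀ t, LeftLine B t := by
    intro t l l' hl0 hl hl'
    rcases eq_or_ne t β₁ with rfl | ht
    · have hne' : l (b 0) ≠ 0 := fun h => hl0 (key1 l h hl)
      refine ⟨l' (b 0) / l (b 0), sub_eq_zero.1 (key1 _ (by simp [div_mul_cancel₀ _ hne']) ?_)⟩
      rw [LinearMap.sub_comp, LinearMap.smul_comp, hl, hl', smul_sub, smul_comm t]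
    · have key : ∀ L : V →ₗ[K] K, L ∘ₗ B = t • L → L (b (Fin.last _)) = 0 → L = 0 := by
        intro L hL hlast
        have h0 : L (b 0) = 0 := (mul_eq_zero.1 (eq L t hL).1).resolve_left (sub_ne_zero.2 ht.symm)
        refine b.ext fun i => ?_
        induction i using Fin.reverseInduction with
        | last => simpa using hlast
        | cast j ih =>
          rcases eq_or_ne j 0 with rfl | hj
          · simpa using h0
          have h1 := (eq L t hL).2 j
          rw [if_neg hj, show L (b j.succ) = 0 by simpa using ih, mul_zero, zero_add] at h1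
          simpa using (mul_eq_zero.1 h1).resolve_left hu
      have hne' : l (b (Fin.last _)) ≠ 0 := fun h => hl0 (key l hl h)
      refine ⟨l' (b (Fin.last _)) / l (b (Fin.last _)),
        sub_eq_zero.1 (key _ ?_ (by simp [div_mul_cancel₀ _ hne']))⟩
      rw [LinearMap.sub_comp, LinearMap.smul_comp, hl, hl', smul_sub, smul_comm t]
  refine ⟨B, isCyc_of_leftLine hsplit ?_ fun t _ => hline t, hsplit, hB0, hBs, hdetB, key1⟩
  intro t ht
  rcases List.mem_cons.1 ht with rfl | ht
  · exact hβ₁
  · obtain ⟨l, rfl⟩ := List.mem_ofFn.1 ht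
    exact hβ l

/-- A vector whose plane `⟨v, g v⟩` does not carry `g - s`. -/
theorem exists_good {g : End K V} (hq : 4 ≤ Fintype.card K) (hn : 4 ≤ finrank K V)
    (hP : ¬ Pse g) : ∃ v, (∀ t : K, g v ≠ t • v) ∧
      ∀ s : K, ∃ z, g z - s • z ∉ Submodule.span K ({v, g v} : Set V) := by
  classical
  have hM : ∀ v, finrank K (Submodule.span K ({v, g v} : Set V)) ≤ 2 := fun v => by
    rw [show ({v, g v} : Set V) = (({v, g v} : Finset V) : Set V) by simp]
    exact (finrank_span_finset_le_card _).trans Finset.card_le_two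
  have hR : ∀ (v : V) (s : K), (∀ z, g z - s • z ∈ Submodule.span K ({v, g v} : Set V)) →
      finrank K (LinearMap.range (g - s • 1)) = 2 ∧ v ∈ LinearMap.range (g - s • 1) := by
    intro v s h
    have hle : LinearMap.range (g - s • 1) ≤ Submodule.span K ({v, g v} : Set V) := by
      rintro _ ⟨z, rfl⟩; simpa using h z
    have heq := Submodule.eq_of_le_of_finrank_le hle ((hM v).trans (two_le_rank hP s))
    exact ⟨le_antisymm ((Submodule.finrank_mono hle).trans (hM v)) (two_le_rank hP s),
      heq ▸ Submodule.subset_span (by simp)⟩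
  obtain ⟨v₀, hv₀⟩ := exists_not_eigen (NS.of_not_pse hP)
  by_contra hc
  push Not at hc
  obtain ⟨s₀, hs₀⟩ := hc v₀ hv₀
  obtain ⟨hr0, -⟩ := hR v₀ s₀ hs₀
  have hkey : ∀ t : K, t ≠ s₀ →
      LinearMap.ker (g - t • 1) ≤ LinearMap.range (g - s₀ • 1) := fun t ht v hv => by
    have h1 : g v = t • v := sub_eq_zero.1 (by simpa using LinearMap.mem_ker.1 hv)
    refine ⟨(t - s₀)⁻¹ • v, ?_⟩
    rw [map_smul]
    simp [h1, ← sub_smul, inv_smul_smul₀ (sub_ne_zero.2 ht)]
  have hker : ∀ t : K, finrank K (LinearMap.range (g - t • 1)) +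
      finrank K (LinearMap.ker (g - t • 1)) = finrank K V := fun t =>
    LinearMap.finrank_range_add_finrank_ker _
  -- at most one further scalar has rank two
  let T : Finset K := Finset.univ.filter fun s =>
    s ≠ s₀ ∧ finrank K (LinearMap.range (g - s • 1)) = 2
  have hT : T.card ≤ 1 := by
    refine Finset.card_le_one.2 fun a ha b hb => ?_
    simp only [T, Finset.mem_filter, Finset.mem_univ, true_and] at ha hb
    have heq : ∀ t, t ≠ s₀ → finrank K (LinearMap.range (g - t • 1)) = 2 →
        LinearMap.ker (g - t • 1) = LinearMap.range (g - s₀ • 1) := fun t ht ht2 =>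
      Submodule.eq_of_le_of_finrank_le (hkey t ht) (by have := hker t; omega)
    by_contra hab
    have hbot : LinearMap.range (g - s₀ • 1) = ⊥ := by
      refine eq_bot_iff.2 fun v hv => ?_
      have hka : v ∈ LinearMap.ker (g - a • 1) := by rw [heq a ha.1 ha.2]; exact hv
      have h1 : g v = a • v := by simpa [sub_eq_zero] using hka
      have hkb : v ∈ LinearMap.ker (g - b • 1) := by rw [heq b hb.1 hb.2]; exact hv
      have h2 : g v = b • v := by simpa [sub_eq_zero] using hkb
      rw [h1, ← sub_eq_zero, ← sub_smul, smul_eq_zero] at h2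
      simpa using h2.resolve_left (sub_ne_zero.2 hab)
    rw [hbot, finrank_bot] at hr0
    omega
  let p : Option (Option K) → Submodule K V := fun
    | none => LinearMap.ker (g - s₀ • 1)
    | some none => LinearMap.range (g - s₀ • 1)
    | some (some s) => LinearMap.range (g - s • 1)
  have hlt : ∀ S : Submodule K V, finrank K S ≤ 2 → S ≠ ⊤ := fun S hS e => by
    rw [e, finrank_top] at hS; omega
  obtain ⟨v, hv⟩ := exists_avoid_sub (insert none (insert (some none)
      (T.image fun s => some (some s)))) (by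
      have := Finset.card_insert_le none (insert (some none)
        (T.image fun s => (some (some s) : Option (Option K))))
      have := Finset.card_insert_le (some none) (T.image fun s => (some (some s) : Option (Option K)))
      have := Finset.card_image_le (s := T) (f := fun s => (some (some s) : Option (Option K)))
      omega) p (by
      intro i hi
      rcases i with _ | _ | s
      · intro e
        refine NS.of_not_pse hP s₀ (LinearMap.ext fun z => ?_)
        have : z ∈ LinearMap.ker (g - s₀ • 1) := by simp only [p] at e; rw [e]; trivial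
        simpa [sub_eq_zero] using this
      · exact hlt _ hr0.le
      · simp [T] at hi
        exact hlt _ hi.2.le)
  have hve : ∀ t : K, g v ≠ t • v := fun t ht => by
    have hk : v ∈ LinearMap.ker (g - t • 1) := by simp [ht]
    rcases eq_or_ne t s₀ with rfl | h
    · exact hv none (by simp) hk
    · exact hv (some none) (by simp) (hkey t h hk)
  obtain ⟨s, hs⟩ := hc v hve
  obtain ⟨hr, hmem⟩ := hR v s hs
  rcases eq_or_ne s s₀ with rfl | h
  · exact hv (some none) (by simp) hmem
  · exact hv (some (some s)) (by simp [T, h, hr]) hmem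

theorem linIndep_four {v a b c : V} (h1 : v ≠ 0) (h2 : a ∉ (K ∙ v))
    (h3 : b ∉ Submodule.span K ({v, a} : Set V))
    (h4 : c ∉ Submodule.span K ({v, a, b} : Set V)) : LinearIndependent K ![v, a, b, c] := by
  rw [Fintype.linearIndependent_iff]
  intro f hf
  simp [Fin.sum_univ_four] at hf
  have e3 : f 3 = 0 := by
    by_contra h
    refine h4 ?_
    have e : c = -(f 3)⁻¹ • (f 0 • v + f 1 • a + f 2 • b) := by
      rw [eq_neg_of_add_eq_zero_left hf, smul_neg, neg_smul, neg_neg, inv_smul_smul₀ h]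
    rw [e]
    refine Submodule.smul_mem _ _ (Submodule.add_mem _ (Submodule.add_mem _ ?_ ?_) ?_) <;>
      exact Submodule.smul_mem _ _ (Submodule.subset_span (by simp))
  rw [e3, zero_smul, add_zero] at hf
  have e2 : f 2 = 0 := by
    by_contra h
    refine h3 ?_
    have e : b = -(f 2)⁻¹ • (f 0 • v + f 1 • a) := by
      rw [eq_neg_of_add_eq_zero_left hf, smul_neg, neg_smul, neg_neg, inv_smul_smul₀ h]
    rw [e]
    refine Submodule.smul_mem _ _ (Submodule.add_mem _ ?_ ?_) <;>
      exact Submodule.smul_mem _ _ (Submodule.subset_span (by simp))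
  rw [e2, zero_smul, add_zero] at hf
  have e1 : f 1 = 0 := by
    by_contra h
    refine h2 (Submodule.mem_span_singleton.2 ⟨-(f 1)⁻¹ * f 0, ?_⟩)
    rw [mul_smul, eq_neg_of_add_eq_zero_left hf, smul_neg, neg_smul, neg_neg, inv_smul_smul₀ h]
  rw [e1, zero_smul, add_zero] at hf
  have e0 : f 0 = 0 := (smul_eq_zero.1 hf).resolve_right h1
  intro i
  fin_cases i <;> assumption

theorem mul_of_inv_basis {g : End K V} {x : End K W} {h : End K W} (hn : finrank K V = 4)
    (hW : finrank K W = 4) (hx : IsCyc x) (hgd : LinearMap.det g ≠ 0) (hh : IsCyc h)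
    (β₁ : K) (β : Fin 3 → K) (hsplit : Split h (β₁ :: List.ofFn β))
    (hβ₁ : β₁ ≠ 0) (hβ : ∀ l, β l ≠ 0) (hne : ∀ l, β l ≠ β₁)
    (hdet : LinearMap.det g = LinearMap.det x * LinearMap.det h)
    (hhd : LinearMap.det h = β₁ * ∏ l, β l) {gi : End K V} (hgi : gi * g = 1)
    (b : Basis (Fin 4) K V) (u : K) (hu : u ≠ 0)
    (hgen : ∀ B : End K V, B (b 0) = β₁ • b 0 → B (b 1) = β 0 • b 1 →
      B (b 2) = β 1 • b 2 + u • b 1 → B (b 3) = β 2 • b 3 + u • b 2 → Gen (B * gi) (b 0)) :
    ∃ y h' : End K V, Cj x y ∧ Cj h h' ∧ g = y * h' := by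
  obtain ⟨B₀, hB₀, hBsp, hB0, hBs, hBd, hkey⟩ := bidiag (m := 2) b β₁ β u hu hβ₁ hβ hne
  have hxd : LinearMap.det x ≠ 0 := fun h0 => hgd (by rw [hdet, h0, zero_mul])
  have hh0 : LinearMap.det h ≠ 0 := fun h0 => hgd (by rw [hdet, h0, mul_zero])
  obtain ⟨xi, hxi1, hxi2, hxid⟩ := exists_inv hxd
  have hgid : LinearMap.det gi = (LinearMap.det g)⁻¹ :=
    eq_inv_of_mul_eq_one_left (by rw [← map_mul, hgi, map_one])
  obtain ⟨B, hB, hgenB, hchar, -⟩ := perturb hβ₁ hB0 hkey
    (hgen B₀ hB0 (by simpa using hBs 0) (by simpa using hBs 1)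
      (by simpa using hBs 2))
    (by rw [hBd]; exact mul_ne_zero hβ₁ (Finset.prod_ne_zero_iff.2 fun l _ => hβ l))
    (by rw [hgid]; exact inv_ne_zero hgd) xi (by rw [hW, hn])
    (by rw [hxid, hBd, hgid, hdet, ← hhd, _root_.mul_inv_rev, mul_inv_cancel_left₀ hh0])
    (b.ne_zero 0)
  have hY : Cj xi (B * gi) := cj_of_cyc (hx.inv hxi1) ⟨_, hgenB⟩ hchar.symm
  obtain ⟨Yi, hYi1, hYi2, -⟩ := exists_inv (g := B * gi) (by
    rw [hY.det_eq, hxid]; exact inv_ne_zero hxd)
  refine ⟨Yi, B, ?_, (cj_of_cyc hh hB₀ (hsplit.trans hBsp.symm)).trans hB, ?_⟩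
  · obtain ⟨φ, hφ⟩ := hY
    refine ⟨φ, fun w => ?_⟩
    have h1 := hφ (x w)
    rw [show xi (x w) = w from LinearMap.congr_fun hxi1 w] at h1
    rw [h1, ← Module.End.mul_apply, hYi1, Module.End.one_apply]
  · calc g = (Yi * (B * gi)) * g := by rw [hYi1, one_mul]
      _ = Yi * B := by rw [mul_assoc, mul_assoc, hgi, mul_one]

/-- In dimension four every map which is not a scalar plus rank one is a product of a cyclic class
and a split cyclic class with a simple root. -/
theorem four_mul {g : End K V} (hq : 4 ≤ Fintype.card K) (hn : finrank K V = 4) {x : End K W}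
    (hW : finrank K W = 4) (hx : IsCyc x) (hgd : LinearMap.det g ≠ 0) (hP : ¬ Pse g)
    {h : End K W} (hh : IsCyc h) (β₁ : K) (β : Fin 3 → K)
    (hsplit : Split h (β₁ :: List.ofFn β))
    (hβ₁ : β₁ ≠ 0) (hβ : ∀ l, β l ≠ 0) (hne : ∀ l, β l ≠ β₁)
    (hdet : LinearMap.det g = LinearMap.det x * LinearMap.det h)
    (hhd : LinearMap.det h = β₁ * ∏ l, β l) :
    ∃ y h' : End K V, Cj x y ∧ Cj h h' ∧ g = y * h' := by
  classical
  by_cases hcyc : IsCyc g
  · exact cyc_mul (m := 2) hcyc hn hW hx hgd hh β₁ β hsplit hβ₁ hβ hne hdet hhd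
  obtain ⟨G, hG1, hG2, -⟩ := exists_inv hgd
  have hGnc : ¬ IsCyc G := fun h => hcyc (h.inv hG2)
  have hGP : ¬ Pse G := by
    rintro ⟨s, c, γ, hs⟩
    have hGg : ∀ v, v = s • g v + γ (g v) • c := fun v => by
      conv_lhs => rw [← show G (g v) = v from LinearMap.congr_fun hG1 v]
      rw [hs]
    rcases eq_or_ne s 0 with rfl | hs0
    · have : (⊤ : Submodule K V) ≤ K ∙ c := fun v _ =>
        Submodule.mem_span_singleton.2 ⟨γ (g v), by simpa using (hGg v).symm⟩
      have h1 := Submodule.finrank_mono this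
      rw [finrank_top, hn] at h1
      have h2 : finrank K (K ∙ c) ≤ 1 := (finrank_span_le_card _).trans (by simp)
      omega
    · refine hP ⟨s⁻¹, c, -(s⁻¹ • (γ ∘ₗ g)), fun v => ?_⟩
      have h1 := hGg v
      simp only [LinearMap.neg_apply, LinearMap.smul_apply, LinearMap.comp_apply, smul_eq_mul,
        neg_smul]
      nth_rewrite 2 [h1]
      rw [smul_add, smul_smul, inv_mul_cancel₀ hs0, one_smul, smul_smul]
      abel
  have hfin : ∀ (b : Basis (Fin 4) K V) (u : K), u ≠ 0 →
      (∀ B : End K V, B (b 0) = β₁ • b 0 → B (b 1) = β 0 • b 1 →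
        B (b 2) = β 1 • b 2 + u • b 1 → B (b 3) = β 2 • b 3 + u • b 2 → Gen (B * G) (b 0)) →
      ∃ y h' : End K V, Cj x y ∧ Cj h h' ∧ g = y * h' := fun b u hu hgen =>
    mul_of_inv_basis hn hW hx hgd hh β₁ β hsplit hβ₁ hβ hne hdet hhd hG1 b u hu hgen
  have hfull : ∀ (a : Fin 4 → V), LinearIndependent K a →
      ∃ b : Basis (Fin 4) K V, ∀ i, b i = a i := fun a ha =>
    ⟨basisOfLinearIndependentOfCardEqFinrank ha (by simp [hn]), fun i => by simp⟩
  have htop : ∀ (b : Basis (Fin 4) K V) (S : Submodule K V),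
      (∀ i, b i ∈ S) → S = ⊤ := fun b S hS =>
    eq_top_iff.2 (b.span_eq.ge.trans (Submodule.span_le.2 (by rintro _ ⟨i, rfl⟩; exact hS i)))
  by_cases h3 : ∃ v, G v ∉ (K ∙ v) ∧ G (G v) ∉ Submodule.span K ({v, G v} : Set V)
  · -- a cyclic subspace of dimension three
    obtain ⟨v, hv1, hv2⟩ := h3
    have hv0 : v ≠ 0 := by rintro rfl; simp at hv1
    set S := Submodule.span K ({v, G v, G (G v)} : Set V) with hS
    have hv3 : G (G (G v)) ∈ S := by
      by_contra hv3
      refine hGnc ⟨v, fun T hT hTi => ?_⟩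
      obtain ⟨b, hb⟩ := hfull _ (linIndep_four hv0 hv1 hv2 hv3)
      exact htop b T fun i => by
        rw [hb]; fin_cases i
        · exact hT
        · exact hTi _ hT
        · exact hTi _ (hTi _ hT)
        · exact hTi _ (hTi _ (hTi _ hT))
    obtain ⟨c1, c2, c3, hc⟩ : ∃ c1 c2 c3 : K, c1 • v + c2 • G v + c3 • G (G v) = G (G (G v)) := by
      rw [hS, Submodule.mem_span_triple] at hv3
      exact hv3
    have hmemS : ∀ w ∈ ({v, G v, G (G v)} : Set V), w ∈ S := fun w hw => Submodule.subset_span hw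
    have hSi : ∀ z ∈ S, G z ∈ S := by
      intro z hz
      rw [hS, Submodule.mem_span_triple] at hz
      obtain ⟨a, b, c, rfl⟩ := hz
      rw [map_add, map_add, map_smul, map_smul, map_smul]
      exact S.add_mem (S.add_mem (S.smul_mem _ (hmemS _ (by simp))) (S.smul_mem _ (hmemS _ (by simp))))
        (S.smul_mem _ hv3)
    have hSne : S ≠ ⊤ := fun e => by
      have h1 : finrank K S ≤ 3 := by
        rw [hS, show ({v, G v, G (G v)} : Set V) = (({v, G v, G (G v)} : Finset V) : Set V) by simp]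
        exact (finrank_span_finset_le_card _).trans Finset.card_le_three
      rw [e, finrank_top, hn] at h1
      omega
    obtain ⟨w₀, -, hw₀⟩ := SetLike.exists_of_lt (lt_top_iff_ne_top.2 hSne)
    obtain ⟨s, w, hw, hGw₀⟩ : ∃ (s : K) (w : V), w ∈ S ∧ G w₀ = s • w₀ + w := by
      obtain ⟨φ, hφ, hφS⟩ := CfsgLib.TwoJordan.exists_dual_one hw₀
      obtain ⟨b, hb⟩ := hfull _ (linIndep_four hv0 hv1 hv2 hw₀)
      refine ⟨φ (G w₀), G w₀ - φ (G w₀) • w₀, ?_, by abel⟩
      have h1 := b.sum_repr (G w₀)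
      simp [Fin.sum_univ_four, hb] at h1
      have h2 : φ (G w₀) = b.repr (G w₀) 3 := by
        conv_lhs => rw [← h1]
        simp [hφ, hφS v (hmemS _ (by simp)), hφS _ (hmemS (G v) (by simp)),
          hφS _ (hmemS (G (G v)) (by simp))]
      rw [h2]
      nth_rewrite 1 [← h1]
      rw [add_sub_cancel_right]
      exact S.add_mem (S.add_mem (S.smul_mem _ (hmemS _ (by simp))) (S.smul_mem _ (hmemS _ (by simp))))
        (S.smul_mem _ (hmemS _ (by simp)))
    -- move `w` to a multiple of `v`
    obtain ⟨z, hz, w1, hw1⟩ : ∃ z ∈ S, ∃ w1 : K, (G z - s • z) + w = w1 • v := by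
      set I := S.map (G - s • 1) ⊔ (K ∙ v) with hI
      have hIS : S.map (G - s • 1) ≤ S := by
        rintro _ ⟨z, hz, rfl⟩
        simpa using S.sub_mem (hSi z hz) (S.smul_mem s hz)
      have hGI : ∀ y ∈ S, (G - s • 1) y ∈ I := fun y hy =>
        Submodule.mem_sup_left ⟨y, hy, rfl⟩
      have hvI : v ∈ I := Submodule.mem_sup_right (Submodule.mem_span_singleton_self v)
      have h1 : G v ∈ I := by
        have := I.add_mem (hGI v (hmemS _ (by simp))) (I.smul_mem s hvI)
        simpa using this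
      have h2 : G (G v) ∈ I := by
        have := I.add_mem (hGI (G v) (hmemS _ (by simp))) (I.smul_mem s h1)
        simpa using this
      have hwI : w ∈ I := by
        have hw' := hw
        rw [hS, Submodule.mem_span_triple] at hw'
        obtain ⟨a, b, c, rfl⟩ := hw'
        exact I.add_mem (I.add_mem (I.smul_mem _ hvI) (I.smul_mem _ h1)) (I.smul_mem _ h2)
      obtain ⟨_, ⟨z, hz, rfl⟩, q, hq', hsum⟩ := Submodule.mem_sup.1 hwI
      obtain ⟨c, rfl⟩ := Submodule.mem_span_singleton.1 hq'
      refine ⟨-z, S.neg_mem hz, c, ?_⟩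
      rw [← hsum]
      simp only [map_neg, LinearMap.sub_apply, LinearMap.smul_apply, Module.End.one_apply, smul_neg]
      abel
    set e := w₀ + z with he
    have heS : e ∉ S := fun h => hw₀ ((Submodule.add_mem_iff_left S hz).1 h)
    have hGe : G e = s • e + w1 • v := by
      rw [he, map_add, hGw₀, ← hw1]
      simp only [smul_add]
      abel
    have hw10 : w1 = 0 := by
      by_contra hne1
      refine hGnc ⟨e, fun T hT hTi => ?_⟩
      have hvT : v ∈ T := by
        have := T.sub_mem (hTi _ hT) (T.smul_mem s hT)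
        rw [hGe, add_sub_cancel_left] at this
        exact (Submodule.smul_mem_iff T hne1).1 this
      obtain ⟨b, hb⟩ := hfull _ (linIndep_four hv0 hv1 hv2 heS)
      exact htop b T fun i => by
        rw [hb]; fin_cases i
        · exact hvT
        · exact hTi _ hvT
        · exact hTi _ (hTi _ hvT)
        · exact hT
    rw [hw10, zero_smul, add_zero] at hGe
    have hs0 : s ≠ 0 := by
      rintro rfl
      rw [zero_smul] at hGe
      refine heS ?_
      have : e = 0 := Function.LeftInverse.injective (g := g)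
        (fun v => LinearMap.congr_fun hG2 v) (by rw [hGe, map_zero])
      rw [this]; exact S.zero_mem
    -- values: `G v ↦ β 2`, `e ↦ β 1`, `G² v ↦ β 0`
    obtain ⟨u, hu, hu'⟩ : ∃ u : K, u ≠ 0 ∧
        c3 * (β 2 * β 0 + s * u ^ 2) ≠ s * β 2 * β 1 := by
      rcases eq_or_ne c3 0 with rfl | hc3
      · refine ⟨1, one_ne_zero, ?_⟩
        rw [zero_mul]
        exact (mul_ne_zero (mul_ne_zero hs0 (hβ 2)) (hβ 1)).symm
      obtain ⟨v', hv'⟩ := exists_scalar_avoid ({0, 1, -1} : Finset K)
        (lt_of_le_of_lt Finset.card_le_three (by omega))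
      simp at hv'
      by_cases h1 : c3 * (β 2 * β 0 + s * (1 : K) ^ 2) ≠ s * β 2 * β 1
      · exact ⟨1, one_ne_zero, h1⟩
      push Not at h1
      refine ⟨v', hv'.1, fun h2 => ?_⟩
      rw [← h1] at h2
      have h3 : v' ^ 2 = (1 : K) ^ 2 := mul_left_cancel₀ hs0 (add_left_cancel (mul_left_cancel₀ hc3 h2))
      rcases sq_eq_sq_iff_eq_or_eq_neg.1 h3 with h | h
      · exact hv'.2.1 h
      · exact hv'.2.2 h
    obtain ⟨b₀, hb₀⟩ := hfull _ (linIndep_four hv0 hv1 hv2 heS)
    obtain ⟨b, hb⟩ : ∃ b : Basis (Fin 4) K V, ∀ i, b i = ![v, G (G v), e, G v] i := by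
      refine hfull _ (linearIndependent_of_top_le_span_of_card_eq_finrank ?_ (by simp [hn]))
      refine b₀.span_eq.ge.trans (Submodule.span_le.2 ?_)
      rintro _ ⟨i, rfl⟩
      rw [hb₀]
      fin_cases i
      · exact Submodule.subset_span ⟨0, rfl⟩
      · exact Submodule.subset_span ⟨3, rfl⟩
      · exact Submodule.subset_span ⟨1, rfl⟩
      · exact Submodule.subset_span ⟨2, rfl⟩
    refine hfin b u hu fun B hB0 hB1 hB2 hB3 => ?_
    have e0 : b 0 = v := hb 0
    have e1 : b 1 = G (G v) := hb 1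
    have e2 : b 2 = e := hb 2
    have e3 : b 3 = G v := hb 3
    have hG0 : G (b 0) = b 3 := by rw [e0, e3]
    have hG3 : G (b 3) = b 1 := by rw [e3, e1]
    have hG2' : G (b 2) = s • b 2 := by rw [e2, hGe]
    have hG1' : G (b 1) = c1 • b 0 + c2 • b 3 + c3 • b 1 := by rw [e0, e1, e3, hc]
    intro T hT hTi
    have hm1 : β 2 • b 3 + u • b 2 ∈ T := by
      have := hTi _ hT
      rwa [Module.End.mul_apply, hG0, hB3] at this
    set κ := β 2 * β 0 + s * u ^ 2 with hκ
    have hm2 : κ • b 1 + (u * s * β 1) • b 2 ∈ T := by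
      have := hTi _ hm1
      rw [Module.End.mul_apply, map_add, map_smul, map_smul, hG3, hG2', map_add, map_smul,
        map_smul, map_smul, hB1, hB2] at this
      convert this using 1
      rw [hκ]
      module
    have hm3 : (β 0 * (κ * c3 - s * β 1 * β 2)) • b 1 ∈ T := by
      have h1 := hTi _ hm2
      rw [Module.End.mul_apply, map_add, map_smul, map_smul, hG1', hG2'] at h1
      simp only [map_add, map_smul, hB0, hB1, hB2, hB3] at h1
      have h2 := T.sub_mem (T.sub_mem (T.sub_mem h1 (T.smul_mem (κ * c1 * β₁) hT))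
        (T.smul_mem (κ * c2) hm1)) (T.smul_mem (s * β 1) hm2)
      convert h2 using 1
      rw [hκ]
      module
    have hb1T : b 1 ∈ T := (Submodule.smul_mem_iff T (mul_ne_zero (hβ 0)
      (sub_ne_zero.2 fun h => hu' (by rw [mul_comm c3, h]; ring)))).1 hm3
    have hb2T : b 2 ∈ T := (Submodule.smul_mem_iff T (mul_ne_zero (mul_ne_zero hu hs0) (hβ 1))).1
      ((Submodule.add_mem_iff_right T (T.smul_mem κ hb1T)).1 hm2)
    have hb3T : b 3 ∈ T := (Submodule.smul_mem_iff T (hβ 2)).1
      ((Submodule.add_mem_iff_left T (T.smul_mem u hb2T)).1 hm1)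
    exact htop b T fun i => by fin_cases i <;> assumption
  · push Not at h3
    obtain ⟨v, hv, hgood⟩ := exists_good hq (by omega) hGP
    have hv1 : G v ∉ (K ∙ v) := notMem_span_singleton.2 hv
    have hv0 : v ≠ 0 := by rintro rfl; simp at hv1
    obtain ⟨w, hwM, hGw⟩ : ∃ w, w ∉ Submodule.span K ({v, G v} : Set V) ∧
        G w ∉ Submodule.span K ({v, G v, w} : Set V) := by
      by_contra hc
      push Not at hc
      set M := Submodule.span K ({v, G v} : Set V)
      have hlt : ∀ (t : Finset V), t.card ≤ 3 → Submodule.span K (t : Set V) ≠ ⊤ := fun t ht e => by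
        have := (finrank_span_finset_le_card (R := K) t).trans ht
        rw [Set.finrank, e, finrank_top, hn] at this
        omega
      have hM : M ≠ ⊤ := by
        have := hlt {v, G v} (Finset.card_le_two.trans (by omega))
        simpa [M] using this
      obtain ⟨w, -, hw⟩ := SetLike.exists_of_lt (lt_top_iff_ne_top.2 hM)
      obtain ⟨w', -, hw'⟩ := SetLike.exists_of_lt (lt_top_iff_ne_top.2 (by
        simpa using hlt {v, G v, w} Finset.card_le_three :
          Submodule.span K ({v, G v, w} : Set V) ≠ ⊤))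
      obtain ⟨b, hb⟩ := hfull _ (linIndep_four hv0 hv1 hw hw')
      have hdec : ∀ y ∉ M, ∃ a c s : K, G y = a • v + c • G v + s • y := fun y hy => by
        obtain ⟨a, c, s, h⟩ := Submodule.mem_span_triple.1 (hc y hy)
        exact ⟨a, c, s, h.symm⟩
      obtain ⟨a1, a2, s1, hw1⟩ := hdec w hw
      obtain ⟨a1', a2', s2, hw2⟩ := hdec w' (fun h => hw'
        (Submodule.span_mono (by
          intro y hy; rcases hy with rfl | rfl <;> simp) h))
      have hww : w + w' ∉ M := fun h => hw' (by
        have h1 : M ≤ Submodule.span K ({v, G v, w} : Set V) := Submodule.span_mono (by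
          intro y hy; rcases hy with rfl | rfl <;> simp)
        exact (Submodule.add_mem_iff_right _ (Submodule.subset_span (by simp))).1 (h1 h))
      obtain ⟨d1, d2, s3, hw3⟩ := hdec _ hww
      rw [map_add, hw1, hw2] at hw3
      have hrep : b.repr ((a1 + a1' - d1) • b 0 + (a2 + a2' - d2) • b 1 + (s1 - s3) • b 2 +
          (s2 - s3) • b 3) = 0 := by
        rw [map_eq_zero_iff _ b.repr.injective]
        simp [hb]
        linear_combination (norm := module) hw3
      have hs1 := congrArg (fun f => f 2) hrep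
      have hs2 := congrArg (fun f => f 3) hrep
      simp [sub_eq_zero] at hs1 hs2
      obtain ⟨z, hz⟩ := hgood s1
      refine hz ?_
      have hvM : v ∈ M := Submodule.subset_span (by simp)
      have hGvM : G v ∈ M := Submodule.subset_span (by simp)
      have hG2v : G (G v) ∈ M := h3 v hv1
      suffices ∀ i, G (b i) - s1 • b i ∈ M by
        rw [← b.sum_repr z, map_sum, Finset.smul_sum, ← Finset.sum_sub_distrib]
        refine M.sum_mem fun i _ => ?_
        rw [map_smul, smul_comm s1, ← smul_sub]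
        exact M.smul_mem _ (this i)
      intro i
      rw [hb]
      fin_cases i
      · exact M.sub_mem hGvM (M.smul_mem _ hvM)
      · exact M.sub_mem hG2v (M.smul_mem _ hGvM)
      · show G w - s1 • w ∈ M
        rw [hw1, add_sub_cancel_right]
        exact M.add_mem (M.smul_mem _ hvM) (M.smul_mem _ hGvM)
      · show G w' - s1 • w' ∈ M
        rw [hw2, hs1, ← hs2, add_sub_cancel_right]
        exact M.add_mem (M.smul_mem _ hvM) (M.smul_mem _ hGvM)
    have hw1 : G w ∉ (K ∙ w) := fun h => hGw (Submodule.span_mono (by simp) h)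
    obtain ⟨c1, c2, hc⟩ := Submodule.mem_span_pair.1 (h3 v hv1)
    obtain ⟨d1, d2, hd⟩ := Submodule.mem_span_pair.1 (h3 w hw1)
    have hd1 : d1 ≠ 0 := by
      rintro rfl
      rw [zero_smul, zero_add] at hd
      refine hw1 (Submodule.mem_span_singleton.2 ⟨d2, ?_⟩)
      refine Function.LeftInverse.injective (g := g)
        (fun v => LinearMap.congr_fun hG2 v) ?_
      rw [map_smul, hd]
    obtain ⟨b₀, hb₀⟩ := hfull _ (linIndep_four hv0 hv1 hwM hGw)
    obtain ⟨b, hb⟩ : ∃ b : Basis (Fin 4) K V, ∀ i, b i = ![v, G w, w, G v] i := by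
      refine hfull _ (linearIndependent_of_top_le_span_of_card_eq_finrank ?_ (by simp [hn]))
      refine b₀.span_eq.ge.trans (Submodule.span_le.2 ?_)
      rintro _ ⟨i, rfl⟩
      rw [hb₀]
      fin_cases i
      · exact Submodule.subset_span ⟨0, rfl⟩
      · exact Submodule.subset_span ⟨3, rfl⟩
      · exact Submodule.subset_span ⟨2, rfl⟩
      · exact Submodule.subset_span ⟨1, rfl⟩
    refine hfin b 1 one_ne_zero fun B hB0 hB1 hB2 hB3 => ?_
    have e0 : b 0 = v := hb 0
    have e1 : b 1 = G w := hb 1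
    have e2 : b 2 = w := hb 2
    have e3 : b 3 = G v := hb 3
    have hG0 : G (b 0) = b 3 := by rw [e0, e3]
    have hG3 : G (b 3) = c1 • b 0 + c2 • b 3 := by rw [e3, e0, hc]
    have hG2' : G (b 2) = b 1 := by rw [e2, e1]
    have hG1' : G (b 1) = d1 • b 2 + d2 • b 1 := by rw [e1, e2, hd]
    intro T hT hTi
    have hm1 : β 2 • b 3 + (1 : K) • b 2 ∈ T := by
      have := hTi _ hT
      rwa [Module.End.mul_apply, hG0, hB3] at this
    have hb1T : b 1 ∈ T := by
      have h1 := hTi _ hm1
      rw [Module.End.mul_apply, map_add, map_smul, map_smul, hG3, hG2'] at h1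
      simp only [map_add, map_smul, hB0, hB1, hB3] at h1
      have h2 := T.sub_mem (T.sub_mem h1 (T.smul_mem (β 2 * c1 * β₁) hT))
        (T.smul_mem (β 2 * c2) hm1)
      refine (Submodule.smul_mem_iff T (hβ 0)).1 ?_
      convert h2 using 1
      module
    have hb2T : b 2 ∈ T := by
      have h1 := hTi _ hb1T
      rw [Module.End.mul_apply, hG1'] at h1
      simp only [map_add, map_smul, hB1, hB2] at h1
      have h2 := T.sub_mem h1 (T.smul_mem (d1 + d2 * β 0) hb1T)
      refine (Submodule.smul_mem_iff T (mul_ne_zero hd1 (hβ 1))).1 ?_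
      convert h2 using 1
      module
    have hb3T : b 3 ∈ T := (Submodule.smul_mem_iff T (hβ 2)).1
      ((Submodule.add_mem_iff_left T (T.smul_mem 1 hb2T)).1 hm1)
    exact htop b T fun i => by fin_cases i <;> assumption

end CfsgLib.SLCover
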