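import Cfsg.Agent.Lib.SLCover.Cyclic

/-!
# A split cyclic map times a cyclic map

For a cyclic `G` and any target characteristic polynomial there is an upper triangular cyclic `B`
with prescribed diagonal (first entry simple) such that `B * G` is cyclic with that polynomial.
-/

set_option autoImplicit false
set_option linter.unusedSectionVars false

namespace CfsgLib.SLCover

open Module Polynomial

universe u

variable {K : Type u} [Field K] [Fintype K]
variable {V W : Type u} [AddCommGroup V] [Module K V] [AddCommGroup W] [Module K W]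
  [FiniteDimensional K V] [FiniteDimensional K W]

/-- The determinant of the change of basis in `hess`. -/
def hessT {m : ℕ} (β : Fin (m + 1) → K) : K :=
  ∏ i : Fin (m + 1), ∏ l : Fin (m + 1), if l ≤ i then β l else 1

theorem hessT_eq {m : ℕ} (β : Fin (m + 1) → K) : hessT β = ∏ l, β l ^ (m + 1 - l.val) := by
  rw [hessT, Finset.prod_comm]
  refine Finset.prod_congr rfl fun l _ => ?_
  rw [Finset.prod_ite, Finset.prod_const_one, mul_one, Finset.prod_const]
  congr 1
  rw [show (Finset.univ.filter fun i => l ≤ i) = Finset.Ici l by ext; simp, Fin.card_Ici]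

/-- A basis of powers. -/
noncomputable def powBasis {G : End K V} {e : V} (h : Gen G e) {n : ℕ} (hn : finrank K V = n) :
    Basis (Fin n) K V :=
  (Basis.mk h.linearIndependent h.span_pow.ge).reindex (finCongr hn)

theorem powBasis_apply {G : End K V} {e : V} (h : Gen G e) {n : ℕ} (hn : finrank K V = n)
    (i : Fin n) : powBasis h hn i = (G ^ i.val) e := by
  simp [powBasis]

theorem ne_last_of_le {n : ℕ} {j : Fin n} {l : Fin (n + 1)} (h : l ≤ j.castSucc) :
    l ≠ Fin.last n := fun e => absurd (e ▸ h) (not_le.2 (Fin.castSucc_lt_last j))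

theorem hess {G : End K V} {e : V} (hG : Gen G e) {m : ℕ} (hn : finrank K V = m + 2)
    (x : End K W) (hW : finrank K W = m + 2) (β₁ : K) (β : Fin (m + 1) → K) (hβ₁ : β₁ ≠ 0)
    (hβ : ∀ l, β l ≠ 0) (hne : ∀ l, β l ≠ β₁) (hGdet : LinearMap.det G ≠ 0)
    (hdet : LinearMap.det x = β₁ * (∏ l, β l) * LinearMap.det G) :
    ∃ (B : End K V) (θ : End K V), IsCyc B ∧ Split B (β₁ :: List.ofFn β) ∧ Gen (B * G) e ∧
      (B * G).charpoly = x.charpoly ∧ LinearMap.det θ = hessT β ∧
      (∀ i, i < m + 2 → θ ((G ^ i) e) = ((B * G) ^ i) e) ∧ (B * G) e ∉ (K ∙ e) := by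
  classical
  let b := powBasis hG hn
  have hb : ∀ i : Fin (m + 2), b i = (G ^ i.val) e := powBasis_apply hG hn
  have hb0 : b 0 = e := by rw [hb]; rfl
  let B₀ : End K V := b.constr K fun i =>
    Fin.cases (β₁ • b 0) (fun j => β j • b j.succ + if j = 0 then 0 else b j.castSucc) i
  have hB₀0 : B₀ (b 0) = β₁ • b 0 := by simp [B₀]
  have hB₀s : ∀ j : Fin (m + 1), B₀ (b j.succ) =
      β j • b j.succ + if j = 0 then 0 else b j.castSucc := fun j => by simp [B₀]
  have hGb : ∀ j : Fin (m + 1), G (b j.castSucc) = b j.succ := fun j => by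
    rw [hb, hb, ← Module.End.mul_apply, ← pow_succ']
    rfl
  have hY₀ : ∀ j : Fin (m + 1), (B₀ * G) (b j.castSucc) =
      β j • b j.succ + if j = 0 then 0 else b j.castSucc := fun j => by
    rw [Module.End.mul_apply, hGb, hB₀s]
  have hgen₀ : Gen (B₀ * G) e := by
    intro S he hS
    have hall : ∀ i : Fin (m + 2), b i ∈ S := by
      intro i
      induction i using Fin.induction with
      | zero => rwa [hb0]
      | succ j ih =>
        have h1 := hS _ ih
        rw [hY₀] at h1
        have h2 : (if j = 0 then 0 else b j.castSucc) ∈ S := by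
          split_ifs
          · exact S.zero_mem
          · exact ih
        exact (Submodule.smul_mem_iff S (hβ j)).1 ((Submodule.add_mem_iff_left S h2).1 h1)
    exact eq_top_iff.2 (b.span_eq.ge.trans (Submodule.span_le.2 (by
      rintro _ ⟨i, rfl⟩; exact hall i)))
  obtain ⟨ρ, hgen, hchar⟩ := exists_rho hgen₀ x.charpoly_monic
    (by rw [x.charpoly_natDegree, hW, hn])
  -- the inverse of `G`
  obtain ⟨Gi, hGi⟩ : ∃ Gi : End K V, Gi * G = 1 ∧ G * Gi = 1 := by
    let e' := LinearMap.equivOfDetNeZero G hGdet
    exact ⟨(e'.symm : V →ₗ[K] V), LinearMap.ext fun v => e'.symm_apply_apply v,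
      LinearMap.ext fun v => e'.apply_symm_apply v⟩
  let r : V →ₗ[K] K := ρ ∘ₗ Gi
  let B : End K V := B₀ + r.smulRight e
  have hBG : B * G = B₀ * G + ρ.smulRight e := LinearMap.ext fun v => by
    have h1 : Gi (G v) = v := LinearMap.congr_fun hGi.1 v
    simp [B, r, h1]
  have hBe : ∀ i, B (b i) = B₀ (b i) + r (b i) • b 0 := fun i => by simp [B, hb0]
  -- matrix of `B`
  let M := LinearMap.toMatrix b b B
  have hM : ∀ i j, M i j = b.repr (B (b j)) i := fun i j => LinearMap.toMatrix_apply ..
  have hMtri : M.BlockTriangular id := by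
    intro i j hij
    have hij : j < i := hij
    rw [hM, hBe]
    cases j using Fin.cases with
    | zero => simp [hB₀0, (Fin.pos_iff_ne_zero.1 hij).symm]
    | succ j =>
      have h1 : j.succ ≠ i := hij.ne
      have h2 : j.castSucc ≠ i := ((Fin.castSucc_lt_succ ..).trans hij).ne
      have h3 : (0 : Fin (m + 2)) ≠ i := ((Fin.succ_pos j).trans hij).ne
      rw [hB₀s]
      split_ifs <;> simp [h1, h2, h3]
  have hdiag0 : M 0 0 = β₁ + r (b 0) := by rw [hM, hBe, hB₀0]; simp
  have hdiags : ∀ j : Fin (m + 1), M j.succ j.succ = β j := fun j => by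
    rw [hM, hBe, hB₀s]
    split_ifs <;> simp [(Fin.castSucc_lt_succ (i := j)).ne, (Fin.succ_ne_zero j).symm]
  have hdetB : LinearMap.det B = β₁ * ∏ l, β l := by
    refine mul_right_cancel₀ hGdet ?_
    rw [← map_mul, hBG, ← hdet, LinearMap.det_eq_sign_charpoly_coeff, hchar,
      LinearMap.det_eq_sign_charpoly_coeff x, hn, hW]
  have hr0 : r (b 0) = 0 := by
    have h1 : LinearMap.det B = (β₁ + r (b 0)) * ∏ l, β l := by
      rw [← LinearMap.det_toMatrix b, Matrix.det_of_upperTriangular hMtri, Fin.prod_univ_succ]
      show M 0 0 * ∏ j : Fin (m + 1), M j.succ j.succ = _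
      simp only [hdiag0, hdiags]
    rw [hdetB] at h1
    exact add_eq_left.1 (mul_right_cancel₀ (Finset.prod_ne_zero_iff.2 fun l _ => hβ l) h1).symm
  have hsplit : Split B (β₁ :: List.ofFn β) := by
    rw [Split, ← LinearMap.charpoly_toMatrix B b, Matrix.charpoly_of_upperTriangular M hMtri,
      Fin.prod_univ_succ, List.map_cons, List.prod_cons, hdiag0, hr0, add_zero, List.map_ofFn,
      List.prod_ofFn]
    simp [hdiags, Function.comp_def]
  have hB0 : B (b 0) = β₁ • b 0 := by rw [hBe, hB₀0, hr0, zero_smul, add_zero]
  have hline : ∀ t, LeftLine B t := by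
    intro t l l' hl0 hl hl'
    have eq : ∀ (L : V →ₗ[K] K), L ∘ₗ B = t • L → (β₁ - t) * L (b 0) = 0 ∧
        ∀ j : Fin (m + 1), r (b j.succ) * L (b 0) +
          ((β j - t) * L (b j.succ) + if j = 0 then 0 else L (b j.castSucc)) = 0 := by
      intro L hL
      refine ⟨?_, fun j => ?_⟩
      · have := LinearMap.congr_fun hL (b 0)
        rw [LinearMap.comp_apply, hB0, map_smul, LinearMap.smul_apply, smul_eq_mul,
          smul_eq_mul] at this
        linear_combination this
      · have := LinearMap.congr_fun hL (b j.succ)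
        rw [LinearMap.comp_apply, hBe, hB₀s] at this
        split_ifs at this ⊢ <;>
          simp only [map_add, map_smul, map_zero, LinearMap.smul_apply, smul_eq_mul, add_zero]
            at this ⊢ <;> linear_combination this
    rcases eq_or_ne t β₁ with ht | ht
    · -- determined by the value at `b 0`
      have key : ∀ L : V →ₗ[K] K, L ∘ₗ B = t • L → L (b 0) = 0 → L = 0 := by
        intro L hL h0
        refine b.ext fun i => ?_
        induction i using Fin.induction with
        | zero => simpa using h0
        | succ j ih =>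
          have h1 := (eq L hL).2 j
          have h2 : (if j = 0 then 0 else L (b j.castSucc)) = 0 := by
            split_ifs
            · rfl
            · simpa using ih
          rw [h0, mul_zero, zero_add, h2, add_zero] at h1
          simpa using (mul_eq_zero.1 h1).resolve_left (sub_ne_zero.2 (ht ▸ hne j))
      have hne' : l (b 0) ≠ 0 := fun h => hl0 (key l hl h)
      refine ⟨l' (b 0) / l (b 0), sub_eq_zero.1 (key _ ?_ (by simp [div_mul_cancel₀ _ hne']))⟩
      rw [LinearMap.sub_comp, LinearMap.smul_comp, hl, hl', smul_sub, smul_comm t]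
    · -- determined by the value at the last vector
      have key : ∀ L : V →ₗ[K] K, L ∘ₗ B = t • L → L (b (Fin.last _)) = 0 → L = 0 := by
        intro L hL hlast
        have h0 : L (b 0) = 0 := (mul_eq_zero.1 (eq L hL).1).resolve_left (sub_ne_zero.2 ht.symm)
        refine b.ext fun i => ?_
        induction i using Fin.reverseInduction with
        | last => simpa using hlast
        | cast j ih =>
          rcases eq_or_ne j 0 with rfl | hj
          · simpa using h0
          have h1 := (eq L hL).2 j
          rw [h0, mul_zero, zero_add, if_neg hj] at h1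
          have ih' : L (b j.succ) = 0 := by simpa using ih
          rw [ih', mul_zero, zero_add] at h1
          simpa using h1
      have hne' : l (b (Fin.last _)) ≠ 0 := fun h => hl0 (key l hl h)
      refine ⟨l' (b (Fin.last _)) / l (b (Fin.last _)),
        sub_eq_zero.1 (key _ ?_ (by simp [div_mul_cancel₀ _ hne']))⟩
      rw [LinearMap.sub_comp, LinearMap.smul_comp, hl, hl', smul_sub, smul_comm t]
  have hts : ∀ t ∈ β₁ :: List.ofFn β, t ≠ 0 := by
    intro t ht
    rcases List.mem_cons.1 ht with rfl | ht
    · exact hβ₁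
    · obtain ⟨l, rfl⟩ := List.mem_ofFn.1 ht
      exact hβ l
  -- the change of basis
  let θ : End K V := b.constr K fun i => ((B * G) ^ i.val) e
  have hθ : ∀ i, i < m + 2 → θ ((G ^ i) e) = ((B * G) ^ i) e := fun i hi => by
    rw [← hb ⟨i, hi⟩, Basis.constr_basis]
  have hstep : ∀ j : Fin (m + 1), (B * G) (b j.castSucc) =
      β j • b j.succ + (if j = 0 then 0 else b j.castSucc) + ρ (b j.castSucc) • b 0 := fun j => by
    rw [hBG, LinearMap.add_apply, hY₀, LinearMap.smulRight_apply, hb0]
  -- coordinates of the powers
  let v : Fin (m + 2) → V := fun i => ((B * G) ^ i.val) e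
  have hv : ∀ i, (∀ k, i < k → b.repr (v i) k = 0) ∧
      b.repr (v i) i = ∏ l : Fin (m + 1), if l.castSucc < i then β l else 1 := by
    intro i
    induction i using Fin.induction with
    | zero =>
      refine ⟨fun k hk => ?_, ?_⟩
      · simp [v, ← hb0, (hk).ne]
      · simp [v, ← hb0]
    | succ j ih =>
      have hvs : v j.succ = (B * G) (v j.castSucc) := by
        simp only [v, Fin.val_succ, Fin.val_castSucc, pow_succ', Module.End.mul_apply]
      have hexp : v j.succ = ∑ k : Fin (m + 2), b.repr (v j.castSucc) k • (B * G) (b k) := by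
        conv_lhs => rw [hvs, ← b.sum_repr (v j.castSucc)]
        rw [map_sum]
        simp only [map_smul]
      have hterm : ∀ (k : Fin (m + 1)) (i : Fin (m + 2)), k.succ < i →
          b.repr ((B * G) (b k.castSucc)) i = 0 := fun k i hi => by
        rw [hstep]
        have h1 : k.succ ≠ i := hi.ne
        have h2 : k.castSucc ≠ i := ((Fin.castSucc_lt_succ ..).trans hi).ne
        have h3 : (0 : Fin (m + 2)) ≠ i := ((Fin.succ_pos k).trans hi).ne
        split_ifs <;> simp [h1, h2, h3]
      constructor
      · intro k hk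
        rw [hexp, map_sum, Finsupp.coe_finsetSum, Finset.sum_apply]
        refine Finset.sum_eq_zero fun l _ => ?_
        rw [map_smul, Finsupp.smul_apply, smul_eq_mul]
        rcases lt_or_ge j.castSucc l with hl | hl
        · rw [ih.1 l hl, zero_mul]
        · obtain ⟨l, rfl⟩ : ∃ l' : Fin (m + 1), l'.castSucc = l :=
            Fin.exists_castSucc_eq.2 (ne_last_of_le hl)
          rw [hterm l k (lt_of_le_of_lt (by simpa using hl) hk), mul_zero]
      · rw [hexp, map_sum, Finsupp.coe_finsetSum, Finset.sum_apply, Finset.sum_eq_single j.castSucc]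
        · rw [map_smul, Finsupp.smul_apply, ih.2, hstep, smul_eq_mul]
          have h2 : j.castSucc ≠ j.succ := (Fin.castSucc_lt_succ (i := j)).ne
          have h3 : (0 : Fin (m + 2)) ≠ j.succ := (Fin.succ_ne_zero j).symm
          have e1 : b.repr (β j • b j.succ + (if j = 0 then 0 else b j.castSucc) +
              ρ (b j.castSucc) • b 0) j.succ = β j := by
            split_ifs <;> simp [h2, h3]
          rw [e1, mul_comm, ← Finset.mul_prod_erase Finset.univ
            (fun l : Fin (m + 1) => if l.castSucc < j.succ then β l else 1) (Finset.mem_univ j),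
            if_pos (Fin.castSucc_lt_succ ..)]
          congr 1
          rw [← Finset.mul_prod_erase Finset.univ
            (fun l : Fin (m + 1) => if l.castSucc < j.castSucc then β l else 1) (Finset.mem_univ j),
            if_neg (lt_irrefl _), one_mul]
          refine Finset.prod_congr rfl fun l hl => ?_
          have hlj : l.val ≠ j.val := fun h => (Finset.mem_erase.1 hl).1 (Fin.ext h)
          by_cases h : l.castSucc < j.castSucc
          · rw [if_pos h, if_pos (h.trans (Fin.castSucc_lt_succ ..))]
          · rw [if_neg h, if_neg]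
            simp only [Fin.lt_def, Fin.val_castSucc, Fin.val_succ] at h ⊢
            omega
        · intro l _ hl
          rw [map_smul, Finsupp.smul_apply, smul_eq_mul]
          rcases lt_or_ge j.castSucc l with hl' | hl'
          · rw [ih.1 l hl', zero_mul]
          · obtain ⟨l, rfl⟩ : ∃ l' : Fin (m + 1), l'.castSucc = l :=
              Fin.exists_castSucc_eq.2 (ne_last_of_le hl')
            have : l < j := lt_of_le_of_ne (by simpa using hl') (fun h => hl (by rw [h]))
            rw [hterm l j.succ (Fin.succ_lt_succ_iff.2 this), mul_zero]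
        · exact fun h => absurd (Finset.mem_univ _) h
  have hθdet : LinearMap.det θ = hessT β := by
    have htri : (LinearMap.toMatrix b b θ).BlockTriangular id := by
      intro i j hij
      rw [LinearMap.toMatrix_apply, Basis.constr_basis]
      exact (hv j).1 i hij
    rw [← LinearMap.det_toMatrix b, Matrix.det_of_upperTriangular htri, hessT, Fin.prod_univ_succ]
    simp only [LinearMap.toMatrix_apply, θ, Basis.constr_basis]
    rw [show b.repr (((B * G) ^ ((0 : Fin (m + 2)) : ℕ)) e) 0 = 1 by simp [← hb0], one_mul]
    refine Finset.prod_congr rfl fun i _ => ?_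
    rw [show b.repr (((B * G) ^ (i.succ : ℕ)) e) i.succ = _ from (hv i.succ).2]
    refine Finset.prod_congr rfl fun l _ => ?_
    simp only [Fin.le_iff_val_le_val, Fin.lt_def, Fin.val_castSucc, Fin.val_succ, Nat.lt_succ_iff]
  refine ⟨B, θ, isCyc_of_leftLine hsplit hts fun t _ => hline t, hsplit, hBG ▸ hgen,
    hBG ▸ hchar, hθdet, hθ, fun h => ?_⟩
  obtain ⟨a, ha⟩ := Submodule.mem_span_singleton.1 h
  have h1 := (hv (Fin.succ 0)).2
  have h2 : v (Fin.succ 0) = (B * G) e := by simp [v]
  rw [h2, ← ha, ← hb0] at h1
  simp [Finset.prod_ite] at h1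
  exact hβ 0 h1.symm

end CfsgLib.SLCover
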