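import Cfsg.Agent.Lib.SLCover.Blocks
import Cfsg.Agent.Lib.SLCover.Covering

/-!
# Primary blocks without eigenvectors
-/

set_option autoImplicit false
set_option linter.unusedSectionVars false

namespace CfsgLib.SLCover

open Module Polynomial CfsgLib.SLComm

universe u

variable {K : Type u} [Field K] [Fintype K] [DecidableEq K]
variable {V W : Type u} [AddCommGroup V] [Module K V] [AddCommGroup W] [Module K W]
  [FiniteDimensional K V] [FiniteDimensional K W]

theorem gen_comp {m : ℕ} (c : Fin (m + 1) → K) : Gen (comp c) (Pi.single 0 1) :=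
  fun _ h0 hp => comp_gen c h0 hp

theorem exists_cyc (f : K[X]) (hf : f.Monic) :
    ∃ M : End K (Fin f.natDegree → K), IsCyc M ∧ M.charpoly = f := by
  obtain ⟨d, hd⟩ : ∃ d, f.natDegree = d := ⟨_, rfl⟩
  rw [hd]
  rcases d with _ | m
  · refine ⟨1, ⟨0, fun S _ _ => eq_top_iff.2 fun x _ => ?_⟩, ?_⟩
    · rw [Subsingleton.elim x 0]; exact S.zero_mem
    · rw [hf.natDegree_eq_zero.1 hd]
      exact (1 : End K (Fin 0 → K)).charpoly_monic.natDegree_eq_zero.1
        (by rw [LinearMap.charpoly_natDegree]; simp)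
  · obtain ⟨ρ, hg, hc⟩ := exists_rho (gen_comp (0 : Fin (m + 1) → K)) hf (by rw [hd]; simp)
    exact ⟨_, ⟨_, hg⟩, hc⟩

/-- A cyclic map with reducible characteristic polynomial is an upper triangular gluing. -/
theorem chain {x : End K V} (hx : IsCyc x) {a : End K W} (ha : IsCyc a) {Z : Type u}
    [AddCommGroup Z] [Module K Z] [FiniteDimensional K Z] [Nontrivial Z] {b : End K Z}
    (hb : IsCyc b) (hc : x.charpoly = a.charpoly * b.charpoly) :
    ∃ r : Z →ₗ[K] W, Cj (upper a r b) x := by
  obtain ⟨ea, hea⟩ := ha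
  obtain ⟨eb, heb⟩ := hb
  obtain ⟨d, hd⟩ : ∃ d, finrank K Z = d + 1 := ⟨finrank K Z - 1, by
    have : 0 < finrank K Z := Module.finrank_pos
    omega⟩
  let bb := (Basis.mk heb.linearIndependent heb.span_pow.ge).reindex (finCongr hd)
  have hbb : ∀ i, bb i = (b ^ i.val) eb := fun i => by simp [bb]
  let φ : Z →ₗ[K] K := bb.coord (Fin.last d)
  refine ⟨φ.smulRight ea, cj_of_cyc ⟨((0 : W), eb), fun S hS0 hS => ?_⟩ hx
    (by rw [charpoly_upper, hc])⟩
  have hφ : ∀ j, j < d + 1 → φ ((b ^ j) eb) = if j = d then 1 else 0 := fun j hj => by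
    have h1 := hbb ⟨j, hj⟩
    rw [show φ ((b ^ j) eb) = bb.repr ((b ^ j) eb) (Fin.last d) from rfl, ← h1, Basis.repr_self,
      Finsupp.single_apply]
    simp [Fin.ext_iff]
  have hpow : ∀ j, j ≤ d → ((0 : W), (b ^ j) eb) ∈ S := by
    intro j
    induction j with
    | zero => intro _; simpa using hS0
    | succ j ih =>
      intro hj
      have h1 := hS _ (ih (by omega))
      rw [upper_apply] at h1
      simp only [map_zero, zero_add, LinearMap.smulRight_apply, hφ j (by omega),
        if_neg (show j ≠ d by omega), zero_smul] at h1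
      rwa [pow_succ', Module.End.mul_apply]
  let P : Submodule K Z := S.comap (LinearMap.inr K W Z)
  have hPtop : P = ⊤ := by
    refine eq_top_iff.2 (bb.span_eq.ge.trans (Submodule.span_le.2 ?_))
    rintro _ ⟨i, rfl⟩
    rw [hbb]
    exact hpow i.val (Fin.is_le i)
  have hz : ∀ z : Z, ((0 : W), z) ∈ S := fun z =>
    (hPtop ▸ Submodule.mem_top : z ∈ P)
  have hea' : (ea, (0 : Z)) ∈ S := by
    have h1 := hS _ (hz ((b ^ d) eb))
    rw [upper_apply] at h1
    simp only [map_zero, zero_add, LinearMap.smulRight_apply, hφ d (by omega), if_true,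
      one_smul] at h1
    simpa using S.sub_mem h1 (hz (b ((b ^ d) eb)))
  have hw : S.comap (LinearMap.inl K W Z) = ⊤ := hea _ hea' fun w hw => by
    have h1 := hS _ (Submodule.mem_comap.1 hw)
    show (a w, (0 : Z)) ∈ S
    simpa using h1
  refine eq_top_iff.2 fun p _ => ?_
  have h1 : (p.1, (0 : Z)) ∈ S := (hw ▸ Submodule.mem_top : p.1 ∈ S.comap (LinearMap.inl K W Z))
  simpa using S.add_mem h1 (hz p.2)

theorem aeval_upper (a : End K V) (r : W →ₗ[K] V) (b : End K W) (p : K[X]) :
    ∃ r', aeval (upper a r b) p = upper (aeval a p) r' (aeval b p) := by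
  induction p using Polynomial.induction_on with
  | C c =>
    refine ⟨0, LinearMap.ext fun q => ?_⟩
    simp [Algebra.algebraMap_eq_smul_one]
    exact Prod.ext rfl rfl
  | add p q hp hq =>
    obtain ⟨r1, h1⟩ := hp
    obtain ⟨r2, h2⟩ := hq
    refine ⟨r1 + r2, LinearMap.ext fun q => Prod.ext ?_ ?_⟩ <;> simp [h1, h2]
    abel
  | monomial n c hp =>
    obtain ⟨r1, h1⟩ := hp
    rw [pow_succ, ← mul_assoc, map_mul, h1, aeval_X]
    refine ⟨aeval a (C c * X ^ n) ∘ₗ r + r1 ∘ₗ b, LinearMap.ext fun q => Prod.ext ?_ ?_⟩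
    · simp only [Module.End.mul_apply, upper_apply, map_mul, aeval_X, map_add,
        LinearMap.add_apply, LinearMap.comp_apply]
      abel
    · simp

theorem det_aeval_congr {x : End K V} {y : End K W} (h : Cj x y) (p : K[X]) :
    LinearMap.det (aeval y p) = LinearMap.det (aeval x p) := by
  obtain ⟨e, he⟩ := h
  rw [Cj.eq_conj e he]
  have h1 : aeval (e.conj x) p = e.conj (aeval x p) :=
    aeval_algHom_apply (e.conjAlgEquiv K).toAlgHom x p
  rw [h1, LinearEquiv.conj_apply, LinearMap.comp_assoc, LinearMap.det_conj]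

/-- A parameter for simple two-valued diagonals. -/
theorem exists_b (hq : 4 ≤ Fintype.card K) (a c : K) :
    ∃ b : K, b ≠ 0 ∧ b ≠ a ∧ b ^ 2 ≠ c := by
  classical
  have hf : (Finset.univ.filter fun b : K => b ^ 2 = c).card + 2 < Fintype.card K := by
    have h2 : (Finset.univ.filter fun b : K => b ^ 2 = c).card ≤ 2 := by
      by_contra h
      obtain ⟨s, hs⟩ := Finset.card_pos.1 (show 0 < (Finset.univ.filter fun b : K => b ^ 2 = c).card
        by omega)
      have hsub : (Finset.univ.filter fun b : K => b ^ 2 = c) ⊆ {s, -s} := fun b hb => by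
        simp only [Finset.mem_filter, Finset.mem_univ, true_and] at hb hs
        simpa using sq_eq_sq_iff_eq_or_eq_neg.1 (hb.trans hs.symm)
      have := (Finset.card_le_card hsub).trans Finset.card_le_two
      omega
    rcases eq_or_lt_of_le hq with h4 | h5
    · have h1 : (Finset.univ.filter fun b : K => b ^ 2 = c).card ≤ 1 := by
        refine Finset.card_le_one.2 fun x hx y hy => ?_
        simp only [Finset.mem_filter, Finset.mem_univ, true_and] at hx hy
        have h2 : (2 : K) = 0 := by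
          have h4' : ((4 : ℕ) : K) = 0 := by rw [h4]; exact FiniteField.cast_card_eq_zero K
          push_cast at h4'
          rw [show (4 : K) = 2 * 2 by norm_num, mul_self_eq_zero] at h4'
          exact h4'
        rcases sq_eq_sq_iff_eq_or_eq_neg.1 (hx.trans hy.symm) with h | h
        · exact h
        · rw [h, neg_eq_iff_add_eq_zero, ← two_mul, h2, zero_mul]
      omega
    · omega
  obtain ⟨b, hb⟩ := exists_scalar_avoid (({0, a} : Finset K) ∪
    Finset.univ.filter fun b : K => b ^ 2 = c) (by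
      have := Finset.card_union_le ({0, a} : Finset K) (Finset.univ.filter fun b : K => b ^ 2 = c)
      have := Finset.card_le_two (a := (0 : K)) (b := a)
      omega)
  simp at hb
  exact ⟨b, hb.1, hb.2.1, hb.2.2⟩

/-- Some cyclic split product for a cyclic block. -/
theorem pair_cyc (hq : 4 ≤ Fintype.card K) {x : End K V} (hx : IsCyc x)
    (hxd : LinearMap.det x ≠ 0) (hn : 2 ≤ finrank K V) :
    ∃ (T : K) (h X Y : End K V) (ts : List K), T ≠ 0 ∧ Pr x T h X Y ∧ IsCyc h ∧ Split h ts ∧
      ∀ t ∈ ts, t ≠ 0 := by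
  obtain ⟨m, hm⟩ : ∃ m, finrank K V = m + 2 := ⟨finrank K V - 2, by omega⟩
  obtain ⟨κ, hκ, hs⟩ := single hx hxd hm
  set c := LinearMap.det x * LinearMap.det x with hc
  have hc0 : c ≠ 0 := mul_ne_zero hxd hxd
  obtain ⟨b, hb0, hbc, hb2⟩ := exists_b hq c c
  let β : Fin (m + 1) → K := Fin.cons b fun _ => 1
  have hβ : ∀ l, β l ≠ 0 := Fin.forall_fin_succ.2 ⟨hb0, fun l => by simp [β]⟩
  have hne : ∀ l, β l ≠ c / b := Fin.forall_fin_succ.2
    ⟨fun h => hb2 (by
      have h' : b = c / b := h
      rw [eq_div_iff hb0] at h'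
      rw [sq, h']), fun l h => hbc (by
      have h' : (1 : K) = c / b := by simpa [β] using h
      rw [eq_div_iff hb0, one_mul] at h'
      exact h')⟩
  obtain ⟨h, X, Y, hp, hcy, hsp⟩ := hs (c / b) β (div_ne_zero hc0 hb0) hβ hne (by
    rw [Fin.prod_univ_succ]
    simp [β]
    field_simp)
  refine ⟨κ * hessT β, h, X, Y, _, mul_ne_zero hκ ?_, hp, hcy, hsp, ?_⟩
  · exact Finset.prod_ne_zero_iff.2 fun i _ => Finset.prod_ne_zero_iff.2 fun l _ => by
      split_ifs
      · exact hβ l
      · exact one_ne_zero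
  · intro t ht
    rcases List.mem_cons.1 ht with rfl | ht
    · exact div_ne_zero hc0 hb0
    · obtain ⟨l, rfl⟩ := List.mem_ofFn.1 ht
      exact hβ l

/-- A primary block: all multiplicities and the centraliser follow the exponent. -/
theorem prim (hq : 4 ≤ Fintype.card K) {x : End K V} (hx : IsCyc x) (hxd : LinearMap.det x ≠ 0)
    (hno : NoEig x) {f : K[X]} (hf : f.Monic) (hirr : Irreducible f) {e : ℕ} (he : e ≠ 0)
    (hchar : x.charpoly = f ^ e) :
    (∀ z : K, z ≠ 0 → CjD (z ^ e) x x) ∧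
    ∃ (T : K) (h X Y : End K V) (ts : List K), T ≠ 0 ∧ Pr x T h X Y ∧ IsCyc h ∧ Split h ts ∧
      (∀ t ∈ ts, t ≠ 0) ∧ ∀ t, e ∣ ts.count t := by
  classical
  obtain ⟨a, ha, hachar⟩ := exists_cyc f hf
  have hroot : ∀ t : K, f.eval t ≠ 0 := fun t h0 => hno.eval_ne t (by
    rw [hchar, eval_pow, h0, zero_pow he])
  have hano : NoEig a := fun v hv t hvt => hroot t (by
    rw [← hachar]
    exact (Module.End.hasEigenvalue_iff_isRoot_charpoly a t).1
      (Module.End.hasEigenvalue_of_hasEigenvector ⟨Module.End.mem_eigenspace_iff.2 hvt, hv⟩))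
  have had : LinearMap.det a ≠ 0 := by
    rw [LinearMap.det_eq_sign_charpoly_coeff, hachar, coeff_zero_eq_eval_zero]
    exact mul_ne_zero (pow_ne_zero _ (neg_ne_zero.2 one_ne_zero)) (hroot 0)
  have hf1 : 0 < f.natDegree := hirr.natDegree_pos
  haveI : Nontrivial (Fin f.natDegree → K) :=
    Module.nontrivial_of_finrank_pos (R := K) (by rw [finrank_fin_fun]; exact hf1)
  obtain ⟨T₁, h₁, X₁, Y₁, us, hT₁, hp₁, hc₁, hs₁, hus⟩ := pair_cyc hq ha had hano.two_le
  -- the induction over the exponent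
  suffices key : ∀ (e : ℕ) {U : Type u} [AddCommGroup U] [Module K U] [FiniteDimensional K U]
      (y : End K U), IsCyc y → y.charpoly = f ^ (e + 1) →
      (∀ p : K[X], LinearMap.det (aeval y p) = LinearMap.det (aeval a p) ^ (e + 1)) ∧
      ∃ (T : K) (h X Y : End K U), T ≠ 0 ∧ Pr y T h X Y ∧ IsCyc h ∧
        Split h (List.replicate (e + 1) us).flatten by
    obtain ⟨e, rfl⟩ : ∃ e', e = e' + 1 := ⟨e - 1, by omega⟩
    obtain ⟨hdet, T, h, X, Y, hT, hp, hcy, hsp⟩ := key e x hx hchar
    refine ⟨fun z hz => ?_, T, h, X, Y, _, hT, hp, hcy, hsp, ?_, ?_⟩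
    · obtain ⟨S, _, _, _, r, -, hcj⟩ := field_model ha (by rw [hachar]; exact hirr)
      have : Finite S := Module.finite_of_finite K
      obtain ⟨s, hs⟩ := FiniteField.norm_surjective K S z
      obtain ⟨g₀, hg₀⟩ := ha.congr hcj.symm
      have hg0 : g₀ ≠ 0 := by
        rintro rfl
        have h1 := hg₀ ⊥ (Submodule.zero_mem _) fun v hv => by simp [(Submodule.mem_bot K).1 hv]
        exact bot_ne_top h1
      obtain ⟨c, hc⟩ := (Submodule.mem_span_range_iff_exists_fun K).1
        (hg₀.span_pow.symm ▸ Submodule.mem_top : s * g₀ ∈ Submodule.span K _)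
      let p : K[X] := ∑ i : Fin (finrank K S), Polynomial.C (c i) * Polynomial.X ^ i.val
      have hps : aeval r p = s := by
        refine mul_right_cancel₀ hg0 ?_
        rw [← hc]
        simp only [p, map_sum, map_mul, aeval_C, map_pow, aeval_X, Finset.sum_mul]
        refine Finset.sum_congr rfl fun i _ => ?_
        rw [← map_pow]
        simp [Algebra.smul_def, mul_assoc]
      refine ⟨aeval x p, ?_, ?_⟩
      · rw [hdet, det_aeval_congr hcj, aeval_algHom_apply, hps, ← Algebra.norm_apply, hs]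
      · have h1 := ((Commute.all p Polynomial.X).map (aeval x)).eq
        rwa [aeval_X] at h1
    · intro t ht
      obtain ⟨l, hl, htl⟩ := List.mem_flatten.1 ht
      rw [List.eq_of_mem_replicate hl] at htl
      exact hus t htl
    · intro t
      rw [List.count_flatten, List.map_replicate, List.sum_replicate, smul_eq_mul]
      exact dvd_mul_right _ _
  intro e
  induction e with
  | zero =>
    intro U _ _ _ y hy hyc
    obtain ⟨φ, hφ⟩ := cj_of_cyc ha hy (by rw [hachar, hyc, pow_one])
    refine ⟨fun p => by rw [det_aeval_congr ⟨φ, hφ⟩, pow_one],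
      T₁, φ.conj h₁, φ.conj X₁, φ.conj Y₁, hT₁, ?_, hc₁.congr (cj_conj φ _), ?_⟩
    · rw [Cj.eq_conj φ hφ]
      exact hp₁.map φ
    · rw [List.replicate_one, List.flatten_cons, List.flatten_nil, List.append_nil]
      exact hs₁.congr (cj_conj φ _)
  | succ e ih =>
    intro U _ _ _ y hy hyc
    obtain ⟨b, hb, hbchar⟩ := exists_cyc (f ^ (e + 1)) (hf.pow _)
    obtain ⟨hbdet, T, h, X, Y, hT, hp, hcy, hsp⟩ := ih b hb hbchar
    haveI : Nontrivial (Fin (f ^ (e + 1)).natDegree → K) :=
      Module.nontrivial_of_finrank_pos (R := K) (by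
        rw [finrank_fin_fun, hf.natDegree_pow]; exact Nat.mul_pos (Nat.succ_pos e) hf1)
    obtain ⟨r, φ, hφ⟩ := chain hy ha hb (by rw [hachar, hbchar, hyc, pow_succ' f (e + 1)])
    have hne : ∀ t ∈ us ++ (List.replicate (e + 1) us).flatten, t ≠ 0 := fun t ht => by
      rcases List.mem_append.1 ht with ht | ht
      · exact hus t ht
      · obtain ⟨l, hl, htl⟩ := List.mem_flatten.1 ht
        rw [List.eq_of_mem_replicate hl] at htl
        exact hus t htl
    obtain ⟨hh, XX, YY, hpp, hcc, hss, -⟩ := glue hp₁ hp hT₁ hT hc₁ hcy hs₁ hsp hne (Or.inl hano) r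
    refine ⟨fun p => ?_, T₁ * T, φ.conj hh, φ.conj XX, φ.conj YY, mul_ne_zero hT₁ hT, ?_,
      hcc.congr (cj_conj φ _), ?_⟩
    · obtain ⟨r', hr'⟩ := aeval_upper a r b p
      rw [det_aeval_congr ⟨φ, hφ⟩, hr', det_upper, hbdet, ← pow_succ']
    · rw [Cj.eq_conj φ hφ]
      exact hpp.map φ
    · rw [List.replicate_succ, List.flatten_cons]
      exact hss.congr (cj_conj φ _)

/-- Scalars on one generalised eigenspace of a cyclic split map. -/
theorem count_shift {h : End K V} (hh : IsCyc h) {ts : List K} (hs : Split h ts)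
    (hts : ∀ t ∈ ts, t ≠ 0) (t₀ : K) {z : K} (_hz : z ≠ 0) :
    CjD (z ^ ts.count t₀) h h := by
  classical
  set f : K[X] := (X - C t₀) ^ ts.count t₀ with hfdef
  set g : K[X] := ((ts.filter (· ≠ t₀)).map fun t => X - C t).prod with hgdef
  have hfm : f.Monic := (monic_X_sub_C t₀).pow _
  have hgm : g.Monic := by
    simpa [hgdef] using monic_multiset_prod_of_monic ((ts.filter (· ≠ t₀) : List K) : Multiset K)
      (fun t => X - C t) fun t _ => monic_X_sub_C t
  obtain ⟨a, ha, hac⟩ := exists_cyc f hfm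
  obtain ⟨b, hb, hbc⟩ := exists_cyc g hgm
  have has : Split a (List.replicate (ts.count t₀) t₀) := by
    rw [Split, hac, List.map_replicate, List.prod_replicate]
  have hperm : (List.replicate (ts.count t₀) t₀ ++ ts.filter (· ≠ t₀)).Perm ts := by
    refine List.perm_iff_count.2 fun y => ?_
    rw [List.count_append, List.count_replicate]
    rcases eq_or_ne t₀ y with rfl | hy
    · simp [List.count_eq_zero]
    · simp [hy, Ne.symm hy, List.count_filter]
  obtain ⟨hc, hcs⟩ := glue_disjoint ha hb has (hbc : Split b _)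
    (fun t ht => hts t (hperm.subset ht))
    (fun t ht htf => by
      have := (List.mem_filter.1 htf).2
      simp [List.eq_of_mem_replicate ht] at this) 0
  obtain ⟨φ, hφ⟩ := cj_of_cyc hc hh (by rw [hcs, hs]; exact (hperm.map _).prod_eq)
  refine ⟨φ.conj (upper (z • 1) 0 1), ?_, ?_⟩
  · rw [LinearEquiv.conj_apply, LinearMap.comp_assoc, LinearMap.det_conj, det_upper,
      LinearMap.det_smul, map_one, map_one, mul_one, mul_one, finrank_fin_fun, hfdef,
      (monic_X_sub_C t₀).natDegree_pow, natDegree_X_sub_C, mul_one]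
  · rw [Cj.eq_conj φ hφ, ← conj_mul, ← conj_mul]
    congr 1
    exact LinearMap.ext fun q => Prod.ext (by simp) (by simp)

end CfsgLib.SLCover
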