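import Cfsg.Agent.Lib.SLCover.Base

/-!
# Conjugates of a scalar plus a map of rank one
-/

set_option autoImplicit false
set_option linter.unusedSectionVars false

namespace CfsgLib.SLCover

open Module Polynomial CfsgLib.SLComm

universe u

variable {K : Type u} [Field K]
variable {V W : Type u} [AddCommGroup V] [Module K V] [AddCommGroup W] [Module K W]
  [FiniteDimensional K V] [FiniteDimensional K W]

/-- `g` is a product of `m` special conjugates of `x`. -/
def Prodn (x : End K V) (m : ℕ) (g : End K V) : Prop :=
  ∃ L : List (End K V), L.length = m ∧ (∀ y ∈ L, CjD 1 x y) ∧ L.prod = g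

/-- `g` is a product of `m` similar copies of `x`. -/
def ProdC (x : End K V) (m : ℕ) (g : End K V) : Prop :=
  ∃ L : List (End K V), L.length = m ∧ (∀ y ∈ L, Cj x y) ∧ L.prod = g

theorem CoverS.prodn {x : End K V} {m : ℕ} {g : End K V} (h : CoverS x m g) : Prodn x m g :=
  let ⟨L, h1, h2, h3, _⟩ := h; ⟨L, h1, h2, h3⟩

theorem ProdC.special {x : End K V} {m : ℕ} {g : End K V} (hx : Full x) (h : ProdC x m g) :
    Prodn x m g := by
  obtain ⟨L, h1, h2, h3⟩ := h
  exact ⟨L, h1, fun y hy => hx.strong (h2 y hy) 1 one_ne_zero, h3⟩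

theorem ProdC.congr {x : End K V} {x' : End K W} {m : ℕ} {g : End K V} {g' : End K W}
    (h : ProdC x m g) (hx : Cj x x') (hg : Cj g g') : ProdC x' m g' := by
  obtain ⟨L, hlen, hcj, hprod⟩ := h
  obtain ⟨e, he⟩ := hg
  refine ⟨L.map fun y => e.conj y, by simpa using hlen, fun y hy => ?_, ?_⟩
  · obtain ⟨y₀, hy₀, rfl⟩ := List.mem_map.1 hy
    exact hx.symm.trans ((hcj y₀ hy₀).trans (cj_conj e y₀))
  · rw [conj_list_prod, hprod, ← Cj.eq_conj e he]

/-- The centraliser of a scalar plus a rank one map has every determinant. -/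
theorem pse_full (hn : 3 ≤ finrank K V) {x : End K V} (hP : Pse x) : Full x := by
  obtain ⟨s, b, β, hx⟩ := hP
  obtain ⟨u, hu, hub⟩ : ∃ u, β u = 0 ∧ u ∉ (K ∙ b) := by
    by_contra h
    push Not at h
    have := (Submodule.finrank_mono (show LinearMap.ker β ≤ (K ∙ b) from
      fun z hz => h z (LinearMap.mem_ker.1 hz))).trans
        ((finrank_span_le_card ({b} : Set V)).trans (by simp : _ ≤ 1))
    have := LinearMap.finrank_range_add_finrank_ker β
    have := Submodule.finrank_le (LinearMap.range β)
    rw [finrank_self] at this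
    omega
  obtain ⟨φ, hφu, hφ⟩ := CfsgLib.TwoJordan.exists_dual_one hub
  have hφb : φ b = 0 := hφ b (Submodule.mem_span_singleton_self b)
  intro d _
  refine ⟨LinearMap.transvection ((d - 1) • φ) u, ?_, LinearMap.ext fun z => ?_⟩
  · rw [LinearMap.transvection.det]; simp [hφu]
  · simp [LinearMap.transvection.apply, hx, hu, hφb, smul_smul, mul_comm]
    module

section seq

variable {n : ℕ}

/-- Successive replacements of one coordinate. -/
theorem seq (W : Fin n → Fin n → K) (g : End K (Fin n → K))
    (h : ∀ z k, g z k = z k + ∑ j, W k j * if j < k then g z j else z j) :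
    ∃ L : List (End K (Fin n → K)), L.length = n ∧
      (∀ y ∈ L, ∃ k, y = 1 + (∑ j, W k j • LinearMap.proj j : (Fin n → K) →ₗ[K] K).smulRight
        (Pi.single k 1)) ∧ L.prod = g := by
  classical
  let T : Fin n → End K (Fin n → K) := fun k =>
    1 + (∑ j, W k j • LinearMap.proj j : (Fin n → K) →ₗ[K] K).smulRight (Pi.single k 1)
  refine ⟨(List.ofFn T).reverse, by simp, fun y hy => ?_, ?_⟩
  · obtain ⟨k, rfl⟩ := List.mem_ofFn.1 (List.mem_reverse.1 hy)
    exact ⟨k, rfl⟩
  have key : ∀ i, i ≤ n → ∀ z l,
      (((List.ofFn T).take i).reverse.prod z) l = if (l : Fin n).val < i then g z l else z l := by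
    intro i
    induction i with
    | zero => intro _ z l; simp
    | succ i ih =>
      intro hi z l
      have hlen : i < (List.ofFn T).length := by simpa using hi
      rw [List.take_succ_eq_append_getElem hlen, List.reverse_append, List.reverse_singleton,
        List.singleton_append, List.prod_cons, List.getElem_ofFn, Module.End.mul_apply]
      have e : ∀ j, (((List.ofFn T).take i).reverse.prod z) j =
          if j < (⟨i, hi⟩ : Fin n) then g z j else z j := fun j => ih (by omega) z j
      generalize ((List.ofFn T).take i).reverse.prod z = pz at e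
      simp only [T, LinearMap.add_apply, Module.End.one_apply, LinearMap.smulRight_apply,
        LinearMap.sum_apply, LinearMap.smul_apply, LinearMap.proj_apply, smul_eq_mul, Pi.add_apply,
        Pi.smul_apply, e]
      rcases lt_trichotomy l.val i with hl | hl | hl
      · have h1 : l ≠ ⟨i, hi⟩ := fun h => by simp [h] at hl
        simp [Fin.lt_def, hl, Nat.lt_succ_of_lt hl, h1]
      · obtain rfl : l = ⟨i, hi⟩ := Fin.ext hl
        simp only [lt_irrefl, if_false, Pi.single_eq_same, mul_one, Fin.val_mk,
          Nat.lt_succ_self, if_true]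
        exact (h z ⟨i, hi⟩).symm
      · have h1 : l ≠ ⟨i, hi⟩ := fun h => by simp [h] at hl
        have h2 : ¬ l < (⟨i, hi⟩ : Fin n) := by simp [Fin.lt_def]; omega
        simp [h1, h2, show ¬ l.val < i + 1 by omega]
  refine LinearMap.ext fun z => funext fun l => ?_
  have := key n le_rfl z l
  rw [List.take_of_length_le (by simp)] at this
  simpa using this

variable {x : End K V} {s : K} {b : V} {β : V →ₗ[K] K}

/-- The maps of `seq` are similar to a given one. -/
theorem of_seq (hn : finrank K V = n) (hx : ∀ v, x v = s • v + β v • b) (hb : b ≠ 0) (hβ : β ≠ 0)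
    (hs : s ≠ 0) (W : Fin n → Fin n → K) (hW : ∀ k, s * W k k = β b) (hW0 : ∀ k, ∃ j, W k j ≠ 0)
    (g : End K (Fin n → K))
    (h : ∀ z k, g z k = z k + ∑ j, W k j * if j < k then g z j else z j) :
    ∀ g' : End K V, Cj (s ^ n • g) g' → ProdC x n g' := by
  classical
  obtain ⟨L, hlen, hL, hprod⟩ := seq W g h
  let e : V ≃ₗ[K] (Fin n → K) := (Module.finBasisOfFinrankEq K V hn).equivFun
  intro g' hg'
  refine ProdC.congr (x := e.conj x) (g := s ^ n • g) ⟨L.map fun y => s • y, by simpa using hlen,
    fun y hy => ?_, ?_⟩ (cj_conj e x).symm hg'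
  · obtain ⟨y₀, hy₀, rfl⟩ := List.mem_map.1 hy
    obtain ⟨k, rfl⟩ := hL y₀ hy₀
    set φ : (Fin n → K) →ₗ[K] K := ∑ j, W k j • LinearMap.proj j with hφ
    have hφe : ∀ i, φ (Pi.single i 1) = W k i := fun i => by
      simp [hφ, LinearMap.sum_apply, Pi.single_apply]
    have hne : (Pi.single k 1 : Fin n → K) ≠ 0 := fun h0 => by
      have := congrFun h0 k
      simp at this
    have h1 : e.conj x = s • (1 : End K (Fin n → K)) + (β ∘ₗ (e.symm : _ →ₗ[K] V)).smulRight (e b) :=
      LinearMap.ext fun v => by simp [LinearEquiv.conj_apply, hx]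
    have h2 : s • (1 + φ.smulRight (Pi.single k 1) : End K (Fin n → K)) =
        s • (1 : End K (Fin n → K)) + (s • φ).smulRight (Pi.single k 1) :=
      LinearMap.ext fun v => by simp [smul_smul]
    rw [h1, h2]
    refine cj_pse (by simpa using hb) hne ?_ ?_ (by simp [hφe, hW])
    · intro h0
      exact hβ (LinearMap.ext fun v => by simpa using LinearMap.congr_fun h0 (e v))
    · intro h0
      obtain ⟨j, hj⟩ := hW0 k
      have := LinearMap.congr_fun h0 (Pi.single j 1)
      simp [hφe, hs] at this
      exact hj this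
  · have : ∀ l : List (End K (Fin n → K)),
        (l.map fun y => s • y).prod = s ^ l.length • l.prod := by
      intro l
      induction l with
      | nil => simp
      | cons a l ih => simp [ih, smul_smul, pow_succ, mul_comm]
    rw [this, hlen, hprod]

end seq

theorem prod_root (s : K) (φ : V →ₗ[K] K) (c : V) (hc : φ c = 0) :
    ∀ l : List K, (l.map fun a => s • (1 + a • φ.smulRight c) : List (End K V)).prod =
      s ^ l.length • (1 + l.sum • φ.smulRight c) := by
  intro l
  induction l with
  | nil => simp
  | cons a l ih =>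
    rw [List.map_cons, List.prod_cons, ih, List.sum_cons, List.length_cons]
    refine LinearMap.ext fun v => ?_
    simp [hc, smul_smul, pow_succ]
    module

variable [Fintype K]

theorem exists_sum (hq : 4 ≤ Fintype.card K) : ∀ n, 2 ≤ n → ∀ σ : K,
    ∃ l : List K, l.length = n ∧ (∀ a ∈ l, a ≠ 0) ∧ l.sum = σ := by
  classical
  intro n hn
  induction n, hn using Nat.le_induction with
  | base =>
    intro σ
    obtain ⟨a, ha⟩ := exists_scalar_avoid ({0, σ} : Finset K)
      (lt_of_le_of_lt Finset.card_le_two (by omega))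
    simp at ha
    exact ⟨[a, σ - a], rfl, by simp [ha.1, sub_eq_zero, Ne.symm ha.2], by simp⟩
  | succ n _ ih =>
    intro σ
    obtain ⟨l, h1, h2, h3⟩ := ih (σ - 1)
    exact ⟨1 :: l, by simp [h1], List.forall_mem_cons.2 ⟨one_ne_zero, h2⟩, by simp [h3]⟩

theorem root_prodC (hq : 4 ≤ Fintype.card K) {n : ℕ} (hn : 2 ≤ n) {x : End K V} {s : K} {b : V}
    {β : V →ₗ[K] K} (hx : ∀ v, x v = s • v + β v • b) (hb : b ≠ 0) (hβ : β ≠ 0) (hs : s ≠ 0)
    (hβb : β b = 0) (σ : K) : ProdC x n (s ^ n • (1 + σ • (s⁻¹ • β).smulRight b)) := by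
  obtain ⟨l, h1, h2, h3⟩ := exists_sum hq n hn σ
  refine ⟨l.map fun a => s • (1 + a • (s⁻¹ • β).smulRight b), by simpa using h1, fun y hy => ?_,
    by rw [prod_root s _ b (by simp [hβb]), h1, h3]⟩
  obtain ⟨a, ha, rfl⟩ := List.mem_map.1 hy
  have e1 : x = s • (1 : End K V) + β.smulRight b := LinearMap.ext fun v => by simp [hx]
  have e2 : s • (1 + a • (s⁻¹ • β).smulRight b : End K V) =
      s • (1 : End K V) + (a • β).smulRight b := LinearMap.ext fun v => by
    simp only [LinearMap.smul_apply, LinearMap.add_apply, Module.End.one_apply,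
      LinearMap.smulRight_apply, smul_add, smul_smul, smul_eq_mul]
    congr 2
    field_simp
  rw [e1, e2]
  exact cj_pse hb hb hβ (smul_ne_zero (h2 a ha) hβ) (by simp [hβb])

/-- Scalar plus rank one: products without eigenvalue hypotheses. -/
theorem pse_prod (hq : 4 ≤ Fintype.card K) {n : ℕ} (hn : finrank K V = n) (h3 : 3 ≤ n)
    {x : End K V} (hxn : NS x) (hP : Pse x) (hxd : LinearMap.det x ≠ 0) :
    (∀ g : End K V, NS g → Pse g → LinearMap.det g = LinearMap.det x ^ n → Prodn x n g) ∧
    ∃ z : K, Prodn x n (z • (1 : End K V)) := by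
  classical
  have hF := pse_full (by omega) hP
  obtain ⟨s, b, β, hx⟩ := hP
  have hb : b ≠ 0 := fun h => hxn s (LinearMap.ext fun v => by simp [hx, h])
  have hβ : β ≠ 0 := fun h => hxn s (LinearMap.ext fun v => by simp [hx, h])
  have hs : s ≠ 0 := by
    rintro rfl
    obtain ⟨xi, h1, h2, -⟩ := exists_inv hxd
    have : (⊤ : Submodule K V) ≤ K ∙ b := fun v _ => Submodule.mem_span_singleton.2 ⟨β (xi v), by
      have := LinearMap.congr_fun h2 v
      rw [Module.End.mul_apply, hx, zero_smul, zero_add, Module.End.one_apply] at this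
      exact this⟩
    have h4 := (Submodule.finrank_mono this).trans ((finrank_span_le_card ({b} : Set V)).trans
      (by simp : _ ≤ 1))
    rw [finrank_top] at h4
    omega
  have hxe : x = s • (1 : End K V) + β.smulRight b := LinearMap.ext fun v => by simp [hx]
  have hdx : LinearMap.det x = s ^ n * (1 + β b / s) := by rw [hxe, det_pse s hs, hn]
  rcases eq_or_ne (β b) 0 with hβb | hβb
  · -- transvection type
    refine ⟨fun g hg hgP hdet => ProdC.special hF ?_, s ^ n, ProdC.special hF ?_⟩
    · obtain ⟨μ, c, γ, hgv⟩ := hgP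
      have hc : c ≠ 0 := fun h => hg μ (LinearMap.ext fun v => by simp [hgv, h])
      have hγ : γ ≠ 0 := fun h => hg μ (LinearMap.ext fun v => by simp [hgv, h])
      have hgd : LinearMap.det g ≠ 0 := hdet ▸ pow_ne_zero _ hxd
      have hμ : μ ≠ 0 := by
        rintro rfl
        obtain ⟨gi, h1, h2, -⟩ := exists_inv hgd
        have : (⊤ : Submodule K V) ≤ K ∙ c := fun v _ =>
          Submodule.mem_span_singleton.2 ⟨γ (gi v), by
            have := LinearMap.congr_fun h2 v
            rw [Module.End.mul_apply, hgv, zero_smul, zero_add, Module.End.one_apply] at this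
            exact this⟩
        have h4 := (Submodule.finrank_mono this).trans
          ((finrank_span_le_card ({c} : Set V)).trans (by simp : _ ≤ 1))
        rw [finrank_top] at h4
        omega
      have hge : g = μ • (1 : End K V) + γ.smulRight c := LinearMap.ext fun v => by simp [hgv]
      have hdet' : μ ^ n * (1 + γ c / μ) = (s ^ n) ^ n := by
        rw [← hn, ← det_pse μ hμ, ← hge, hdet, hdx, hβb, zero_div, add_zero, mul_one, hn]
      obtain ⟨κ, hκ⟩ : ∃ κ, κ = μ / s ^ n := ⟨_, rfl⟩
      have hκ0 : κ ≠ 0 := hκ ▸ div_ne_zero hμ (pow_ne_zero _ hs)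
      have hγc : γ c / μ = (κ ^ n)⁻¹ - 1 := by
        rw [hκ, div_pow, inv_div, eq_sub_iff_add_eq, eq_div_iff (pow_ne_zero _ hμ), ← hdet']
        ring
      rcases eq_or_ne κ 1 with hκ1 | hκ1
      · have hμs : μ = s ^ n := by
          rw [hκ, div_eq_one_iff_eq (pow_ne_zero _ hs)] at hκ1; exact hκ1
        rw [hκ1, one_pow, inv_one, sub_self, div_eq_zero_iff, or_iff_left hμ] at hγc
        refine (root_prodC hq (by omega) hx hb hβ hs hβb 1).congr (Cj.refl x) ?_
        have e2 : s ^ n • (1 + (1 : K) • (s⁻¹ • β).smulRight b : End K V) =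
            μ • (1 : End K V) + ((μ / s) • β).smulRight b := LinearMap.ext fun v => by
          simp [hμs, smul_smul, div_eq_mul_inv, mul_assoc]
        rw [hge, e2]
        exact cj_pse hb hc (smul_ne_zero (div_ne_zero hμ hs) hβ) hγ (by simp [hβb, hγc])
      · -- explicit rows
        let t : Fin n → K := fun j => (κ ^ (j.val + 1))⁻¹ * (1 - κ)
        have ht : ∀ j, t j ≠ 0 := fun j =>
          mul_ne_zero (inv_ne_zero (pow_ne_zero _ hκ0)) (sub_ne_zero.2 (Ne.symm hκ1))
        have hsum : ∀ k ≤ n, ∑ j : Fin n, (if j.val < k then t j else 0) = (κ ^ k)⁻¹ - 1 := by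
          intro k
          induction k with
          | zero => intro _; simp
          | succ k ih =>
            intro hk
            have e : ∀ j : Fin n, (if j.val < k + 1 then t j else 0) =
                (if j.val < k then t j else 0) + if j = ⟨k, hk⟩ then t j else 0 := fun j => by
              rcases lt_trichotomy j.val k with h | h | h
              · simp [h, Nat.lt_succ_of_lt h, Fin.ext_iff, h.ne]
              · simp [h, Fin.ext_iff]
              · simp [Fin.ext_iff, h.ne', not_lt.2 h.le, show ¬ j.val < k + 1 by omega]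
            simp only [e, Finset.sum_add_distrib, ih (by omega), Finset.sum_ite_eq',
              Finset.mem_univ, if_true]
            simp only [t]
            field_simp
            ring
        let W : Fin n → Fin n → K := fun k j =>
          if j < k then κ ^ k.val * t j else if j = k then 0 else κ ^ (k.val + 1) * t j
        let S : (Fin n → K) →ₗ[K] K := ∑ j, t j • LinearMap.proj j
        let g₀ : End K (Fin n → K) := κ • (1 + S.smulRight fun _ => 1)
        have hg₀ : ∀ z k, g₀ z k = κ * (z k + S z) := fun z k => by simp [g₀, mul_add]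
        have hSz : ∀ z, S z = ∑ j, t j * z j := fun z => by simp [S, LinearMap.sum_apply]
        have hseq : ∀ z k, g₀ z k = z k + ∑ j, W k j * if j < k then g₀ z j else z j := by
          intro z k
          have e : ∀ j, (W k j * if j < k then g₀ z j else z j) =
              κ ^ (k.val + 1) * (t j * z j) - (if j = k then κ ^ (k.val + 1) * (t j * z j) else 0) +
                κ ^ (k.val + 1) * S z * (if j.val < k.val then t j else 0) := fun j => by
            rcases lt_trichotomy j k with h | h | h
            · simp [W, h, h.ne, hg₀, Fin.lt_def.1 h]; ring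
            · simp [W, h]
            · simp [W, h.ne', not_lt.2 h.le, not_lt.2 (Fin.lt_def.1 h).le]; ring
          rw [Finset.sum_congr rfl fun j _ => e j, hg₀]
          simp only [Finset.sum_add_distrib, Finset.sum_sub_distrib, ← Finset.mul_sum,
            Finset.sum_ite_eq', Finset.mem_univ, if_true, hsum k.val k.isLt.le, ← hSz]
          have e2 : κ ^ (k.val + 1) * t k = 1 - κ := by simp [t, mul_inv_cancel_left₀ (pow_ne_zero _ hκ0)]
          have e3 : κ ^ (k.val + 1) * ((κ ^ k.val)⁻¹ - 1) = κ - κ ^ (k.val + 1) := by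
            rw [mul_sub, pow_succ', mul_assoc, mul_inv_cancel₀ (pow_ne_zero _ hκ0)]; ring
          linear_combination z k * e2 - S z * e3
        refine of_seq hn hx hb hβ hs W (fun k => by simp [W, hβb]) (fun k => ?_) g₀ hseq g ?_
        · haveI : Nontrivial (Fin n) := Fin.nontrivial_iff_two_le.2 (by omega)
          obtain ⟨j, hj⟩ := exists_ne k
          refine ⟨j, ?_⟩
          simp only [W, hj, if_false]
          split_ifs <;> exact mul_ne_zero (pow_ne_zero _ hκ0) (ht j)
        let e := (Module.finBasisOfFinrankEq K V hn).equivFun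
        refine Cj.trans (y := e.conj g) ?_ (cj_conj e g).symm
        have e1 : s ^ n • g₀ = μ • (1 : End K (Fin n → K)) + (μ • S).smulRight fun _ => 1 := by
          have : s ^ n * κ = μ := by rw [hκ, mul_comm, div_mul_cancel₀ _ (pow_ne_zero _ hs)]
          refine LinearMap.ext fun v => ?_
          simp [g₀, smul_smul, this, smul_add]
        have e2 : e.conj g = μ • (1 : End K (Fin n → K)) +
            (γ ∘ₗ (e.symm : (Fin n → K) →ₗ[K] V)).smulRight (e c) :=
          LinearMap.ext fun v => by simp [LinearEquiv.conj_apply, hgv]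
        rw [e1, e2]
        refine cj_pse ?_ (by simpa using hc) ?_ ?_ ?_
        · exact fun h => one_ne_zero (congrFun h ⟨0, by omega⟩)
        · intro h0
          have := LinearMap.congr_fun h0 (Pi.single ⟨0, by omega⟩ 1)
          simp [hSz, Pi.single_apply, hμ] at this
          exact ht _ this
        · intro h0
          exact hγ (LinearMap.ext fun v => by simpa using LinearMap.congr_fun h0 (e v))
        · have h0 := hsum n le_rfl
          simp only [Fin.is_lt, if_true] at h0
          simp [hSz, h0, ← hγc, mul_div_cancel₀ _ hμ]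
    · have := root_prodC hq (n := n) (by omega) hx hb hβ hs hβb 0
      rwa [zero_smul, add_zero] at this
  · -- semisimple type
    set r := 1 + β b / s with hr
    have hr1 : s * (r - 1) = β b := by rw [hr, add_sub_cancel_left, mul_div_cancel₀ _ hs]
    have hrne : r - 1 ≠ 0 := fun h => hβb (by rw [← hr1, h, mul_zero])
    refine ⟨fun g hg _ hdet => ProdC.special hF ?_, s ^ n * r, ProdC.special hF ?_⟩
    · obtain ⟨m, rfl⟩ : ∃ m, n = m + 1 := ⟨n - 1, by omega⟩
      let bv := Module.finBasisOfFinrankEq K V hn
      set A := LinearMap.toMatrix bv bv ((s ^ (m + 1))⁻¹ • g)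
      have hsn : s ^ (m + 1) ≠ 0 := pow_ne_zero _ hs
      have hAns : ∀ a : K, A ≠ a • 1 := fun a ha => hg (s ^ (m + 1) * a) (by
        have : (s ^ (m + 1))⁻¹ • g = a • 1 := (LinearMap.toMatrix bv bv).injective (by
          rw [map_smul (LinearMap.toMatrix bv bv) a (1 : End K V), LinearMap.toMatrix_one]; exact ha)
        rw [mul_smul, ← this, smul_smul, mul_inv_cancel₀ hsn, one_smul])
      have hAd : A.det = r ^ (m + 1) := by
        rw [LinearMap.det_toMatrix, LinearMap.det_smul, hn, hdet, hdx, mul_pow, ← mul_assoc,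
          inv_pow, inv_mul_cancel₀ (pow_ne_zero _ hsn), one_mul]
      have hr0 : r ≠ 0 := fun h => hxd (by rw [hdx, h, mul_zero])
      obtain ⟨L, U, ⟨P, hPd, hPA⟩, hL, hL1, hU, hUd⟩ := CfsgLib.SpecLin.exists_similar_lu A
        (Or.inr hAns) (by rw [hAd]; exact pow_ne_zero _ hr0) (fun _ => r)
        (by rw [hAd]; simp)
      have hLt : L.BlockTriangular OrderDual.toDual := fun i j h => hL i j h
      have hLd : L.det = 1 := by
        rw [Matrix.det_of_lowerTriangular L hLt, Finset.prod_eq_one fun i _ => hL1 i]
      letI := L.invertibleOfIsUnitDet (by rw [hLd]; exact isUnit_one)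
      have hLi := Matrix.blockTriangular_inv_of_blockTriangular hLt
      have hLiL : L⁻¹ * L = 1 := Matrix.nonsing_inv_mul L (by rw [hLd]; exact isUnit_one)
      have hLid : ∀ k, L⁻¹ k k = 1 := fun k => by
        have h1 := congrFun (congrFun hLiL k) k
        rw [Matrix.mul_apply, Finset.sum_eq_single k (fun j _ hj => by
          rcases lt_or_gt_of_ne hj with h | h
          · rw [hL j k h, mul_zero]
          · rw [hLi (show OrderDual.toDual j < OrderDual.toDual k from h), zero_mul])
          (fun h => absurd (Finset.mem_univ k) h), hL1, mul_one, Matrix.one_apply_eq] at h1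
        exact h1
      let W : Fin (m + 1) → Fin (m + 1) → K := fun k j =>
        if j < k then -(L⁻¹ k j) else U k j - if j = k then 1 else 0
      have hseq : ∀ z k, Matrix.toLin' (L * U) z k =
          z k + ∑ j, W k j * if j < k then Matrix.toLin' (L * U) z j else z j := by
        intro z k
        set y := Matrix.toLin' (L * U) z
        have h1 : L⁻¹.mulVec y = U.mulVec z := by
          simp [y, Matrix.toLin'_apply, Matrix.mulVec_mulVec, ← mul_assoc, hLiL]
        have h2 := congrFun h1 k
        simp only [Matrix.mulVec, dotProduct] at h2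
        have e : ∀ j, (W k j * if j < k then y j else z j) =
            U k j * z j - L⁻¹ k j * y j + if j = k then y k - z k else 0 := fun j => by
          rcases lt_trichotomy j k with h | h | h
          · simp [W, h, h.ne, hU k j h]
          · subst h; simp [W, hLid]; ring
          · simp [W, h.ne', not_lt.2 h.le, hLi (show OrderDual.toDual j < OrderDual.toDual k from h)]
        simp only [e, Finset.sum_add_distrib, Finset.sum_sub_distrib, h2, Finset.sum_ite_eq',
          Finset.mem_univ, if_true]
        ring
      refine of_seq hn hx hb hβ hs W (fun k => by simp [W, hUd, hr1])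
        (fun k => ⟨k, by simp [W, hUd, hrne]⟩) _ hseq g ?_
      have hsim : Cj (Matrix.toLin' (L * U)) ((s ^ (m + 1))⁻¹ • g) := by
        have h1 : Cj ((s ^ (m + 1))⁻¹ • g) (Matrix.toLin' A) := ⟨bv.equivFun, fun v => by
          simp [A, Matrix.toLin'_apply, LinearMap.toMatrix_mulVec_repr]⟩
        have h2 : Cj (Matrix.toLin' A) (Matrix.toLin' (L * U)) := by
          refine ⟨LinearMap.equivOfDetNeZero (Matrix.toLin' P)
            (by rw [LinearMap.det_toLin']; exact hPd), fun v => ?_⟩
          show Matrix.toLin' P (Matrix.toLin' A v) = Matrix.toLin' (L * U) (Matrix.toLin' P v)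
          rw [← LinearMap.comp_apply, ← Matrix.toLin'_mul, hPA, Matrix.toLin'_mul,
            LinearMap.comp_apply]
        exact (h1.trans h2).symm
      obtain ⟨e, he⟩ := hsim
      refine ⟨e, fun v => ?_⟩
      rw [LinearMap.smul_apply, map_smul, he, LinearMap.smul_apply, smul_smul, mul_inv_cancel₀ hsn,
        one_smul]
    · let W : Fin n → Fin n → K := fun k j => if j = k then r - 1 else 0
      refine of_seq hn hx hb hβ hs W (fun k => by simp [W, hr1]) (fun k => ⟨k, by simp [W, hrne]⟩)
        (r • 1) (fun z k => by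
          rw [Finset.sum_eq_single k (fun j _ hj => by simp [W, hj])
            (fun h => absurd (Finset.mem_univ k) h)]
          simp [W]
          ring) _ ?_
      exact ⟨(Module.finBasisOfFinrankEq K V hn).equivFun.symm, fun v => by
        simp [smul_smul, Finset.smul_sum, mul_comm]⟩

end CfsgLib.SLCover
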