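import Cfsg.Agent.Lib.SLCover.Bottom

/-!
# Peeling an eigenvalue
-/

set_option autoImplicit false
set_option linter.unusedSectionVars false

namespace CfsgLib.SLCover

open Module Polynomial CfsgLib.SLComm

universe u

variable {K : Type u} [Field K]
variable {V W : Type u} [AddCommGroup V] [Module K V] [AddCommGroup W] [Module K W]
  [FiniteDimensional K V] [FiniteDimensional K W]

theorem line_le (c : V) : finrank K (K ∙ c) ≤ 1 := (finrank_span_le_card _).trans (by simp)

theorem frame_mem (f : (K × W) ≃ₗ[K] V) (z : V) : (f.symm z).2 = 0 ↔ z ∈ (K ∙ f (1, 0)) := by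
  constructor
  · intro h
    refine Submodule.mem_span_singleton.2 ⟨(f.symm z).1, ?_⟩
    rw [← map_smul]
    refine (f.symm_apply_eq.1 ?_).symm
    exact Prod.ext (by simp) (by simp [h])
  · intro h
    obtain ⟨a, rfl⟩ := Submodule.mem_span_singleton.1 h
    simp

theorem frQuo_scalar (f : (K × W) ≃ₗ[K] V) {U : End K V} {s : K} (h : frQuo f U = s • 1)
    {c : K} (hU : U (f (1, 0)) = c • f (1, 0)) (z : V) :
    U z - s • z ∈ (K ∙ f (1, 0)) := by
  obtain ⟨p, rfl⟩ := f.surjective z
  rw [← frame_mem, frame_upper f hU, map_sub, map_smul, LinearEquiv.symm_apply_apply,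
    LinearEquiv.symm_apply_apply]
  simp [h]

theorem hasEig_iff {x : End K V} : ¬ NoEig x ↔ ∃ v, v ≠ 0 ∧ ∃ t : K, x v = t • v := by
  simp only [NoEig, not_forall, not_not]
  constructor
  · rintro ⟨v, hv, t, ht⟩; exact ⟨v, hv, t, ht⟩
  · rintro ⟨v, hv, t, ht⟩; exact ⟨v, hv, t, ht⟩

theorem eig_ne_zero {x : End K V} (hxd : LinearMap.det x ≠ 0) {v : V} (hv : v ≠ 0) {t : K}
    (h : x v = t • v) : t ≠ 0 := by
  rintro rfl
  obtain ⟨xi, hxi, -, -⟩ := exists_inv hxd
  exact hv (by rw [← show xi (x v) = v from LinearMap.congr_fun hxi v, h, zero_smul, map_zero])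

/-- An eigenline with a quotient which is not scalar. -/
theorem exists_line {k : ℕ} (hn : finrank K V = k + 1) (hk : 2 ≤ k) {x : End K V} (hx : NS x)
    (he : ¬ NoEig x) :
    ∃ (lam : K) (f : (K × (Fin k → K)) ≃ₗ[K] V),
      x (f (1, 0)) = lam • f (1, 0) ∧ NS (frQuo f x) := by
  obtain ⟨e, he0, lam, hlam⟩ := hasEig_iff.1 he
  obtain ⟨f, hf⟩ := exists_frame hn he0
  by_cases hns : NS (frQuo f x)
  · exact ⟨lam, f, by rw [hf, hlam], hns⟩
  simp only [NS, not_forall, not_not] at hns
  obtain ⟨s, hs⟩ := hns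
  have hmem := frQuo_scalar f hs (c := lam) (by rw [hf, hlam])
  rw [hf] at hmem
  obtain ⟨φ, hφ, -⟩ :=
    CfsgLib.TwoJordan.exists_dual_one (p := (⊥ : Submodule K V)) (x := e) (by simpa using he0)
  set β : V →ₗ[K] K := φ ∘ₗ (x - s • 1) with hβdef
  have hx' : ∀ z, x z = s • z + β z • e := fun z => by
    obtain ⟨a, ha⟩ := Submodule.mem_span_singleton.1 (hmem z)
    have : β z = a := by simp [hβdef, ← map_sub, ← map_smul, ← ha, hφ]
    rw [this, ha]; abel
  have hβ : β ≠ 0 := fun h => hx s (LinearMap.ext fun z => by simp [hx', h])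
  have hker : 2 ≤ finrank K (LinearMap.ker β) := by
    have := LinearMap.finrank_range_add_finrank_ker β
    have := Submodule.finrank_le (LinearMap.range β)
    rw [finrank_self] at this
    omega
  have outside : ∀ c : V, ∃ z, β z = 0 ∧ z ∉ (K ∙ c) := fun c => by
    by_contra h
    push Not at h
    have := (Submodule.finrank_mono (show LinearMap.ker β ≤ (K ∙ c) from
      fun z hz => h z (LinearMap.mem_ker.1 hz))).trans (line_le _)
    omega
  obtain ⟨e', he'0, he'⟩ := outside e
  have he'ne : e' ≠ 0 := fun h => he' (h ▸ Submodule.zero_mem _)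
  obtain ⟨f', hf'⟩ := exists_frame hn he'ne
  refine ⟨s, f', by rw [hf', hx', he'0, zero_smul, add_zero], fun t ht => ?_⟩
  have hmem' := frQuo_scalar f' ht (c := s) (by rw [hf', hx', he'0, zero_smul, add_zero])
  rw [hf'] at hmem'
  obtain ⟨z, hz0, hz⟩ := outside e'
  have hts : t = s := by
    by_contra hne
    have h1 := hmem' z
    rw [hx', hz0, zero_smul, add_zero, ← sub_smul] at h1
    exact hz ((Submodule.smul_mem_iff _ (sub_ne_zero.2 (Ne.symm hne))).1 h1)
  obtain ⟨z', hz'⟩ := LinearMap.surjective hβ 1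
  have h2 := hmem' z'
  rw [hx', hts, hz', one_smul, add_sub_cancel_left] at h2
  obtain ⟨a, ha⟩ := Submodule.mem_span_singleton.1 h2
  rcases eq_or_ne a 0 with rfl | ha0
  · exact he0 (by simpa using ha.symm)
  · refine he' (Submodule.mem_span_singleton.2 ⟨a⁻¹, ?_⟩)
    rw [← ha, smul_smul, inv_mul_cancel₀ ha0, one_smul]

/-- A conjugate with two prescribed values. -/
theorem pin (hn : 3 ≤ finrank K V) {x : End K V} (hxd : LinearMap.det x ≠ 0) {a₀ v w : V}
    (ha : ∀ t : K, x a₀ ≠ t • a₀) (hv : v ≠ 0) (hw : ∀ t : K, w ≠ t • v) :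
    ∃ (P y yi : End K V), LinearMap.det P = 1 ∧ P a₀ = v ∧ P (x a₀) = w ∧
      (∀ z, y (P z) = P (x z)) ∧ CjD 1 x y ∧ yi * y = 1 ∧ y * yi = 1 ∧ y v = w := by
  have ha0 : a₀ ≠ 0 := by rintro rfl; exact ha 0 (by simp)
  obtain ⟨P, hP, hPab⟩ := exists_cjD_family (k := 2) (by omega) (linIndep_pair ha0 ha)
    (linIndep_pair hv hw) (one_ne_zero (α := K))
  obtain ⟨y, hy, hyP⟩ := exists_conj_map (P := P) (by rw [hP]; exact one_ne_zero) x
  rw [hP] at hy
  obtain ⟨yi, h1, h2, -⟩ := exists_inv (g := y) (by rw [(hy.cj one_ne_zero).det_eq]; exact hxd)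
  have e0 : P a₀ = v := hPab 0
  have e1 : P (x a₀) = w := hPab 1
  exact ⟨P, y, yi, hP, e0, e1, hyP, hy, h1, h2, by rw [← e0, hyP, e1]⟩

/-- Conjugating by a transvection along the fixed vector. -/
theorem vary (f : (K × W) ≃ₗ[K] V) {g gi y yi : End K V} {w : V} {c : K} (hc : c ≠ 0)
    (hgi : gi * g = 1) (hyi : yi * y = 1) (hyi' : y * yi = 1) (hyv : y (f (1, 0)) = w)
    (hgv : g (f (1, 0)) = c • w) (q : W →ₗ[K] K) (hq : q (f.symm (gi (f (1, 0)))).2 = 0) :
    ∃ y' yi', CjD 1 y y' ∧ yi' * y' = 1 ∧ y' * yi' = 1 ∧ y' (f (1, 0)) = w ∧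
      frQuo f (yi' * g) = frQuo f (yi * g) - q.smulRight (f.symm (yi (f (1, 0)))).2 := by
  set v := f (1, 0) with hv
  let ψ : V →ₗ[K] K := q ∘ₗ LinearMap.snd K K W ∘ₗ (f.symm : V →ₗ[K] K × W) ∘ₗ gi
  have hψ : ∀ z, ψ z = q (f.symm (gi z)).2 := fun z => rfl
  have hψv : ψ v = 0 := by rw [hψ]; exact hq
  have hψg : ∀ z, ψ (g z) = q (f.symm z).2 := fun z => by
    rw [hψ, show gi (g z) = z from LinearMap.congr_fun hgi z]
  have hψw : ψ w = 0 := by
    have h1 : c * ψ w = 0 := by
      rw [← smul_eq_mul, ← map_smul, ← hgv, hψg, (frame_mem f v).2 (Submodule.mem_span_singleton_self v),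
        map_zero]
    exact (mul_eq_zero.1 h1).resolve_left hc
  let s : End K V := LinearMap.transvection ψ v
  let si : End K V := LinearMap.transvection (-ψ) v
  have hs : ∀ z, s z = z + ψ z • v := fun z => LinearMap.transvection.apply ψ v z
  have hsi : ∀ z, si z = z + -(ψ z) • v := fun z => LinearMap.transvection.apply (-ψ) v z
  have h1 : si * s = 1 := LinearMap.ext fun z => by simp [hs, hsi, hψv]
  have h2 : s * si = 1 := LinearMap.ext fun z => by simp [hs, hsi, hψv]
  refine ⟨s * y * si, s * yi * si, ⟨s, by simp [s, LinearMap.transvection.det, hψv], by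
    rw [mul_assoc (s * y), h1, mul_one]⟩, ?_, ?_, ?_, LinearMap.ext fun w' => ?_⟩
  · calc s * yi * si * (s * y * si) = s * yi * (si * s) * (y * si) := by simp only [mul_assoc]
      _ = s * (yi * y) * si := by rw [h1, mul_one]; simp only [mul_assoc]
      _ = 1 := by rw [hyi, mul_one, h2]
  · calc s * y * si * (s * yi * si) = s * y * (si * s) * (yi * si) := by simp only [mul_assoc]
      _ = s * (y * yi) * si := by rw [h1, mul_one]; simp only [mul_assoc]
      _ = 1 := by rw [hyi', mul_one, h2]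
  · simp [hsi, hψv, hyv, hs, hψw]
  · have e1 : si (g (f (0, w'))) = g (f (0, w')) - q w' • v := by
      rw [hsi, hψg]; simp [sub_eq_add_neg]
    have e2 : (f.symm v).2 = 0 := (frame_mem f v).2 (Submodule.mem_span_singleton_self v)
    simp only [LinearMap.sub_apply, LinearMap.smulRight_apply, frQuo_apply, Module.End.mul_apply,
      e1, hs, map_add, map_sub, map_smul, Prod.snd_add, Prod.snd_sub, Prod.smul_snd, e2, smul_zero,
      add_zero, sub_zero]

/-- If all variations of the quotient are scalar plus rank one, the map follows the conjugate. -/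
theorem pse_step [Fintype K] (hq : 4 ≤ Fintype.card K) (hW : 3 ≤ finrank K W)
    (f : (K × W) ≃ₗ[K] V) {g gi y yi : End K V} {w : V} {c : K} (hc : c ≠ 0)
    (hgi : gi * g = 1) (hyi : yi * y = 1) (hyi' : y * yi = 1) (hyv : y (f (1, 0)) = w)
    (hgv : g (f (1, 0)) = c • w) (hw : ∀ t : K, w ≠ t • f (1, 0))
    (hall : ∀ q : W →ₗ[K] K, q (f.symm (gi (f (1, 0)))).2 = 0 →
      Pse (frQuo f (yi * g) - q.smulRight (f.symm (yi (f (1, 0)))).2)) :
    ∃ μ : K, ∀ z, g z - μ • y z ∈ Submodule.span K ({f (1, 0), g (f (1, 0))} : Set V) := by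
  classical
  set v := f (1, 0) with hv
  set B := frQuo f (yi * g) with hB
  set ā := (f.symm (yi v)).2 with hā
  set h' := (f.symm (gi v)).2 with hh'
  obtain ⟨μ, b, β, hBμ⟩ : Pse B := by simpa using hall 0 (by simp)
  by_cases hdep : ∃ φ : W →ₗ[K] K, ∀ z, B z = μ • z + φ z • ā
  · obtain ⟨φ, hφ⟩ := hdep
    refine ⟨μ, fun z => ?_⟩
    have hv2 : (f.symm v).2 = 0 := (frame_mem f v).2 (Submodule.mem_span_singleton_self v)
    have hUv : (yi * g) v = c • v := by
      rw [Module.End.mul_apply, hgv, map_smul, ← hyv, ← Module.End.mul_apply, hyi,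
        Module.End.one_apply]
    have hmem : (yi * g) z - μ • z - φ (f.symm z).2 • yi v ∈ (K ∙ v) := by
      rw [hv, ← frame_mem]
      obtain ⟨p, rfl⟩ := f.surjective z
      rw [frame_upper f hUv]
      simp [← hv, ← hā, ← hB, hφ]
    obtain ⟨a, ha⟩ := Submodule.mem_span_singleton.1 hmem
    have h1 := congrArg y ha
    have hyy : ∀ u, y (yi u) = u := fun u => LinearMap.congr_fun hyi' u
    simp only [map_smul, map_sub, Module.End.mul_apply, hyy, hyv] at h1
    refine Submodule.mem_span_pair.2 ⟨φ (f.symm z).2, a / c, ?_⟩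
    rw [hgv, smul_smul, div_mul_cancel₀ a hc, h1]
    abel
  exfalso
  have hb : ∀ a : K, b ≠ a • ā := fun a ha => hdep ⟨a • β, fun z => by
    rw [hBμ, ha, smul_smul, LinearMap.smul_apply, smul_eq_mul, mul_comm a]⟩
  have hβ : β ≠ 0 := fun h => hdep ⟨0, fun z => by rw [hBμ, h]; simp⟩
  have hb0 : b ≠ 0 := fun h => hb 0 (by simp [h])
  obtain ⟨z, hzβ, hz⟩ : ∃ z, β z = 0 ∧ z ∉ (K ∙ h') := by
    by_contra h
    push Not at h
    have := (Submodule.finrank_mono (show LinearMap.ker β ≤ (K ∙ h') from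
      fun z hz => h z (LinearMap.mem_ker.1 hz))).trans (line_le _)
    have := LinearMap.finrank_range_add_finrank_ker β
    have := Submodule.finrank_le (LinearMap.range β)
    rw [finrank_self] at this
    omega
  obtain ⟨q, hqz, hq0⟩ := CfsgLib.TwoJordan.exists_dual_one hz
  have hqh : q h' = 0 := hq0 _ (Submodule.mem_span_singleton_self _)
  obtain ⟨z₂, hz₂⟩ := LinearMap.surjective hβ 1
  obtain ⟨z₃, hz₃, hz₃0⟩ := (LinearMap.ker (β.prod q)).exists_mem_ne_zero_of_ne_bot fun h => by
    have := LinearMap.finrank_range_add_finrank_ker (β.prod q)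
    rw [h, finrank_bot] at this
    have := Submodule.finrank_le (LinearMap.range (β.prod q))
    rw [finrank_prod, finrank_self] at this
    omega
  replace hz₃ : β z₃ = 0 ∧ q z₃ = 0 := Prod.mk_eq_zero.1 (LinearMap.mem_ker.1 hz₃)
  have key : ∀ t : K, t ≠ 0 → ā ≠ 0 → t * q ā = β b ∧ β b ≠ 0 := by
    intro t ht hā0
    obtain ⟨μ', b', β', h⟩ := hall (-(t • q)) (by simp [← hh', hqh])
    have hR : ∀ u, β u • b + (t * q u) • ā = (μ' - μ) • u + β' u • b' := fun u => by
      have := h u
      simp only [LinearMap.sub_apply, LinearMap.smulRight_apply, LinearMap.neg_apply,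
        LinearMap.smul_apply, smul_eq_mul, hBμ, ← hā] at this
      linear_combination (norm := module) this
    set d := μ' - μ
    rcases eq_or_ne d 0 with hd | hd
    · exfalso
      have e1 := hR z
      rw [hzβ, hqz, hd, zero_smul, zero_smul, zero_add, zero_add, mul_one] at e1
      have hb'0 : β' z ≠ 0 := fun h0 => hā0 (by
        rw [h0, zero_smul, smul_eq_zero] at e1
        exact e1.resolve_left ht)
      have e3 : b' = ((β' z)⁻¹ * t) • ā := by
        rw [mul_smul, e1, smul_smul, inv_mul_cancel₀ hb'0, one_smul]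
      have e2 := hR z₂
      rw [hz₂, hd, zero_smul, zero_add, one_smul, e3, smul_smul] at e2
      exact hb (β' z₂ * ((β' z)⁻¹ * t) - t * q z₂) (by rw [sub_smul, ← e2, add_sub_cancel_right])
    · have e3 := hR z₃
      rw [hz₃.1, hz₃.2, mul_zero, zero_smul, zero_smul, zero_add] at e3
      have hb'z : β' z₃ ≠ 0 := fun h0 => hz₃0 (by
        rw [h0, zero_smul, add_zero, eq_comm, smul_eq_zero] at e3
        exact e3.resolve_left hd)
      have hb' : b' = (-(β' z₃)⁻¹ * d) • z₃ := by
        rw [mul_smul, eq_neg_of_add_eq_zero_left e3.symm, smul_neg, neg_smul, neg_neg, smul_smul,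
          inv_mul_cancel₀ hb'z, one_smul]
      have hβb' : β b' = 0 := by rw [hb', map_smul, hz₃.1, smul_zero]
      have hqb' : q b' = 0 := by rw [hb', map_smul, hz₃.2, smul_zero]
      have hβR : ∀ u, β u * β b + t * q u * β ā = d * β u := fun u => by
        simpa [hβb'] using congrArg β (hR u)
      have hqR : ∀ u, β u * q b + t * q u * q ā = d * q u := fun u => by
        simpa [hqb'] using congrArg q (hR u)
      have h1 := hβR z
      rw [hzβ, hqz, zero_mul, zero_add, mul_one, mul_zero, mul_eq_zero, or_iff_right ht] at h1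
      have h2 := hβR z₂
      rw [hz₂, h1, mul_zero, add_zero, one_mul, mul_one] at h2
      have h3 := hqR z
      rw [hzβ, hqz, zero_mul, zero_add, mul_one, mul_one] at h3
      exact ⟨h3.trans h2.symm, h2 ▸ hd⟩
  obtain ⟨t, ht⟩ := exists_scalar_avoid ({0, 1} : Finset K)
    (lt_of_le_of_lt Finset.card_le_two (by omega))
  simp at ht
  have hā0 : ā ≠ 0 := fun h0 => by
    obtain ⟨r, hr⟩ := Submodule.mem_span_singleton.1 ((frame_mem f (yi v)).1 h0)
    have h1 := congrArg y hr
    rw [map_smul, hyv, show y (yi v) = v from LinearMap.congr_fun hyi' v] at h1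
    rcases eq_or_ne r 0 with hr0 | hr0
    · rw [hr0, zero_smul] at h1
      exact absurd (f.injective ((hv ▸ h1.symm : f (1, 0) = 0).trans (map_zero f).symm)) (by simp)
    · exact hw r⁻¹ (by rw [← h1, smul_smul, inv_mul_cancel₀ hr0, one_smul])
  have a1 := key 1 one_ne_zero hā0
  have a2 := key t ht.1 hā0
  rw [one_mul] at a1
  refine ht.2 (mul_right_cancel₀ (b := q ā) (by rw [a1.1]; exact a1.2) ?_)
  rw [a2.1, one_mul, a1.1]

end CfsgLib.SLCover
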