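import Cfsg.Agent.Lib.SLCover.Peel
import Cfsg.Agent.Lib.SLCover.Pseudo

/-!
# Products of triangular conjugates
-/

set_option autoImplicit false
set_option linter.unusedSectionVars false

namespace CfsgLib.SLCover

open Module Polynomial CfsgLib.SLComm

universe u

variable {K : Type u} [Field K] [Fintype K]
variable {V W : Type u} [AddCommGroup V] [Module K V] [AddCommGroup W] [Module K W]
  [FiniteDimensional K V] [FiniteDimensional K W]

theorem forall2_of_zip {α β : Type*} {P : α → β → Prop} : ∀ (L : List α) (M : List β),
    L.length = M.length → (∀ p ∈ L.zip M, P p.1 p.2) → List.Forall₂ P L M := by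
  intro L
  induction L with
  | nil =>
    intro M h _
    cases M with
    | nil => exact List.Forall₂.nil
    | cons => simp at h
  | cons a L ih =>
    intro M h hP
    cases M with
    | nil => simp at h
    | cons b M =>
      exact List.Forall₂.cons (hP (a, b) (by simp))
        (ih M (by simpa using h) fun p hp => hP p (by simp [hp]))

/-- Triangular conjugates with scalar product. -/
theorem tri : ∀ (k : ℕ) (V : Type u) [AddCommGroup V] [Module K V] [FiniteDimensional K V],
    finrank K V = k → ∀ {ι : Type} (L : List ι) (x : ι → End K V) (d : ι → Fin k → K) (ζ : K),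
    (∀ e ∈ L, Split (x e) (List.ofFn (d e)) ∧ ∀ j, d e j ≠ 0) →
    (∀ j, (L.map fun e => d e j).prod = ζ) →
    Function.Injective (fun j => L.map fun e => d e j) →
    ∃ Ys : List (End K V), List.Forall₂ (fun e Y => CjD 1 (x e) Y) L Ys ∧ Ys.prod = ζ • 1 ∧
      ∀ b : V, b ≠ 0 → ∀ μs : List K, List.Forall₂ (fun Y μ => Y b = μ • b) Ys μs →
        ∃ j, μs = L.map fun e => d e j := by
  intro k
  induction k with
  | zero =>
    intro V _ _ _ hn ι L x d ζ _ _ _
    have : Subsingleton V := Module.finrank_zero_iff.1 hn
    exact ⟨L.map x, List.forall₂_map_right_iff.2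
      (List.forall₂_same.2 fun e _ => ⟨1, map_one _, (one_mul _).trans (mul_one _).symm⟩),
      LinearMap.ext fun v => Subsingleton.elim _ _, fun b hb => absurd (Subsingleton.elim b 0) hb⟩
  | succ k ih =>
    intro V _ _ _ hn ι L x d ζ hL hprod hinj
    haveI : Nontrivial V := Module.nontrivial_of_finrank_pos (R := K) (by omega)
    have hdata : ∀ e : ι, ∃ (r : (Fin k → K) →ₗ[K] K) (x' : End K (Fin k → K)), e ∈ L →
        Cj (upper (d e 0 • (1 : End K K)) r x') (x e) ∧
          Split x' (List.ofFn fun j => d e j.succ) := by
      intro e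
      by_cases he : e ∈ L
      swap
      · exact ⟨0, 1, fun h => absurd h he⟩
      obtain ⟨hs, -⟩ := hL e he
      obtain ⟨w, hw⟩ := ((Module.End.hasEigenvalue_iff_isRoot_charpoly (x e) (d e 0)).2 (by
        rw [IsRoot, hs, List.ofFn_succ, List.map_cons, List.prod_cons]
        simp)).exists_hasEigenvector
      obtain ⟨f, hf⟩ := exists_frame hn hw.2
      have he' : x e (f (1, 0)) = d e 0 • f (1, 0) := by rw [hf]; exact hw.apply_eq_smul
      refine ⟨frRow f (x e), frQuo f (x e), fun _ => ⟨cj_frame f he', ?_⟩⟩
      have h1 := (cj_frame f he').charpoly_eq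
      rw [hs, charpoly_upper, split_line, List.ofFn_succ, List.map_cons, List.prod_cons] at h1
      simp only [List.map_cons, List.map_nil, List.prod_cons, List.prod_nil, mul_one] at h1
      exact (mul_left_cancel₀ (X_sub_C_ne_zero _) h1).symm
    choose r x' hx' using hdata
    obtain ⟨Ys', hYs', hprod', hinv'⟩ := ih (Fin k → K) (by rw [finrank_fin_fun]) L x'
      (fun e j => d e j.succ) ζ (fun e he => ⟨(hx' e he).2, fun j => (hL e he).2 _⟩)
      (fun j => hprod _) (fun i j h => Fin.succ_inj.1 (hinj h))
    have hlen := hYs'.length_eq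
    have hfst : (L.zip Ys').map Prod.fst = L := List.map_fst_zip hlen.le
    have hsnd : (L.zip Ys').map Prod.snd = Ys' := List.map_snd_zip hlen.ge
    obtain ⟨v, hv⟩ := exists_ne (0 : V)
    obtain ⟨f, hf⟩ := exists_frame hn hv
    have hlam : (L.zip Ys').map (fun p => d p.1 0) = L.map fun e => d e 0 := by
      conv_rhs => rw [← hfst, List.map_map]
      rfl
    obtain ⟨Ys, hYs, hprodY⟩ := lift_all (fun p : ι × End K (Fin k → K) => d p.1 0) (fun p => p.2)
      (fun p => x p.1) f (L.zip Ys') (fun p hp => by
        have hp1 : p.1 ∈ L := (List.of_mem_zip hp).1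
        have hp2 : CjD 1 (x' p.1) p.2 := List.forall₂_zip hYs' hp
        exact ⟨(hL _ hp1).2 0, r p.1, x' p.1, (hx' _ hp1).1, hp2.cj one_ne_zero⟩)
      (fun b hb => by
        by_contra hcn
        push Not at hcn
        have h1 : List.Forall₂ (fun Y μ => Y b = μ • b) Ys' (L.map fun e => d e 0) :=
          (List.forall₂_map_left_iff.2 (forall2_of_zip L Ys' hlen
            fun p hp => hcn p hp)).flip
        obtain ⟨j, hj⟩ := hinv' b hb _ h1
        exact Fin.succ_ne_zero j (hinj hj.symm))
      (ζ • (1 : End K V)) (by rw [hlam, hprod]; simp) (by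
        rw [hsnd, hprod']
        refine LinearMap.ext fun w => ?_
        rw [frQuo_apply]
        simp)
    refine ⟨Ys, ?_, hprodY, fun b hb μs hμ => ?_⟩
    · rw [← hfst]
      exact List.forall₂_map_left_iff.2 (hYs.imp fun _ _ h => h.1)
    · rcases lift_eigen (hYs.imp fun _ _ h => h.2) hb hμ with ⟨-, h⟩ | ⟨hne, h⟩
      · exact ⟨0, by rw [h, hlam]⟩
      · have h' : List.Forall₂ (fun Y μ => Y (f.symm b).2 = μ • (f.symm b).2)
            ((L.zip Ys').map Prod.snd) μs := List.forall₂_map_left_iff.2 h
        rw [hsnd] at h'
        obtain ⟨j, hj⟩ := hinv' _ hne _ h'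
        exact ⟨j.succ, hj⟩

theorem getElem_rot {a : List K} {n : ℕ} (hn : a.length = n) (i : ℕ) :
    List.ofFn (fun j : Fin n => a[(i + j.val) % n]'(by
      rw [hn]; exact Nat.mod_lt _ (Nat.pos_of_ne_zero fun h => by subst h; exact j.elim0))) =
      a.rotate i := by
  subst hn
  refine List.ext_getElem (by simp) fun j h1 h2 => ?_
  rw [List.getElem_ofFn, List.getElem_rotate]
  simp [add_comm]

/-- A split map with two eigenvalues. -/
theorem split_two [DecidableEq K] {n : ℕ} (hn : finrank K V = n) {x : End K V} (hxd : LinearMap.det x ≠ 0)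
    {ts : List K} (hs : Split x ts) {t u : K} (ht : t ∈ ts) (hu : u ∈ ts) (htu : u ≠ t) :
    ∃ z : K, Prodn x n (z • (1 : End K V)) := by
  classical
  have hlen : ts.length = n := by
    have h1 := congrArg natDegree hs
    rw [LinearMap.charpoly_natDegree, ← Multiset.prod_coe, ← Multiset.map_coe,
      natDegree_multiset_prod_X_sub_C_eq_card, Multiset.coe_card] at h1
    omega
  have hne : ∀ s ∈ ts, s ≠ 0 := fun s hs' h0 => hxd (by
    rw [LinearMap.det_eq_sign_charpoly_coeff, hs, coeff_zero_eq_eval_zero, eval_list_prod,
      List.prod_eq_zero (List.mem_map.2 ⟨X - C s, List.mem_map.2 ⟨s, hs', rfl⟩, by simp [h0]⟩),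
      mul_zero])
  set c := ts.count t with hc
  set rest := ts.filter (fun s => decide (s ≠ t)) with hrest
  let a : List K := List.replicate c t ++ rest
  have hperm : a.Perm ts := by
    refine List.perm_iff_count.2 fun s => ?_
    simp only [a, hrest, List.count_append, List.count_replicate]
    rcases eq_or_ne s t with rfl | hst
    · have : (ts.filter fun x => decide (x ≠ s)).count s = 0 :=
        List.count_eq_zero.2 fun h => by simp at h
      simp [hc]
      exact List.count_eq_zero.2 fun h => by simp at h
    · rw [List.count_filter (by simpa using hst)]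
      simp [hst, Ne.symm hst]
  have hal : a.length = n := hperm.length_eq.trans hlen
  have hc0 : 0 < c := List.count_pos_iff.2 ht
  have hcn : c < n := by
    have h1 : rest ≠ [] := fun h => by
      have : u ∈ rest := List.mem_filter.2 ⟨hu, by simpa using htu⟩
      simp [h] at this
    have := List.length_pos_of_ne_nil h1
    simp [a] at hal
    omega
  have hlow : ∀ i (h : i < a.length), i < c → a[i] = t := fun i h hi => by
    simp [a, List.getElem_append, hi]
  have hhigh : a[c]'(by omega) ≠ t := by
    simp [a, List.getElem_append]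
    exact fun h => by
      have hmem := List.getElem_mem (l := rest) (n := 0) (by
        have : rest.length = n - c := by simp [a] at hal; omega
        omega)
      rw [h] at hmem
      simp [hrest] at hmem
  let d : Fin n → Fin n → K := fun i j =>
    a[(i.val + j.val) % n]'(by rw [hal]; exact Nat.mod_lt _ (by omega))
  have hrow : ∀ i : Fin n, List.ofFn (d i) = a.rotate i := fun i => getElem_rot hal i.val
  have hcol : ∀ j : Fin n, ((List.finRange n).map fun i => d i j) = a.rotate j := fun j => by
    rw [← List.ofFn_eq_map, ← getElem_rot hal j.val]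
    congr 1
    funext i
    simp [d, add_comm]
  obtain ⟨Ys, hYs, hprod, -⟩ := tri n V hn (List.finRange n) (fun _ => x) d a.prod (fun i _ =>
      ⟨by rw [Split, hs, hrow]; exact (((List.rotate_perm a i).trans hperm).map _).prod_eq.symm,
        fun j => hne _ (hperm.subset (List.getElem_mem _))⟩)
    (fun j => by rw [hcol]; exact (List.rotate_perm a j).prod_eq) (fun j j' h => by
      by_contra hjj
      have key : ∀ p q : Fin n, p.val < q.val → a.rotate p = a.rotate q → False := by
        intro p q hpq h
        have hget : ∀ i, (hi : i < n) → a[(i + p.val) % n]'(by rw [hal]; exact Nat.mod_lt _ (by omega)) =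
            a[(i + q.val) % n]'(by rw [hal]; exact Nat.mod_lt _ (by omega)) := fun i hi => by
          have e : ∀ (p : ℕ), a[(i + p) % n]'(by rw [hal]; exact Nat.mod_lt _ (by omega)) =
              (a.rotate p)[i]'(by simp [hal, hi]) := fun p => by
            rw [List.getElem_rotate]; simp [hal]
          rw [e, e]
          simp [h]
        set δ := q.val - p.val with hδ
        have hshift : ∀ i, (hi : i + δ < n) → a[i]'(by omega) = a[i + δ]'(by omega) := by
          intro i hi
          have h1 := hget ((i + (n - p.val)) % n) (Nat.mod_lt _ (by omega))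
          have e1 : ((i + (n - p.val)) % n + p.val) % n = i := by
            rw [Nat.mod_add_mod, show i + (n - p.val) + p.val = i + n by omega, Nat.add_mod_right,
              Nat.mod_eq_of_lt (by omega)]
          have e2 : ((i + (n - p.val)) % n + q.val) % n = i + δ := by
            rw [Nat.mod_add_mod, show i + (n - p.val) + q.val = i + δ + n by omega,
              Nat.add_mod_right, Nat.mod_eq_of_lt hi]
          simpa [e1, e2] using h1
        have hδn : δ < n := by omega
        have hδc : δ < c := by
          by_contra hge
          have h0 := hshift 0 (by omega)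
          rw [hlow 0 (by omega) hc0] at h0
          have hmem : a[0 + δ]'(by omega) ∈ rest := by
            simp [a, List.getElem_append, show ¬ δ < c by omega]
          rw [← h0] at hmem
          simp [hrest] at hmem
        have h1 := hshift (c - δ) (by omega)
        rw [hlow (c - δ) (by omega) (by omega)] at h1
        refine hhigh (Eq.trans ?_ h1.symm)
        congr 1
        omega
      rcases lt_or_gt_of_ne (fun e => hjj (Fin.ext e)) with hlt | hlt
      · exact key j j' hlt (by simpa only [hcol] using h)
      · exact key j' j hlt (by simpa only [hcol] using h.symm))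
  exact ⟨a.prod, Ys, by rw [← hYs.length_eq, List.length_finRange],
    fun y hy => let ⟨_, _, h⟩ := forall2_right hYs hy; h, hprod⟩

end CfsgLib.SLCover
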